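import Mathlib.RepresentationTheory.Character
import Mathlib.RepresentationTheory.Irreducible
import Mathlib.RepresentationTheory.Maschke
import Mathlib.RepresentationTheory.FinGroupCharZero
import Mathlib.Analysis.Complex.Basic
import Mathlib.Analysis.Complex.Polynomial.Basic
import Mathlib.Algebra.Group.ConjFinite
import Mathlib.LinearAlgebra.Eigenspace.Semisimple
import Mathlib.LinearAlgebra.FreeModule.PID
import Mathlib.LinearAlgebra.Matrix.PosDef
import Mathlib.Analysis.Matrix.PosDef
import Mathlib.RingTheory.SimpleModule.Rank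
import Mathlib.LinearAlgebra.FiniteDimensional.Lemmas
import Mathlib.RingTheory.RootsOfUnity.Complex
import Cfsg.Prelude.Def_Characters
set_option linter.all false

/-!
# Core of complex character theory for finite groups

Basic API for `Cfsg.IsCharacter`, `Cfsg.IsIrrCharacter`, `Cfsg.IsClassFunction`, `Cfsg.classInner`:
transport from arbitrary finite-dimensional spaces, closure of characters under sums, products
and conjugation, first orthogonality, decomposition into irreducibles, completeness.
-/

set_option autoImplicit false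

open scoped ComplexConjugate
open Cfsg Representation Module

namespace Cfsg.Agent.Characters.Core

universe u v

variable {G : Type u} [Group G]

section transport

variable {V W : Type*} [AddCommGroup V] [Module ℂ V] [AddCommGroup W] [Module ℂ W]

/-- Transport of a representation along a linear equivalence. -/
noncomputable def transportRep (e : V ≃ₗ[ℂ] W) (ρ : Representation ℂ G V) :
    Representation ℂ G W where
  toFun g := e.conj (ρ g)
  map_one' := by ext x; simp
  map_mul' g h := by ext x; simp [LinearEquiv.conj_apply]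

theorem transportRep_apply (e : V ≃ₗ[ℂ] W) (ρ : Representation ℂ G V) (g : G) :
    transportRep e ρ g = e.conj (ρ g) := rfl

/-- The transported representation is equivalent to the original one. -/
noncomputable def transportEquiv (e : V ≃ₗ[ℂ] W) (ρ : Representation ℂ G V) :
    Representation.Equiv ρ (transportRep e ρ) :=
  Representation.Equiv.mk e (fun g => by ext x; simp [transportRep_apply, LinearEquiv.conj_apply])

theorem character_transportRep (e : V ≃ₗ[ℂ] W) (ρ : Representation ℂ G V) :
    (transportRep e ρ).character = ρ.character :=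
  (char_iso (transportEquiv e ρ)).symm

/-- Irreducibility is invariant under equivalence. -/
theorem isIrreducible_of_equiv {ρ : Representation ℂ G V} {σ : Representation ℂ G W}
    (e : Representation.Equiv ρ σ) (h : ρ.IsIrreducible) : σ.IsIrreducible := by
  rw [irreducible_iff_isSimpleModule_asModule] at h ⊢
  have e' : ρ.asModule ≃ₗ[MonoidAlgebra ℂ G] σ.asModule :=
    LinearEquiv.ofBijective (IntertwiningMap.equivLinearMapAsModule ρ σ e.toIntertwiningMap)
      e.toLinearEquiv.bijective
  exact IsSimpleModule.congr e'.symm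

theorem isIrreducible_transportRep (e : V ≃ₗ[ℂ] W) {ρ : Representation ℂ G V}
    (h : ρ.IsIrreducible) : (transportRep e ρ).IsIrreducible :=
  isIrreducible_of_equiv (transportEquiv e ρ) h

/-- Every finite-dimensional complex representation affords a character in the sense of
`IsCharacter`. -/
theorem isCharacter_of_rep [FiniteDimensional ℂ V] (ρ : Representation ℂ G V) :
    IsCharacter G ρ.character :=
  ⟨finrank ℂ V, transportRep (Module.finBasis ℂ V).equivFun ρ, character_transportRep _ _⟩

/-- Every finite-dimensional irreducible complex representation affords an irreducible character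
in the sense of `IsIrrCharacter`. -/
theorem isIrrCharacter_of_rep [FiniteDimensional ℂ V] (ρ : Representation ℂ G V)
    (h : ρ.IsIrreducible) : IsIrrCharacter G ρ.character :=
  ⟨finrank ℂ V, transportRep (Module.finBasis ℂ V).equivFun ρ,
    isIrreducible_transportRep _ h, character_transportRep _ _⟩

end transport

/-! ### Basic facts -/

theorem isIrr_isCharacter {χ : G → ℂ} (h : IsIrrCharacter G χ) : IsCharacter G χ := by
  obtain ⟨n, ρ, -, h⟩ := h
  exact ⟨n, ρ, h⟩

theorem isCharacter_isClassFunction {χ : G → ℂ} (h : IsCharacter G χ) : IsClassFunction G χ := by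
  obtain ⟨n, ρ, rfl⟩ := h
  intro g h
  exact char_conj ρ g h

theorem isIrr_isClassFunction {χ : G → ℂ} (h : IsIrrCharacter G χ) : IsClassFunction G χ :=
  isCharacter_isClassFunction (isIrr_isCharacter h)

theorem isCharacter_zero : IsCharacter G (0 : G → ℂ) := by
  refine ⟨0, Representation.trivial ℂ G _, ?_⟩
  ext g
  simp [character]

theorem isIrr_of_finrank_one {V : Type*} [AddCommGroup V] [Module ℂ V]
    (hV : finrank ℂ V = 1) (ρ : Representation ℂ G V) : ρ.IsIrreducible := by
  have : IsSimpleOrder (Submodule ℂ V) := is_simple_module_of_finrank_eq_one hV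
  have : Nontrivial (Subrepresentation ρ) := by
    refine ⟨⊥, ⊤, fun h => ?_⟩
    have : (⊥ : Submodule ℂ V) = ⊤ := congrArg Subrepresentation.toSubmodule h
    exact bot_ne_top this
  refine ⟨fun a => ?_⟩
  rcases eq_bot_or_eq_top a.toSubmodule with h | h
  · left; exact Subrepresentation.toSubmodule_injective h
  · right; exact Subrepresentation.toSubmodule_injective h

theorem isIrr_one : IsIrrCharacter G (1 : G → ℂ) := by
  have h := isIrrCharacter_of_rep (Representation.trivial ℂ G ℂ)
    (isIrr_of_finrank_one (by simp) _)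
  convert h using 1
  ext g
  simp [character, Representation.trivial]

theorem isCharacter_one : IsCharacter G (1 : G → ℂ) := isIrr_isCharacter isIrr_one

theorem isCharacter_add {χ ψ : G → ℂ} (hχ : IsCharacter G χ) (hψ : IsCharacter G ψ) :
    IsCharacter G (χ + ψ) := by
  obtain ⟨n, ρ, rfl⟩ := hχ
  obtain ⟨m, σ, rfl⟩ := hψ
  have := isCharacter_of_rep (ρ.prod σ)
  convert this using 1
  ext g
  exact (LinearMap.trace_prodMap' (ρ g) (σ g)).symm

theorem isCharacter_mul {χ ψ : G → ℂ} (hχ : IsCharacter G χ) (hψ : IsCharacter G ψ) :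
    IsCharacter G (χ * ψ) := by
  obtain ⟨n, ρ, rfl⟩ := hχ
  obtain ⟨m, σ, rfl⟩ := hψ
  have := isCharacter_of_rep (ρ.tprod σ)
  rwa [char_tensor] at this

theorem isCharacter_sum {ι : Type*} (s : Finset ι) {f : ι → G → ℂ}
    (hf : ∀ i ∈ s, IsCharacter G (f i)) : IsCharacter G (∑ i ∈ s, f i) := by
  classical
  induction s using Finset.induction_on with
  | empty => simpa using isCharacter_zero
  | insert a s ha ih =>
    rw [Finset.sum_insert ha]
    exact isCharacter_add (hf a (Finset.mem_insert_self _ _))
      (ih fun i hi => hf i (Finset.mem_insert_of_mem hi))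

theorem isCharacter_nsmul {χ : G → ℂ} (n : ℕ) (hχ : IsCharacter G χ) :
    IsCharacter G (n • χ) := by
  induction n with
  | zero => simpa using isCharacter_zero
  | succ n ih => rw [succ_nsmul]; exact isCharacter_add ih hχ

/-- the dual character -/
theorem isCharacter_inv {χ : G → ℂ} (hχ : IsCharacter G χ) :
    IsCharacter G (fun g => χ g⁻¹) := by
  obtain ⟨n, ρ, rfl⟩ := hχ
  have := isCharacter_of_rep ρ.dual
  convert this using 1
  ext g
  rw [char_dual]

/-- The value of a character at `1` is a natural number (the degree). -/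
theorem isCharacter_apply_one {χ : G → ℂ} (hχ : IsCharacter G χ) : ∃ n : ℕ, χ 1 = n := by
  obtain ⟨n, ρ, rfl⟩ := hχ
  exact ⟨n, by simp⟩

/-- The degree of an irreducible character is a positive natural number. -/
theorem isIrr_apply_one {χ : G → ℂ} (hχ : IsIrrCharacter G χ) : ∃ n : ℕ, 0 < n ∧ χ 1 = n := by
  obtain ⟨n, ρ, hρ, rfl⟩ := hχ
  refine ⟨n, ?_, by simp⟩
  rcases Nat.eq_zero_or_pos n with rfl | h
  · exfalso
    obtain ⟨a, b, hab⟩ := hρ.toNontrivial
    apply hab
    apply Subrepresentation.toSubmodule_injective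
    exact Subsingleton.elim _ _
  · exact h

theorem isIrr_apply_one_ne_zero {χ : G → ℂ} (hχ : IsIrrCharacter G χ) : χ 1 ≠ 0 := by
  obtain ⟨n, hn, h⟩ := isIrr_apply_one hχ
  rw [h]
  exact_mod_cast hn.ne'

theorem isIrr_ne_zero {χ : G → ℂ} (hχ : IsIrrCharacter G χ) : χ ≠ 0 := by
  intro h
  exact isIrr_apply_one_ne_zero hχ (by rw [h]; rfl)

/-- Pulling back a character along a homomorphism. -/
theorem isCharacter_comp {H : Type*} [Group H] (f : H →* G) {χ : G → ℂ} (hχ : IsCharacter G χ) :
    IsCharacter H (χ ∘ f) := by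
  obtain ⟨n, ρ, rfl⟩ := hχ
  exact ⟨n, ρ.comp f, rfl⟩

/-- Pulling back an irreducible character along a surjective homomorphism. -/
theorem isIrr_comp {H : Type*} [Group H] (f : H →* G) (hf : Function.Surjective f)
    {χ : G → ℂ} (hχ : IsIrrCharacter G χ) : IsIrrCharacter H (χ ∘ f) := by
  obtain ⟨n, ρ, hρ, rfl⟩ := hχ
  refine ⟨n, ρ.comp f, ?_, rfl⟩
  have hnt : Nontrivial (Subrepresentation (ρ.comp f)) := by
    obtain ⟨a, b, hab⟩ := hρ.toNontrivial
    refine ⟨⟨a.toSubmodule, fun g v hv => a.apply_mem_toSubmodule (f g) hv⟩,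
      ⟨b.toSubmodule, fun g v hv => b.apply_mem_toSubmodule (f g) hv⟩, fun h => hab ?_⟩
    apply Subrepresentation.toSubmodule_injective
    exact congrArg (Subrepresentation.toSubmodule (ρ := ρ.comp f)) h
  refine ⟨fun a => ?_⟩
  have key : ∀ (g : G) ⦃v : Fin n → ℂ⦄, v ∈ a.toSubmodule → ρ g v ∈ a.toSubmodule := by
    intro g v hv
    obtain ⟨h, rfl⟩ := hf g
    exact a.apply_mem_toSubmodule h hv
  rcases hρ.eq_bot_or_eq_top ⟨a.toSubmodule, key⟩ with h | h
  · left
    apply Subrepresentation.toSubmodule_injective
    exact congrArg (Subrepresentation.toSubmodule (ρ := ρ)) h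
  · right
    apply Subrepresentation.toSubmodule_injective
    exact congrArg (Subrepresentation.toSubmodule (ρ := ρ)) h


/-! ### Definitional unfoldings (use these instead of `unfold`) -/

theorem isCharacter_def {χ : G → ℂ} :
    IsCharacter G χ ↔ ∃ (n : ℕ) (ρ : Representation ℂ G (Fin n → ℂ)), ρ.character = χ := Iff.rfl

theorem isIrrCharacter_def {χ : G → ℂ} :
    IsIrrCharacter G χ ↔
      ∃ (n : ℕ) (ρ : Representation ℂ G (Fin n → ℂ)), ρ.IsIrreducible ∧ ρ.character = χ := Iff.rfl

theorem isClassFunction_def {θ : G → ℂ} :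
    IsClassFunction G θ ↔ ∀ g h : G, θ (h * g * h⁻¹) = θ g := Iff.rfl

theorem isGeneralizedCharacter_def {θ : G → ℂ} :
    IsGeneralizedCharacter G θ ↔
      ∃ (χ ψ : G → ℂ), IsCharacter G χ ∧ IsCharacter G ψ ∧ θ = χ - ψ := Iff.rfl

theorem classInner_def [Fintype G] (φ ψ : G → ℂ) :
    classInner φ ψ = (Nat.card G : ℂ)⁻¹ * ∑ g : G, φ g * conj (ψ g) := rfl

theorem extendByZero_def (H : Subgroup G) (θ : H → ℂ) :
    extendByZero H θ = Function.extend (Subtype.val : H → G) θ 0 := rfl

theorem extendByZero_of_mem (H : Subgroup G) (θ : H → ℂ) {g : G} (hg : g ∈ H) :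
    extendByZero H θ g = θ ⟨g, hg⟩ := by
  rw [extendByZero_def]
  exact Function.Injective.extend_apply Subtype.val_injective θ 0 (⟨g, hg⟩ : H)

theorem extendByZero_of_notMem (H : Subgroup G) (θ : H → ℂ) {g : G} (hg : g ∉ H) :
    extendByZero H θ g = 0 := by
  rw [extendByZero_def]
  rw [Function.extend_apply']
  · rfl
  · rintro ⟨a, rfl⟩
    exact hg a.2

theorem indFun_def [Fintype G] (H : Subgroup G) (θ : H → ℂ) :
    indFun H θ = fun g => (Nat.card H : ℂ)⁻¹ * ∑ x : G, extendByZero H θ (x⁻¹ * g * x) := rfl

theorem indFun_apply [Fintype G] (H : Subgroup G) (θ : H → ℂ) (g : G) :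
    indFun H θ g = (Nat.card H : ℂ)⁻¹ * ∑ x : G, extendByZero H θ (x⁻¹ * g * x) := rfl

theorem card_ne_zero_complex [Finite G] : (Nat.card G : ℂ) ≠ 0 :=
  Nat.cast_ne_zero.mpr Nat.card_pos.ne'

section finite

variable [Finite G]

open scoped ComplexOrder Matrix in
/-- For a finite group, the value at the inverse is the complex conjugate. -/
theorem isCharacter_apply_inv {χ : G → ℂ} (hχ : IsCharacter G χ) (g : G) :
    χ g⁻¹ = conj (χ g) := by
  classical
  obtain ⟨n, ρ, rfl⟩ := hχ
  have := Fintype.ofFinite G
  set A : G → Matrix (Fin n) (Fin n) ℂ := fun g => LinearMap.toMatrix' (ρ g) with hA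
  have hmul : ∀ g h, A (g * h) = A g * A h := by
    intro g h
    simp only [hA, map_mul, LinearMap.toMatrix'_mul]
  have hone : A 1 = 1 := by
    simp only [hA, map_one, LinearMap.toMatrix'_one]
  have htr : ∀ g, ρ.character g = (A g).trace := by
    intro g
    simp only [hA, character]
    rw [LinearMap.trace_eq_matrix_trace ℂ (Pi.basisFun ℂ (Fin n)),
      LinearMap.toMatrix_eq_toMatrix']
  set P : Matrix (Fin n) (Fin n) ℂ := ∑ x : G, (A x)ᴴ * A x with hP
  have hPpos : P.PosDef := by
    rw [hP, ← Finset.add_sum_erase Finset.univ _ (Finset.mem_univ (1 : G))]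
    refine Matrix.PosDef.add_posSemidef ?_ ?_
    · rw [hone]; simpa using Matrix.PosDef.one
    · exact Matrix.posSemidef_sum _ fun x _ => Matrix.posSemidef_conjTranspose_mul_self _
  have hPunit : IsUnit P.det := (Matrix.isUnit_iff_isUnit_det _).mp hPpos.isUnit
  have hinv : (A g)ᴴ * P * A g = P := by
    rw [hP, Finset.mul_sum, Finset.sum_mul]
    refine Fintype.sum_equiv (Equiv.mulRight g) _ _ fun x => ?_
    simp only [Equiv.coe_mulRight, hmul, Matrix.conjTranspose_mul, Matrix.mul_assoc]
  have hAg : A g * A g⁻¹ = 1 := by rw [← hmul, mul_inv_cancel, hone]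
  have h1 : (A g)ᴴ = P * A g⁻¹ * P⁻¹ := by
    have : (A g)ᴴ * P = P * A g⁻¹ := by
      calc (A g)ᴴ * P = (A g)ᴴ * P * (A g * A g⁻¹) := by rw [hAg, Matrix.mul_one]
        _ = P * A g⁻¹ := by rw [← Matrix.mul_assoc, hinv]
    rw [← this, Matrix.mul_assoc, Matrix.mul_nonsing_inv _ hPunit, Matrix.mul_one]
  rw [htr, htr]
  have h2 : ((A g)ᴴ).trace = star (A g).trace := Matrix.trace_conjTranspose _
  rw [h1, Matrix.mul_assoc, Matrix.trace_mul_comm, Matrix.mul_assoc,
    Matrix.nonsing_inv_mul _ hPunit, Matrix.mul_one] at h2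
  exact h2

theorem isCharacter_conj {χ : G → ℂ} (hχ : IsCharacter G χ) :
    IsCharacter G (fun g => conj (χ g)) := by
  have := isCharacter_inv hχ
  convert this using 2 with g
  exact (isCharacter_apply_inv hχ g).symm

end finite

section inner

variable [Fintype G]

theorem classInner_add_left (φ₁ φ₂ ψ : G → ℂ) :
    classInner (φ₁ + φ₂) ψ = classInner φ₁ ψ + classInner φ₂ ψ := by
  simp only [classInner_def, Pi.add_apply, add_mul, Finset.sum_add_distrib, mul_add]

theorem classInner_smul_left (c : ℂ) (φ ψ : G → ℂ) :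
    classInner (c • φ) ψ = c * classInner φ ψ := by
  simp only [classInner_def, Pi.smul_apply, smul_eq_mul, mul_assoc, ← Finset.mul_sum]
  ring

theorem classInner_neg_left (φ ψ : G → ℂ) :
    classInner (-φ) ψ = -classInner φ ψ := by
  simp only [classInner_def, Pi.neg_apply, neg_mul, Finset.sum_neg_distrib, mul_neg]

theorem classInner_sub_left (φ₁ φ₂ ψ : G → ℂ) :
    classInner (φ₁ - φ₂) ψ = classInner φ₁ ψ - classInner φ₂ ψ := by
  rw [sub_eq_add_neg, classInner_add_left, classInner_neg_left, sub_eq_add_neg]

theorem classInner_zero_left (ψ : G → ℂ) : classInner 0 ψ = 0 := by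
  simp [classInner_def]

theorem classInner_sum_left {ι : Type*} (s : Finset ι) (φ : ι → G → ℂ) (ψ : G → ℂ) :
    classInner (∑ i ∈ s, φ i) ψ = ∑ i ∈ s, classInner (φ i) ψ := by
  classical
  induction s using Finset.induction_on with
  | empty => simp [classInner_zero_left]
  | insert a s ha ih => rw [Finset.sum_insert ha, Finset.sum_insert ha, classInner_add_left, ih]

theorem classInner_conj_symm (φ ψ : G → ℂ) :
    conj (classInner φ ψ) = classInner ψ φ := by
  simp only [classInner_def, map_mul, map_inv₀, map_natCast, map_sum, Complex.conj_conj]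
  congr 1
  exact Finset.sum_congr rfl fun g _ => mul_comm _ _

theorem classInner_add_right (φ ψ₁ ψ₂ : G → ℂ) :
    classInner φ (ψ₁ + ψ₂) = classInner φ ψ₁ + classInner φ ψ₂ := by
  rw [← classInner_conj_symm, classInner_add_left, map_add, classInner_conj_symm,
    classInner_conj_symm]

theorem classInner_neg_right (φ ψ : G → ℂ) :
    classInner φ (-ψ) = -classInner φ ψ := by
  rw [← classInner_conj_symm, classInner_neg_left, map_neg, classInner_conj_symm]

theorem classInner_sub_right (φ ψ₁ ψ₂ : G → ℂ) :
    classInner φ (ψ₁ - ψ₂) = classInner φ ψ₁ - classInner φ ψ₂ := by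
  rw [sub_eq_add_neg, classInner_add_right, classInner_neg_right, sub_eq_add_neg]

theorem classInner_zero_right (φ : G → ℂ) : classInner φ 0 = 0 := by
  simp [classInner_def]

theorem classInner_smul_right (c : ℂ) (φ ψ : G → ℂ) :
    classInner φ (c • ψ) = conj c * classInner φ ψ := by
  rw [← classInner_conj_symm, classInner_smul_left, map_mul, classInner_conj_symm]

theorem classInner_sum_right {ι : Type*} (s : Finset ι) (φ : G → ℂ) (ψ : ι → G → ℂ) :
    classInner φ (∑ i ∈ s, ψ i) = ∑ i ∈ s, classInner φ (ψ i) := by
  rw [← classInner_conj_symm, classInner_sum_left, map_sum]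
  exact Finset.sum_congr rfl fun i _ => classInner_conj_symm _ _

theorem classInner_self_eq_zero {φ : G → ℂ} (h : classInner φ φ = 0) : φ = 0 := by
  rw [classInner_def, mul_eq_zero] at h
  rcases h with h | h
  · exact absurd (inv_eq_zero.mp h) card_ne_zero_complex
  · simp only [Complex.mul_conj] at h
    rw [← Complex.ofReal_sum, Complex.ofReal_eq_zero] at h
    rw [Finset.sum_eq_zero_iff_of_nonneg (fun _ _ => Complex.normSq_nonneg _)] at h
    ext g
    exact Complex.normSq_eq_zero.mp (h g (Finset.mem_univ g))

/-- The inner product of a function with itself is a nonnegative real number. -/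
theorem classInner_self_eq_ofReal (φ : G → ℂ) :
    classInner φ φ = (((Nat.card G : ℝ)⁻¹ * ∑ g : G, Complex.normSq (φ g) : ℝ) : ℂ) := by
  rw [classInner_def]
  simp only [Complex.mul_conj]
  push_cast
  rfl

/-- The inner product of two characters is the dimension of the space of intertwining maps. -/
theorem classInner_character {V W : Type*} [AddCommGroup V] [Module ℂ V] [AddCommGroup W]
    [Module ℂ W] [FiniteDimensional ℂ V] [FiniteDimensional ℂ W]
    (ρ : Representation ℂ G V) (σ : Representation ℂ G W) :
    classInner ρ.character σ.character = (finrank ℂ (IntertwiningMap σ ρ) : ℂ) := by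
  have : Invertible (Nat.card G : ℂ) := invertibleOfNonzero card_ne_zero_complex
  rw [← card_inv_mul_sum_char_mul_char_eq_finrank, classInner_def]
  congr 1
  refine Finset.sum_congr rfl fun g _ => ?_
  rw [isCharacter_apply_inv (isCharacter_of_rep σ) g]

/-- The inner product of two characters is a natural number. -/
theorem classInner_isNat {χ ψ : G → ℂ} (hχ : IsCharacter G χ) (hψ : IsCharacter G ψ) :
    ∃ n : ℕ, classInner χ ψ = n := by
  obtain ⟨n, ρ, rfl⟩ := hχ
  obtain ⟨m, σ, rfl⟩ := hψ
  exact ⟨_, classInner_character ρ σ⟩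

/-- First orthogonality relation. -/
theorem classInner_irr_self {χ : G → ℂ} (hχ : IsIrrCharacter G χ) : classInner χ χ = 1 := by
  obtain ⟨n, ρ, hρ, rfl⟩ := hχ
  rw [classInner_character, IsIrreducible.finrank_intertwiningMap_self, Nat.cast_one]

theorem classInner_irr_ne {χ ψ : G → ℂ} (hχ : IsIrrCharacter G χ) (hψ : IsIrrCharacter G ψ)
    (h : χ ≠ ψ) : classInner χ ψ = 0 := by
  obtain ⟨n, ρ, hρ, rfl⟩ := hχ
  obtain ⟨m, σ, hσ, rfl⟩ := hψ
  have : IsEmpty (Representation.Equiv σ ρ) := ⟨fun e => h (char_iso e).symm⟩
  rw [classInner_character, finrank_zero_of_subsingleton, Nat.cast_zero]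

open scoped Classical in
theorem classInner_irr {χ ψ : G → ℂ} (hχ : IsIrrCharacter G χ) (hψ : IsIrrCharacter G ψ) :
    classInner χ ψ = if χ = ψ then 1 else 0 := by
  split_ifs with h
  · rw [← h]; exact classInner_irr_self hχ
  · exact classInner_irr_ne hχ hψ h

end inner


/-! ### Complements and decomposition into irreducibles -/

section decomposition

theorem neZero_card_complex [Finite G] : NeZero (Nat.card G : ℂ) := ⟨card_ne_zero_complex⟩

variable {V : Type v} [AddCommGroup V] [Module ℂ V] {ρ : Representation ℂ G V}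

/-- Maschke: every subrepresentation has a complement. -/
theorem exists_isCompl_sub [Finite G] (U : Subrepresentation ρ) :
    ∃ U' : Subrepresentation ρ, IsCompl U.toSubmodule U'.toSubmodule := by
  have : NeZero (Nat.card G : ℂ) := neZero_card_complex
  obtain ⟨U', hU'⟩ := exists_isCompl U
  refine ⟨U', ?_, ?_⟩
  · rw [disjoint_iff]
    exact congrArg Subrepresentation.toSubmodule (disjoint_iff.mp hU'.disjoint)
  · rw [codisjoint_iff]
    exact congrArg Subrepresentation.toSubmodule (codisjoint_iff.mp hU'.codisjoint)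

/-- A representation splits as the direct sum of complementary subrepresentations. -/
noncomputable def prodEquivOfIsCompl (U U' : Subrepresentation ρ)
    (h : IsCompl U.toSubmodule U'.toSubmodule) :
    Representation.Equiv (U.toRepresentation.prod U'.toRepresentation) ρ :=
  Representation.Equiv.mk (Submodule.prodEquivOfIsCompl _ _ h) (fun g => by
    ext x <;> simp [Subrepresentation.toRepresentation])

theorem character_prod {V W : Type*} [AddCommGroup V] [Module ℂ V] [AddCommGroup W] [Module ℂ W]
    [FiniteDimensional ℂ V] [FiniteDimensional ℂ W]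
    (ρ : Representation ℂ G V) (σ : Representation ℂ G W) :
    (ρ.prod σ).character = ρ.character + σ.character := by
  ext g
  exact LinearMap.trace_prodMap' (ρ g) (σ g)

theorem character_eq_add_of_isCompl [FiniteDimensional ℂ V] (U U' : Subrepresentation ρ)
    (h : IsCompl U.toSubmodule U'.toSubmodule) :
    ρ.character = U.toRepresentation.character + U'.toRepresentation.character := by
  rw [← char_iso (prodEquivOfIsCompl U U' h), character_prod]

/-- A subrepresentation of a subrepresentation is a subrepresentation. -/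
def mapSub (U : Subrepresentation ρ) (U₁ : Subrepresentation U.toRepresentation) :
    Subrepresentation ρ where
  toSubmodule := U₁.toSubmodule.map U.toSubmodule.subtype
  apply_mem_toSubmodule g v hv := by
    obtain ⟨w, hw, rfl⟩ := hv
    exact ⟨U.toRepresentation g w, U₁.apply_mem_toSubmodule g hw, rfl⟩

/-- Every nonzero finite-dimensional representation has an irreducible subrepresentation. -/
theorem exists_irreducible_sub [FiniteDimensional ℂ V] [Nontrivial V]
    (ρ : Representation ℂ G V) :
    ∃ U : Subrepresentation ρ, U.toRepresentation.IsIrreducible := by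
  classical
  let S : Set ℕ := {n | ∃ U : Subrepresentation ρ, U.toSubmodule ≠ ⊥ ∧ finrank ℂ U.toSubmodule = n}
  have hS : S.Nonempty := ⟨_, ⊤, (bot_ne_top (α := Submodule ℂ V)).symm, rfl⟩
  obtain ⟨U, hU, hUn⟩ := WellFounded.min_mem wellFounded_lt S hS
  refine ⟨U, ?_⟩
  have hnt : Nontrivial U.toSubmodule := Submodule.nontrivial_iff_ne_bot.mpr hU
  have hnt2 : Nontrivial (Subrepresentation U.toRepresentation) := by
    refine ⟨⊥, ⊤, fun h => ?_⟩
    have : (⊥ : Submodule ℂ U.toSubmodule) = ⊤ := congrArg Subrepresentation.toSubmodule h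
    exact bot_ne_top this
  refine ⟨fun U₁ => ?_⟩
  by_cases h1 : U₁.toSubmodule = ⊥
  · left
    exact Subrepresentation.toSubmodule_injective h1
  · right
    apply Subrepresentation.toSubmodule_injective
    apply Submodule.eq_top_of_finrank_eq
    apply le_antisymm (Submodule.finrank_le _)
    have hfin : finrank ℂ (mapSub U U₁).toSubmodule = finrank ℂ U₁.toSubmodule :=
      Submodule.finrank_map_subtype_eq _ _
    have hmem : finrank ℂ (mapSub U U₁).toSubmodule ∈ S := by
      refine ⟨mapSub U U₁, ?_, rfl⟩
      intro h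
      apply h1
      apply Submodule.map_injective_of_injective U.toSubmodule.subtype_injective
      rw [Submodule.map_bot]
      exact h
    have := WellFounded.not_lt_min wellFounded_lt S hmem
    rw [← hUn, hfin] at this
    exact not_lt.mp this

/-- Induction principle: to prove a property of all finite-dimensional complex representations of
a finite group, it suffices to prove it for the zero space, and for `V = U ⊕ U'` with `U`
irreducible and the property known for `U'`. -/
theorem rep_induction [Finite G]
    {P : ∀ (V : Type v) [AddCommGroup V] [Module ℂ V], Representation ℂ G V → Prop}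
    (hzero : ∀ (V : Type v) [AddCommGroup V] [Module ℂ V] (ρ : Representation ℂ G V),
      Subsingleton V → P V ρ)
    (hsplit : ∀ (V : Type v) [AddCommGroup V] [Module ℂ V] [FiniteDimensional ℂ V]
      (ρ : Representation ℂ G V) (U U' : Subrepresentation ρ),
      IsCompl U.toSubmodule U'.toSubmodule → U.toRepresentation.IsIrreducible →
      P _ U'.toRepresentation → P V ρ)
    (V : Type v) [AddCommGroup V] [Module ℂ V] [FiniteDimensional ℂ V]
    (ρ : Representation ℂ G V) : P V ρ := by
  suffices H : ∀ (n : ℕ) (V : Type v) [AddCommGroup V] [Module ℂ V] [FiniteDimensional ℂ V]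
      (ρ : Representation ℂ G V), finrank ℂ V = n → P V ρ from H _ V ρ rfl
  intro n
  induction n using Nat.strong_induction_on with
  | _ n ih =>
    intro V _ _ _ ρ hn
    rcases subsingleton_or_nontrivial V with h | h
    · exact hzero V ρ h
    · obtain ⟨U, hU⟩ := exists_irreducible_sub ρ
      obtain ⟨U', hU'⟩ := exists_isCompl_sub U
      refine hsplit V ρ U U' hU' hU (ih (finrank ℂ U'.toSubmodule) ?_ _ _ rfl)
      have h1 := Submodule.finrank_add_eq_of_isCompl hU'
      have h2 : 0 < finrank ℂ U.toSubmodule := by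
        have : Nontrivial U.toSubmodule := by
          by_contra hc
          rw [not_nontrivial_iff_subsingleton] at hc
          obtain ⟨a, b, hab⟩ := hU.toNontrivial
          exact hab (Subrepresentation.toSubmodule_injective (Subsingleton.elim _ _))
        exact finrank_pos
      omega

/-- Irreducible characters are linearly independent. -/
theorem irr_linearIndependent [Finite G] :
    LinearIndependent ℂ (fun χ : IrrCharacter G => (χ : G → ℂ)) := by
  classical
  have := Fintype.ofFinite G
  rw [linearIndependent_iff']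
  intro s c hc i hi
  have h := congrArg (fun f => classInner f (i : G → ℂ)) hc
  simp only [classInner_sum_left, classInner_smul_left, classInner_zero_left] at h
  rw [Finset.sum_eq_single i] at h
  · rwa [classInner_irr_self i.2, mul_one] at h
  · intro j _ hj
    rw [classInner_irr_ne j.2 i.2 (fun h => hj (Subtype.ext h)), mul_zero]
  · exact fun h => absurd hi h

theorem finite_irr [Finite G] : Finite (IrrCharacter G) := by
  have := Fintype.ofFinite G
  exact irr_linearIndependent.finite

/-- Every character is a combination of irreducible characters with natural coefficients. -/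
theorem exists_nat_comb [Finite G] [Fintype (IrrCharacter G)] {χ : G → ℂ}
    (hχ : IsCharacter G χ) :
    ∃ m : IrrCharacter G → ℕ, χ = ∑ ψ : IrrCharacter G, m ψ • (ψ : G → ℂ) := by
  classical
  obtain ⟨n, ρ, rfl⟩ := hχ
  refine rep_induction (P := fun V _ _ ρ => ∃ m : IrrCharacter G → ℕ,
    ρ.character = ∑ ψ : IrrCharacter G, m ψ • (ψ : G → ℂ)) ?_ ?_ _ ρ
  · intro V _ _ ρ hV
    refine ⟨0, ?_⟩
    ext g
    have : ρ g = 0 := by ext x; exact Subsingleton.elim _ _
    simp [character, this]
  · rintro V _ _ _ ρ U U' h hU ⟨m, hm⟩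
    refine ⟨fun ψ => m ψ + if ψ = ⟨_, isIrrCharacter_of_rep _ hU⟩ then 1 else 0, ?_⟩
    rw [character_eq_add_of_isCompl U U' h, hm]
    simp only [add_smul, Finset.sum_add_distrib, ite_smul, one_smul, zero_smul,
      Finset.sum_ite_eq', Finset.mem_univ, if_true]
    rw [add_comm]

/-- Characters are exactly the combinations of irreducible characters with natural
coefficients. -/
theorem isCharacter_iff [Finite G] [Fintype (IrrCharacter G)] {χ : G → ℂ} :
    IsCharacter G χ ↔ ∃ m : IrrCharacter G → ℕ, χ = ∑ ψ : IrrCharacter G, m ψ • (ψ : G → ℂ) := by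
  refine ⟨exists_nat_comb, ?_⟩
  rintro ⟨m, rfl⟩
  exact isCharacter_sum _ fun ψ _ => isCharacter_nsmul _ (isIrr_isCharacter ψ.2)

/-- Coefficient extraction. -/
theorem classInner_sum_smul_irr [Fintype G] [Fintype (IrrCharacter G)]
    (c : IrrCharacter G → ℂ) (χ : IrrCharacter G) :
    classInner (∑ ψ : IrrCharacter G, c ψ • (ψ : G → ℂ)) (χ : G → ℂ) = c χ := by
  classical
  simp only [classInner_sum_left, classInner_smul_left]
  rw [Finset.sum_eq_single χ]
  · rw [classInner_irr_self χ.2, mul_one]
  · intro j _ hj
    rw [classInner_irr_ne j.2 χ.2 (fun h => hj (Subtype.ext h)), mul_zero]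
  · exact fun h => absurd (Finset.mem_univ _) h

theorem classInner_sum_nsmul_irr [Fintype G] [Fintype (IrrCharacter G)]
    (c : IrrCharacter G → ℕ) (χ : IrrCharacter G) :
    classInner (∑ ψ : IrrCharacter G, c ψ • (ψ : G → ℂ)) (χ : G → ℂ) = c χ := by
  rw [← classInner_sum_smul_irr (fun ψ => (c ψ : ℂ)) χ]
  simp only [Nat.cast_smul_eq_nsmul]

theorem classInner_sum_zsmul_irr [Fintype G] [Fintype (IrrCharacter G)]
    (c : IrrCharacter G → ℤ) (χ : IrrCharacter G) :
    classInner (∑ ψ : IrrCharacter G, c ψ • (ψ : G → ℂ)) (χ : G → ℂ) = c χ := by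
  rw [← classInner_sum_smul_irr (fun ψ => (c ψ : ℂ)) χ]
  simp only [Int.cast_smul_eq_zsmul]

theorem classInner_sum_smul_sum_smul [Fintype G] [Fintype (IrrCharacter G)]
    (c d : IrrCharacter G → ℂ) :
    classInner (∑ ψ : IrrCharacter G, c ψ • (ψ : G → ℂ)) (∑ ψ : IrrCharacter G, d ψ • (ψ : G → ℂ))
      = ∑ ψ : IrrCharacter G, c ψ * conj (d ψ) := by
  rw [classInner_sum_right]
  refine Finset.sum_congr rfl fun χ _ => ?_
  rw [classInner_smul_right, classInner_sum_smul_irr, mul_comm]

/-- Generalized characters are exactly the combinations of irreducible characters with integer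
coefficients. -/
theorem isGeneralizedCharacter_iff [Finite G] [Fintype (IrrCharacter G)] {χ : G → ℂ} :
    IsGeneralizedCharacter G χ ↔
      ∃ m : IrrCharacter G → ℤ, χ = ∑ ψ : IrrCharacter G, m ψ • (ψ : G → ℂ) := by
  constructor
  · rintro ⟨φ, ψ, hφ, hψ, rfl⟩
    obtain ⟨a, rfl⟩ := exists_nat_comb hφ
    obtain ⟨b, rfl⟩ := exists_nat_comb hψ
    refine ⟨fun χ => (a χ : ℤ) - b χ, ?_⟩
    simp only [sub_smul, natCast_zsmul, Finset.sum_sub_distrib]
  · rintro ⟨m, rfl⟩
    refine ⟨∑ ψ : IrrCharacter G, (m ψ).toNat • (ψ : G → ℂ),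
      ∑ ψ : IrrCharacter G, (-m ψ).toNat • (ψ : G → ℂ),
      isCharacter_sum _ fun ψ _ => isCharacter_nsmul _ (isIrr_isCharacter ψ.2),
      isCharacter_sum _ fun ψ _ => isCharacter_nsmul _ (isIrr_isCharacter ψ.2), ?_⟩
    rw [← Finset.sum_sub_distrib]
    refine Finset.sum_congr rfl fun ψ _ => ?_
    rw [← natCast_zsmul, ← natCast_zsmul, ← sub_smul, Int.toNat_sub_toNat_neg]

/-- A character of norm one is irreducible. -/
theorem isIrr_of_classInner_self [Fintype G] {χ : G → ℂ} (hχ : IsCharacter G χ)
    (h : classInner χ χ = 1) : IsIrrCharacter G χ := by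
  classical
  have := finite_irr (G := G)
  have := Fintype.ofFinite (IrrCharacter G)
  obtain ⟨m, rfl⟩ := exists_nat_comb hχ
  have h1 : ∑ ψ : IrrCharacter G, (m ψ) ^ 2 = 1 := by
    have h2 := classInner_sum_smul_sum_smul (fun ψ : IrrCharacter G => (m ψ : ℂ))
      (fun ψ => (m ψ : ℂ))
    simp only [Nat.cast_smul_eq_nsmul] at h2
    rw [h] at h2
    simp only [map_natCast, ← pow_two] at h2
    exact_mod_cast h2.symm
  obtain ⟨ψ, hψ⟩ : ∃ ψ, m ψ ≠ 0 := by
    by_contra hc
    push Not at hc
    simp [hc] at h1
  have h3 := Finset.add_sum_erase Finset.univ (fun ψ => (m ψ) ^ 2) (Finset.mem_univ ψ)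
  rw [h1] at h3
  have h4 : 0 < (m ψ) ^ 2 := by positivity
  have h5 : m ψ = 1 := by
    have : (m ψ) ^ 2 ≤ 1 := by omega
    nlinarith [Nat.pos_of_ne_zero hψ]
  have h6 : ∑ φ ∈ Finset.univ.erase ψ, (m φ) ^ 2 = 0 := by
    rw [h5] at h3
    omega
  rw [← Finset.add_sum_erase Finset.univ _ (Finset.mem_univ ψ), h5, one_smul,
    Finset.sum_eq_zero, add_zero]
  · exact ψ.2
  · intro φ hφ
    rw [Finset.sum_eq_zero_iff] at h6
    have := h6 φ hφ
    rw [pow_eq_zero_iff (by norm_num)] at this
    rw [this, zero_smul]

/-- A character is irreducible iff it has norm one. -/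
theorem isIrr_iff_classInner_self [Fintype G] {χ : G → ℂ} (hχ : IsCharacter G χ) :
    IsIrrCharacter G χ ↔ classInner χ χ = 1 :=
  ⟨classInner_irr_self, isIrr_of_classInner_self hχ⟩

theorem isIrr_conj [Finite G] {χ : G → ℂ} (hχ : IsIrrCharacter G χ) :
    IsIrrCharacter G (fun g => conj (χ g)) := by
  have := Fintype.ofFinite G
  apply isIrr_of_classInner_self (isCharacter_conj (isIrr_isCharacter hχ))
  have h := classInner_irr_self hχ
  rw [← h]
  simp only [classInner_def, Complex.conj_conj]
  congr 1
  exact Finset.sum_congr rfl fun g _ => mul_comm _ _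

/-- A generalized character of norm one is, up to sign, an irreducible character. -/
theorem isIrr_of_generalized [Fintype G] {χ : G → ℂ} (hχ : IsGeneralizedCharacter G χ)
    (h : classInner χ χ = 1) : IsIrrCharacter G χ ∨ IsIrrCharacter G (-χ) := by
  classical
  have := finite_irr (G := G)
  have := Fintype.ofFinite (IrrCharacter G)
  obtain ⟨m, rfl⟩ := isGeneralizedCharacter_iff.mp hχ
  have h1 : ∑ ψ : IrrCharacter G, (m ψ) ^ 2 = 1 := by
    have h2 := classInner_sum_smul_sum_smul (fun ψ : IrrCharacter G => (m ψ : ℂ))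
      (fun ψ => (m ψ : ℂ))
    simp only [Int.cast_smul_eq_zsmul] at h2
    rw [h] at h2
    simp only [map_intCast, ← pow_two] at h2
    exact_mod_cast h2.symm
  obtain ⟨ψ, hψ⟩ : ∃ ψ, m ψ ≠ 0 := by
    by_contra hc
    push Not at hc
    simp [hc] at h1
  have h3 := Finset.add_sum_erase Finset.univ (fun ψ => (m ψ) ^ 2) (Finset.mem_univ ψ)
  rw [h1] at h3
  have h4 : 0 < (m ψ) ^ 2 := by positivity
  have h40 : 0 ≤ ∑ φ ∈ Finset.univ.erase ψ, (m φ) ^ 2 :=
    Finset.sum_nonneg fun _ _ => sq_nonneg _
  have h5' : (m ψ) ^ 2 = 1 := by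
    omega
  have h6 : ∑ φ ∈ Finset.univ.erase ψ, (m φ) ^ 2 = 0 := by
    omega
  have h7 : ∑ φ ∈ Finset.univ.erase ψ, (m φ) • (φ : G → ℂ) = 0 := by
    apply Finset.sum_eq_zero
    intro φ hφ
    rw [Finset.sum_eq_zero_iff_of_nonneg (fun _ _ => sq_nonneg _)] at h6
    have := h6 φ hφ
    rw [pow_eq_zero_iff (by norm_num)] at this
    rw [this, zero_smul]
  rw [← Finset.add_sum_erase Finset.univ _ (Finset.mem_univ ψ), h7, add_zero]
  rcases mul_self_eq_one_iff.mp ((pow_two _).symm.trans h5') with h8 | h8
  · left; rw [h8, one_smul]; exact ψ.2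
  · right; rw [h8, neg_smul, one_smul, neg_neg]; exact ψ.2


/-! ### Completeness -/

/-- Schur: for a class function `f` and an irreducible representation `σ`, the operator
`∑ f(g) σ(g⁻¹)` is a scalar. -/
theorem exists_sum_smul_rho_inv_eq_smul_one [Fintype G] {f : G → ℂ} (hf : IsClassFunction G f)
    {W : Type*} [AddCommGroup W] [Module ℂ W] [FiniteDimensional ℂ W]
    (σ : Representation ℂ G W) (hσ : σ.IsIrreducible) :
    ∃ c : ℂ, ∑ g : G, f g • σ g⁻¹ = c • (1 : Module.End ℂ W) := by
  let T : IntertwiningMap σ σ := LinearMap.intertwiningMap_of_isIntertwiningMap σ σ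
    (∑ g : G, f g • σ g⁻¹) (by
      intro x v
      simp only [LinearMap.sum_apply, LinearMap.smul_apply, map_sum, map_smul]
      refine Fintype.sum_equiv (MulAut.conj x⁻¹).toEquiv _ _ fun g => ?_
      have h1 : (MulAut.conj x⁻¹).toEquiv g = x⁻¹ * g * x⁻¹⁻¹ := rfl
      rw [h1, hf g x⁻¹, ← Module.End.mul_apply, ← map_mul, ← Module.End.mul_apply, ← map_mul]
      congr 3
      group)
  obtain ⟨c, hc⟩ := (IsIrreducible.algebraMap_intertwiningMap_bijective_of_isAlgClosed
    (ρ := σ)).2 T
  exact ⟨c, (congrArg IntertwiningMap.toLinearMap hc).symm⟩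

theorem sum_smul_rho_inv_eq_zero_of_irr [Fintype G] {f : G → ℂ} (hf : IsClassFunction G f)
    (h : ∀ χ : G → ℂ, IsIrrCharacter G χ → classInner f χ = 0)
    {W : Type*} [AddCommGroup W] [Module ℂ W] [FiniteDimensional ℂ W]
    (σ : Representation ℂ G W) (hσ : σ.IsIrreducible) : ∑ g : G, f g • σ g⁻¹ = 0 := by
  obtain ⟨c, hc⟩ := exists_sum_smul_rho_inv_eq_smul_one hf σ hσ
  have hirr := isIrrCharacter_of_rep σ hσ
  have htr := congrArg (LinearMap.trace ℂ W) hc
  rw [map_sum, map_smul, LinearMap.trace_one] at htr
  have h1 := h _ hirr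
  rw [classInner_def, mul_eq_zero] at h1
  have h2 := h1.resolve_left (inv_ne_zero card_ne_zero_complex)
  have h3 : ∑ g : G, LinearMap.trace ℂ W (f g • σ g⁻¹) = 0 := by
    rw [← h2]
    refine Finset.sum_congr rfl fun g _ => ?_
    rw [map_smul, ← isCharacter_apply_inv (isIrr_isCharacter hirr) g]
    rfl
  rw [h3] at htr
  have h4 : (finrank ℂ W : ℂ) ≠ 0 := by
    have := isIrr_apply_one_ne_zero hirr
    rwa [char_one] at this
  have h5 : c = 0 := by
    rw [smul_eq_mul] at htr
    exact (mul_eq_zero.mp htr.symm).resolve_right h4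
  rw [hc, h5, zero_smul]

/-- A class function orthogonal to all irreducible characters acts as zero on every
representation. -/
theorem sum_smul_rho_inv_eq_zero [Fintype G] {f : G → ℂ} (hf : IsClassFunction G f)
    (h : ∀ χ : G → ℂ, IsIrrCharacter G χ → classInner f χ = 0)
    (V : Type v) [AddCommGroup V] [Module ℂ V] [FiniteDimensional ℂ V]
    (ρ : Representation ℂ G V) : ∑ g : G, f g • ρ g⁻¹ = 0 := by
  refine rep_induction (P := fun V _ _ ρ => ∑ g : G, f g • ρ g⁻¹ = 0) ?_ ?_ V ρ
  · intro V _ _ ρ hV
    ext x
    exact Subsingleton.elim _ _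
  · intro V _ _ _ ρ U U' hUU' hU hU'
    have hU0 := sum_smul_rho_inv_eq_zero_of_irr hf h U.toRepresentation hU
    ext x
    obtain ⟨y, hy, z, hz, rfl⟩ : ∃ y ∈ U.toSubmodule, ∃ z ∈ U'.toSubmodule, y + z = x := by
      rw [← Submodule.mem_sup, hUU'.sup_eq_top]
      trivial
    have e1 := congrArg (fun T => ((T ⟨y, hy⟩ : U.toSubmodule) : V)) hU0
    have e2 := congrArg (fun T => ((T ⟨z, hz⟩ : U'.toSubmodule) : V)) hU'
    simp only [LinearMap.sum_apply, LinearMap.smul_apply, LinearMap.zero_apply,
      Submodule.coe_sum, Submodule.coe_smul, Submodule.coe_zero] at e1 e2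
    rw [map_add, LinearMap.zero_apply]
    simp only [LinearMap.sum_apply, LinearMap.smul_apply]
    have e1' : ∑ g : G, f g • (ρ g⁻¹) y = 0 := e1
    have e2' : ∑ g : G, f g • (ρ g⁻¹) z = 0 := e2
    rw [e1', e2', add_zero]

/-- Completeness: a class function orthogonal to all irreducible characters is zero. -/
theorem classFunction_eq_zero [Fintype G] {f : G → ℂ} (hf : IsClassFunction G f)
    (h : ∀ χ : G → ℂ, IsIrrCharacter G χ → classInner f χ = 0) : f = 0 := by
  classical
  have h1 := sum_smul_rho_inv_eq_zero hf h _ (Representation.leftRegular ℂ G)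
  have h2 := congrArg (fun T => T (MonoidAlgebra.single 1 1)) h1
  simp only [LinearMap.sum_apply, LinearMap.smul_apply, LinearMap.zero_apply,
    Representation.ofMulAction_single, smul_eq_mul, mul_one] at h2
  ext x
  have h3 := congrArg (fun T => T.coeff x⁻¹) h2
  simpa [Finsupp.single_apply, MonoidAlgebra.coeff_sum, MonoidAlgebra.coeff_smul] using h3

/-- Expansion of a class function in irreducible characters. -/
theorem classFunction_eq_sum [Fintype G] [Fintype (IrrCharacter G)] {f : G → ℂ}
    (hf : IsClassFunction G f) :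
    f = ∑ χ : IrrCharacter G, classInner f (χ : G → ℂ) • (χ : G → ℂ) := by
  rw [← sub_eq_zero]
  apply classFunction_eq_zero
  · intro g x
    simp only [Pi.sub_apply, Finset.sum_apply, Pi.smul_apply]
    rw [hf g x]
    congr 1
    exact Finset.sum_congr rfl fun χ _ => by rw [isIrr_isClassFunction χ.2 g x]
  · intro χ hχ
    rw [classInner_sub_left,
      classInner_sum_smul_irr (fun χ : IrrCharacter G => classInner f (χ : G → ℂ)) ⟨χ, hχ⟩, sub_self]

/-- Parseval. -/
theorem classInner_eq_sum [Fintype G] [Fintype (IrrCharacter G)] {f f' : G → ℂ}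
    (hf : IsClassFunction G f) (hf' : IsClassFunction G f') :
    classInner f f' =
      ∑ χ : IrrCharacter G, classInner f (χ : G → ℂ) * conj (classInner f' (χ : G → ℂ)) := by
  conv_lhs => rw [classFunction_eq_sum hf, classFunction_eq_sum hf']
  exact classInner_sum_smul_sum_smul _ _

/-- Two class functions with the same inner products with all irreducible characters agree. -/
theorem classFunction_ext [Fintype G] {f f' : G → ℂ} (hf : IsClassFunction G f)
    (hf' : IsClassFunction G f')
    (h : ∀ χ : G → ℂ, IsIrrCharacter G χ → classInner f χ = classInner f' χ) : f = f' := by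
  rw [← sub_eq_zero]
  apply classFunction_eq_zero
  · intro g x
    simp only [Pi.sub_apply]
    rw [hf g x, hf' g x]
  · intro χ hχ
    rw [classInner_sub_left, h χ hχ, sub_self]

end decomposition

/-! ### Representations with equal characters are equivalent -/

section equiv

/-- Product of equivalences of representations. -/
noncomputable def prodCongr {V V' W W' : Type*} [AddCommGroup V] [Module ℂ V] [AddCommGroup W]
    [Module ℂ W] [AddCommGroup V'] [Module ℂ V'] [AddCommGroup W'] [Module ℂ W']
    {ρ : Representation ℂ G V} {ρ' : Representation ℂ G V'} {σ : Representation ℂ G W}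
    {σ' : Representation ℂ G W'} (e : Representation.Equiv ρ ρ') (e' : Representation.Equiv σ σ') :
    Representation.Equiv (ρ.prod σ) (ρ'.prod σ') :=
  Representation.Equiv.mk (LinearEquiv.prodCongr e.toLinearEquiv e'.toLinearEquiv) (fun g => by
    refine LinearMap.ext fun x => ?_
    exact Prod.ext (IntertwiningMap.isIntertwining _ _ e.toIntertwiningMap g x.1)
      (IntertwiningMap.isIntertwining _ _ e'.toIntertwiningMap g x.2))

/-- The range of an intertwining map as a subrepresentation. -/
def rangeSub {V W : Type*} [AddCommGroup V] [Module ℂ V] [AddCommGroup W] [Module ℂ W]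
    {ρ : Representation ℂ G V} {σ : Representation ℂ G W} (f : IntertwiningMap ρ σ) :
    Subrepresentation σ where
  toSubmodule := LinearMap.range f.toLinearMap
  apply_mem_toSubmodule g v hv := by
    obtain ⟨w, rfl⟩ := hv
    exact ⟨ρ g w, IntertwiningMap.isIntertwining _ _ f g w⟩

/-- The kernel of an intertwining map as a subrepresentation. -/
def kerSub {V W : Type*} [AddCommGroup V] [Module ℂ V] [AddCommGroup W] [Module ℂ W]
    {ρ : Representation ℂ G V} {σ : Representation ℂ G W} (f : IntertwiningMap ρ σ) :
    Subrepresentation ρ where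
  toSubmodule := LinearMap.ker f.toLinearMap
  apply_mem_toSubmodule g v hv := by
    rw [LinearMap.mem_ker] at hv ⊢
    have := IntertwiningMap.isIntertwining _ _ f g v
    change f.toLinearMap (ρ g v) = 0
    change f.toLinearMap (ρ g v) = σ g (f.toLinearMap v) at this
    rw [this, hv, map_zero]

/-- An injective intertwining map is an equivalence onto its range. -/
noncomputable def equivRangeSub {V W : Type*} [AddCommGroup V] [Module ℂ V] [AddCommGroup W]
    [Module ℂ W] {ρ : Representation ℂ G V} {σ : Representation ℂ G W} (f : IntertwiningMap ρ σ)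
    (hf : Function.Injective f) :
    Representation.Equiv ρ (rangeSub f).toRepresentation :=
  Representation.Equiv.mk (LinearEquiv.ofInjective f.toLinearMap hf) (fun g => by
    refine LinearMap.ext fun x => Subtype.ext ?_
    exact IntertwiningMap.isIntertwining _ _ f g x)

/-- The inclusion of a subrepresentation. -/
def subtypeSub {V : Type*} [AddCommGroup V] [Module ℂ V] {ρ : Representation ℂ G V}
    (U : Subrepresentation ρ) : IntertwiningMap U.toRepresentation ρ where
  toLinearMap := U.toSubmodule.subtype
  isIntertwining' _ := rfl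

/-- Two representations of a finite group with the same character are
equivalent. -/
theorem nonempty_equiv_of_character_eq [Finite G] {V : Type v} {W : Type*} [AddCommGroup V]
    [Module ℂ V] [AddCommGroup W] [Module ℂ W] [FiniteDimensional ℂ V] [FiniteDimensional ℂ W]
    (ρ : Representation ℂ G V) (σ : Representation ℂ G W) (h : ρ.character = σ.character) :
    Nonempty (Representation.Equiv ρ σ) := by
  have := Fintype.ofFinite G
  revert W
  refine rep_induction (P := fun V _ _ ρ => ∀ {W : Type _} [AddCommGroup W] [Module ℂ W]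
    [FiniteDimensional ℂ W] (σ : Representation ℂ G W), ρ.character = σ.character →
    Nonempty (Representation.Equiv ρ σ)) ?_ ?_ V ρ
  · intro V _ _ ρ hV W _ _ _ σ h
    have h1 : finrank ℂ W = 0 := by
      have h2 := congrFun h 1
      rw [char_one, char_one, finrank_zero_of_subsingleton] at h2
      exact_mod_cast h2.symm
    have : Subsingleton W := finrank_zero_iff.mp h1
    exact ⟨Representation.Equiv.mk ⟨0, 0, fun _ => Subsingleton.elim _ _,
      fun _ => Subsingleton.elim _ _⟩ (fun g => LinearMap.ext fun x => Subsingleton.elim _ _)⟩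
  · intro V _ _ _ ρ U U' hUU' hU ih W _ _ _ σ h
    have h1 : finrank ℂ (IntertwiningMap U.toRepresentation σ) ≠ 0 := by
      have h2 := classInner_character σ U.toRepresentation
      rw [← h, classInner_character ρ U.toRepresentation] at h2
      have h3 : finrank ℂ (IntertwiningMap U.toRepresentation ρ) =
        finrank ℂ (IntertwiningMap U.toRepresentation σ) := by exact_mod_cast h2
      rw [← h3]
      have : Nontrivial (IntertwiningMap U.toRepresentation ρ) := by
        refine ⟨subtypeSub U, 0, fun h0 => ?_⟩
        obtain ⟨a, b, hab⟩ := hU.toNontrivial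
        apply hab
        apply Subrepresentation.toSubmodule_injective
        have : Subsingleton U.toSubmodule := by
          refine ⟨fun x y => Subtype.ext ?_⟩
          have e1 := congrArg (fun f => f.toLinearMap x) h0
          have e2 := congrArg (fun f => f.toLinearMap y) h0
          exact e1.trans e2.symm
        exact Subsingleton.elim _ _
      exact finrank_pos.ne'
    obtain ⟨f, hf⟩ : ∃ f : IntertwiningMap U.toRepresentation σ, f ≠ 0 := by
      have : Nontrivial (IntertwiningMap U.toRepresentation σ) :=
        Module.nontrivial_of_finrank_pos (R := ℂ) (Nat.pos_of_ne_zero h1)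
      exact exists_ne 0
    have hinj : Function.Injective f := (IsIrreducible.injective_or_eq_zero f).resolve_right hf
    obtain ⟨W', hW'⟩ := exists_isCompl_sub (rangeSub f)
    have h4 : U'.toRepresentation.character = W'.toRepresentation.character := by
      have e1 := character_eq_add_of_isCompl U U' hUU'
      have e2 := character_eq_add_of_isCompl (rangeSub f) W' hW'
      rw [← char_iso (equivRangeSub f hinj), ← h, e1] at e2
      exact add_left_cancel e2
    obtain ⟨e⟩ := ih W'.toRepresentation h4
    exact ⟨(prodEquivOfIsCompl U U' hUU').symm.trans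
      ((prodCongr (equivRangeSub f hinj) e).trans (prodEquivOfIsCompl (rangeSub f) W' hW'))⟩

theorem isIrreducible_of_isIrrCharacter [Finite G] {V : Type*} [AddCommGroup V] [Module ℂ V]
    [FiniteDimensional ℂ V] (ρ : Representation ℂ G V) (h : IsIrrCharacter G ρ.character) :
    ρ.IsIrreducible := by
  obtain ⟨n, σ, hσ, h⟩ := h
  obtain ⟨e⟩ := nonempty_equiv_of_character_eq σ ρ h
  exact isIrreducible_of_equiv e hσ

theorem isIrreducible_iff_isIrrCharacter [Finite G] {V : Type*} [AddCommGroup V] [Module ℂ V]
    [FiniteDimensional ℂ V] (ρ : Representation ℂ G V) :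
    ρ.IsIrreducible ↔ IsIrrCharacter G ρ.character :=
  ⟨isIrrCharacter_of_rep ρ, isIrreducible_of_isIrrCharacter ρ⟩

end equiv

/-! ### Number of irreducible characters -/

section card

variable (G)

/-- Class functions as functions on conjugacy classes. -/
noncomputable def toClass (f : G → ℂ) (c : ConjClasses G) : ℂ := f (Quotient.out c)

variable {G}

theorem classFunction_apply_eq {f : G → ℂ} (hf : IsClassFunction G f) {x y : G}
    (h : IsConj x y) : f x = f y := by
  obtain ⟨c, hc⟩ := isConj_iff.mp h
  rw [← hc, hf x c]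

theorem toClass_mk {f : G → ℂ} (hf : IsClassFunction G f) (x : G) :
    toClass G f (ConjClasses.mk x) = f x := by
  apply classFunction_apply_eq hf
  exact ConjClasses.mk_eq_mk_iff_isConj.mp (Quotient.out_eq (ConjClasses.mk x))

/-- The irreducible characters form a basis of the space of functions on classes. -/
noncomputable def irrBasis (G : Type u) [Group G] [Finite G] :
    Module.Basis (IrrCharacter G) ℂ (ConjClasses G → ℂ) :=
  haveI := Fintype.ofFinite G
  haveI := finite_irr (G := G)
  haveI := Fintype.ofFinite (IrrCharacter G)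
  Module.Basis.mk (v := fun χ : IrrCharacter G => toClass G (χ : G → ℂ))
    (by
      let L : (ConjClasses G → ℂ) →ₗ[ℂ] (G → ℂ) := LinearMap.funLeft ℂ ℂ ConjClasses.mk
      apply LinearIndependent.of_comp L
      have : (L ∘ fun χ : IrrCharacter G => toClass G (χ : G → ℂ)) =
          fun χ : IrrCharacter G => (χ : G → ℂ) := by
        funext χ x
        exact toClass_mk (isIrr_isClassFunction χ.2) x
      rw [this]
      exact irr_linearIndependent)
    (by
      intro f _
      have hf : IsClassFunction G (fun x => f (ConjClasses.mk x)) := by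
        intro x y
        change f _ = f _
        congr 1
        exact ConjClasses.mk_eq_mk_iff_isConj.mpr (isConj_iff.mpr ⟨y⁻¹, by group⟩)
      have h := classFunction_eq_sum hf
      have h2 : f = ∑ χ : IrrCharacter G, classInner (fun x => f (ConjClasses.mk x)) (χ : G → ℂ) •
          toClass G (χ : G → ℂ) := by
        funext c
        obtain ⟨x, rfl⟩ := ConjClasses.mk_surjective c
        have h3 := congrFun h x
        simp only [Finset.sum_apply, Pi.smul_apply] at h3 ⊢
        rw [h3]
        exact Finset.sum_congr rfl fun χ _ => by rw [toClass_mk (isIrr_isClassFunction χ.2)]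
      rw [h2]
      exact Submodule.sum_mem _ fun χ _ => Submodule.smul_mem _ _
        (Submodule.subset_span ⟨χ, rfl⟩))

theorem irrBasis_apply [Finite G] (χ : IrrCharacter G) (x : G) :
    irrBasis G χ (ConjClasses.mk x) = (χ : G → ℂ) x := by
  rw [irrBasis, Module.Basis.mk_apply]
  exact toClass_mk (isIrr_isClassFunction χ.2) x

/-- The number of irreducible characters is the number of conjugacy classes. -/
theorem card_irr [Finite G] : Nat.card (IrrCharacter G) = Nat.card (ConjClasses G) := by
  have := Fintype.ofFinite G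
  have := finite_irr (G := G)
  have := Fintype.ofFinite (IrrCharacter G)
  have := Fintype.ofFinite (ConjClasses G)
  rw [← Module.finrank_eq_nat_card_basis (irrBasis G), Module.finrank_fintype_fun_eq_card,
    Nat.card_eq_fintype_card]

end card

end Cfsg.Agent.Characters.Core
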