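import Mathlib
set_option linter.all false

set_option autoImplicit false

/-!
# Averages of roots of unity

* `exists_multiset_roots`: the character value `ρ.character g` of a finite-dimensional complex
  representation is a sum of `finrank` many roots of unity (the eigenvalues of `ρ g`).
* `eq_zero_or_norm_eq_one_of_average`: an algebraic integer that is an average of roots of unity is
  zero or has absolute value one.
-/

namespace Cfsg.Agent.Characters.AverageRoots

open Module

/-- The character value at `g` with `g ^ n = 1`, `n ≠ 0`, is the sum of the eigenvalues (with multiplicity),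
a multiset of `finrank` many complex numbers `z` with `z ^ n = 1`. -/
theorem exists_multiset_roots {G : Type*} [Group G] {V : Type*} [AddCommGroup V] [Module ℂ V]
    [FiniteDimensional ℂ V] (ρ : Representation ℂ G V) (g : G) (n : ℕ) (hg : g ^ n = 1) :
    ∃ s : Multiset ℂ, s.card = finrank ℂ V ∧ s.sum = ρ.character g ∧ (∀ z ∈ s, z ^ n = 1) ∧
      s = (ρ g).charpoly.roots := by
  refine ⟨(ρ g).charpoly.roots, ?_, ?_, ?_, rfl⟩
  · rw [← LinearMap.charpoly_natDegree (ρ g)]
    exact (IsAlgClosed.splits _).natDegree_eq_card_roots.symm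
  · exact (Module.End.trace_eq_sum_roots_charpoly_of_splits (IsAlgClosed.splits _)).symm
  · intro z hz
    have hroot : (ρ g).charpoly.IsRoot z := (Polynomial.mem_roots'.1 hz).2
    rw [← Module.End.hasEigenvalue_iff_isRoot_charpoly] at hroot
    obtain ⟨v, hv⟩ := hroot.exists_hasEigenvector
    have h1 : ((ρ g) ^ n) v = z ^ n • v := by
      exact hv.pow_apply n
    rw [← map_pow, hg, map_one, Module.End.one_apply] at h1
    have h2 : (z ^ n - 1) • v = 0 := by rw [sub_smul, one_smul, ← h1, sub_self]
    rcases smul_eq_zero.1 h2 with h | h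
    · exact sub_eq_zero.1 h
    · exact absurd h hv.2

/-- A character value is an algebraic integer. -/
theorem isIntegral_character {G : Type*} [Group G] [Finite G] {V : Type*} [AddCommGroup V]
    [Module ℂ V] [FiniteDimensional ℂ V] (ρ : Representation ℂ G V) (g : G) :
    IsIntegral ℤ (ρ.character g) := by
  obtain ⟨s, -, hs, hz, -⟩ := exists_multiset_roots ρ g (orderOf g) (pow_orderOf_eq_one g)
  rw [← hs]
  refine IsIntegral.multiset_sum fun z hzs => ?_
  refine IsIntegral.of_pow (orderOf_pos g) ?_
  rw [hz z hzs]
  exact isIntegral_one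

/-- An algebraic integer that is an average of roots of unity is zero or of absolute value one. -/
theorem eq_zero_or_norm_eq_one_of_average (s : Multiset ℂ) (n : ℕ) (hn : n ≠ 0)
    (hs : ∀ z ∈ s, z ^ n = 1) (hint : IsIntegral ℤ (s.sum / s.card)) :
    s.sum / s.card = 0 ∨ ‖s.sum / s.card‖ = 1 := by
  classical
  set α : ℂ := s.sum / s.card with hα
  by_cases h0 : α = 0
  · exact Or.inl h0
  right
  have hcard : (s.card : ℝ) ≠ 0 := by
    intro h
    have : (s.card : ℂ) = 0 := by exact_mod_cast h
    exact h0 (by rw [hα, this, div_zero])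
  let K : IntermediateField ℚ ℂ := IntermediateField.adjoin ℚ {z : ℂ | z ∈ s}
  have hfin : FiniteDimensional ℚ K := by
    have : Finite {z : ℂ | z ∈ s} := by
      have : {z : ℂ | z ∈ s} = (s.toFinset : Set ℂ) := by ext; simp
      rw [this]
      exact Finset.finite_toSet _
    refine IntermediateField.finiteDimensional_adjoin fun z hz => ?_
    refine IsIntegral.of_pow (Nat.pos_of_ne_zero hn) ?_
    rw [hs z hz]
    exact isIntegral_one
  have : NumberField K := ⟨⟩
  have hmem : ∀ z ∈ s, z ∈ K := fun z hz => IntermediateField.subset_adjoin ℚ _ hz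
  -- lift `s` to `K`
  let t : Multiset K := s.pmap (fun z hz => (⟨z, hmem z hz⟩ : K)) (fun z hz => hz)
  have htcard : t.card = s.card := Multiset.card_pmap _ _ _
  have htmap : t.map (algebraMap K ℂ) = s := by
    rw [Multiset.map_pmap]
    exact (Multiset.pmap_eq_map _ (fun z => z) _ _).trans (Multiset.map_id' s)
  have htsum : algebraMap K ℂ t.sum = s.sum := by
    rw [map_multiset_sum, htmap]
  let a : K := t.sum / t.card
  have ha : algebraMap K ℂ a = α := by
    rw [map_div₀, htsum, map_natCast, htcard]
  have ha0 : a ≠ 0 := by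
    intro h
    exact h0 (by rw [← ha, h, map_zero])
  have haint : IsIntegral ℤ a := by
    rw [← ha] at hint
    exact (isIntegral_algebraMap_iff (algebraMap K ℂ).injective).1 hint
  have htpow : ∀ z ∈ t, z ^ n = 1 := by
    intro z hz
    obtain ⟨y, hy, rfl⟩ := Multiset.mem_pmap.1 hz
    apply (algebraMap K ℂ).injective
    rw [map_pow, map_one]
    exact hs y hy
  have hnorm : ∀ φ : K →+* ℂ, ‖φ a‖ ≤ 1 := by
    intro φ
    rw [map_div₀, map_natCast, norm_div, map_multiset_sum]
    have h1 : ‖(t.map φ).sum‖ ≤ t.card := by
      refine (norm_multiset_sum_le _).trans ?_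
      rw [Multiset.map_map]
      have : t.map (norm ∘ φ) = t.map (fun _ => (1 : ℝ)) := by
        refine Multiset.map_congr rfl fun z hz => ?_
        have h2 : (φ z) ^ n = 1 := by rw [← map_pow, htpow z hz, map_one]
        exact Complex.norm_eq_one_of_pow_eq_one h2 hn
      rw [this]
      simp
    rw [Complex.norm_natCast]
    exact div_le_one_of_le₀ h1 (Nat.cast_nonneg _)
  obtain ⟨m, hm, hpow⟩ := NumberField.Embeddings.pow_eq_one_of_norm_le_one K ℂ ha0 haint hnorm
  refine Complex.norm_eq_one_of_pow_eq_one (n := m) ?_ hm.ne'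
  rw [← ha, ← map_pow, hpow, map_one]

end Cfsg.Agent.Characters.AverageRoots
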