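import Mathlib
import Cfsg.Agent.Characters.Core
import Cfsg.Agent.Characters.Central
set_option linter.all false

/-!
# Counting with irreducible characters

* `sum_irr_one_mul` : `∑ χ, χ 1 * χ g` is `|G|` at `g = 1` and `0` elsewhere.
* `sum_irr_mul_inv_conj` : class multiplication constants.
* `card_commutator_pairs` : Frobenius' count of `{(a, b) | a b a⁻¹ b⁻¹ = g}`.
-/

set_option autoImplicit false

namespace Cfsg.Agent.Characters.Counting

open Cfsg Cfsg.Agent.Characters.Core Cfsg.Agent.Characters.Central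
open scoped ComplexConjugate

universe u
variable {G : Type u} [Group G]

open scoped Classical in
/-- `∑ χ, χ(1) χ(g)` is `|G|` at `g = 1` and `0` elsewhere. -/
theorem sum_irr_one_mul [Finite G] [Fintype (IrrCharacter G)] (g : G) :
    ∑ χ : IrrCharacter G, (χ : G → ℂ) 1 * (χ : G → ℂ) g = if g = 1 then (Nat.card G : ℂ) else 0 := by
  have := Fintype.ofFinite G
  have hf : IsClassFunction G (fun h : G => if h = 1 then (Nat.card G : ℂ) else 0) := by
    intro g h
    have : h * g * h⁻¹ = 1 ↔ g = 1 := by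
      rw [mul_inv_eq_one]; exact mul_eq_left
    simp only [this]
  refine Eq.trans ?_ (congrFun (classFunction_eq_sum hf) g).symm
  rw [Finset.sum_apply]
  refine Finset.sum_congr rfl fun χ _ => ?_
  rw [Pi.smul_apply, smul_eq_mul]
  congr 1
  obtain ⟨n, _, hn⟩ := isIrr_apply_one χ.2
  have hne : (Nat.card G : ℂ) ≠ 0 := by exact_mod_cast Nat.card_pos.ne'
  unfold classInner
  simp only [ite_mul, zero_mul, Finset.sum_ite_eq', Finset.mem_univ, if_true]
  rw [hn, map_natCast, ← mul_assoc, inv_mul_cancel₀ hne, one_mul]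

open scoped Classical in
/-- Indicator of `g = 1` through irreducible characters. -/
theorem ite_eq_one [Finite G] [Fintype (IrrCharacter G)] (g : G) :
    (if g = 1 then (1 : ℂ) else 0) =
      (Nat.card G : ℂ)⁻¹ * ∑ χ : IrrCharacter G, (χ : G → ℂ) 1 * (χ : G → ℂ) g := by
  have hne : (Nat.card G : ℂ) ≠ 0 := by exact_mod_cast Nat.card_pos.ne'
  rw [sum_irr_one_mul]
  split_ifs
  · rw [inv_mul_cancel₀ hne]
  · rw [mul_zero]

/-- Frobenius: the number of pairs `(a, b)` with `a b a⁻¹ b⁻¹ g = 1` is `|G| ∑ χ(g)/χ(1)`. -/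
theorem card_commutator_pairs [Finite G] [Fintype (IrrCharacter G)] (g : G) :
    (Nat.card {p : G × G // p.1 * p.2 * p.1⁻¹ * p.2⁻¹ * g = 1} : ℂ) =
      (Nat.card G : ℂ) * ∑ χ : IrrCharacter G, (χ : G → ℂ) g / (χ : G → ℂ) 1 := by
  classical
  have := Fintype.ofFinite G
  have hne : (Nat.card G : ℂ) ≠ 0 := by exact_mod_cast Nat.card_pos.ne'
  have e1 : (Nat.card {p : G × G // p.1 * p.2 * p.1⁻¹ * p.2⁻¹ * g = 1} : ℂ) =
      ∑ a : G, ∑ b : G, if a * b * a⁻¹ * b⁻¹ * g = 1 then (1 : ℂ) else 0 := by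
    rw [Nat.card_eq_fintype_card, Fintype.card_subtype, ← Finset.sum_boole,
      Fintype.sum_prod_type]
  rw [e1]
  simp only [ite_eq_one]
  simp only [← Finset.mul_sum]
  have e2 : ∑ a : G, ∑ b : G, ∑ χ : IrrCharacter G,
      (χ : G → ℂ) 1 * (χ : G → ℂ) (a * b * a⁻¹ * b⁻¹ * g) =
      ∑ χ : IrrCharacter G, (χ : G → ℂ) 1 *
        ∑ a : G, ∑ b : G, (χ : G → ℂ) (a * b * a⁻¹ * b⁻¹ * g) := by
    simp only [Finset.mul_sum]
    rw [Finset.sum_congr rfl fun a _ => Finset.sum_comm, Finset.sum_comm]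
  rw [e2]
  have e3 : ∀ χ ∈ (Finset.univ : Finset (IrrCharacter G)), (χ : G → ℂ) 1 *
      ∑ a : G, ∑ b : G, (χ : G → ℂ) (a * b * a⁻¹ * b⁻¹ * g) =
      (Nat.card G : ℂ) ^ 2 * ((χ : G → ℂ) g / (χ : G → ℂ) 1) := by
    intro χ _
    rw [sum_char_commutator_mul χ.2]
    have := irr_one_ne_zero χ.2
    field_simp
  rw [Finset.sum_congr rfl e3, ← Finset.mul_sum]
  field_simp

end Cfsg.Agent.Characters.Counting
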