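import Mathlib
import Cfsg.Agent.Characters.Core
import Cfsg.Agent.Characters.Central
import Cfsg.Agent.Characters.Counting
set_option linter.all false

/-!
# Class sums and class multiplication constants

* `sum_conj_eq_smul` : `∑ a, f (a x a⁻¹) = |C_G(x)| • ∑_{u ~ x} f u`.
* `classSum_smul` : `∑_{u ~ x} ρ u` is the scalar `|G : C_G(x)| χ(x) / χ(1)` (central character).
* `sum_class_char_mul` : `∑_{u ~ x} χ(u y) = |G : C_G(x)| χ(x) χ(y) / χ(1)`.
* `card_conj_mul_conj` : `#{(a,b) | a x a⁻¹ b y b⁻¹ = z} = |G| ∑_χ χ(x) χ(y) conj χ(z) / χ(1)`.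
* `card_class_mul` : class multiplication constants
  `#{(u,v) | u ~ x, v ~ y, u v = z} = |x^G| |y^G| / |G| ∑_χ χ(x) χ(y) conj χ(z) / χ(1)`.
-/

set_option autoImplicit false

namespace Cfsg.Agent.Characters.ClassMul

open Cfsg Cfsg.Agent.Characters.Core Cfsg.Agent.Characters.Central
  Cfsg.Agent.Characters.Counting
open scoped ComplexConjugate

universe u
variable {G : Type u} [Group G]

/-- The fibre of `a ↦ a x a⁻¹` over a conjugate of `x` is a coset of the centralizer. -/
theorem card_fiber_conj (x u : G) (h : IsConj x u) :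
    Nat.card {a : G // a * x * a⁻¹ = u} = Nat.card (Subgroup.centralizer ({x} : Set G)) := by
  obtain ⟨c, hc⟩ := isConj_iff.mp h
  refine Nat.card_congr ⟨fun a => ⟨c⁻¹ * a.1, ?_⟩, fun b => ⟨c * b.1, ?_⟩, fun a => ?_, fun b => ?_⟩
  · rw [Subgroup.mem_centralizer_singleton_iff]
    have := a.2.trans hc.symm
    have e : a.1 * x = c * x * c⁻¹ * a.1 := by rw [← this]; group
    calc c⁻¹ * a.1 * x = c⁻¹ * (a.1 * x) := by group
      _ = _ := by rw [e]; group
  · have := b.2
    rw [Subgroup.mem_centralizer_singleton_iff] at this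
    refine Eq.trans ?_ hc
    calc c * b.1 * x * (c * b.1)⁻¹ = c * (b.1 * x) * b.1⁻¹ * c⁻¹ := by group
      _ = _ := by rw [this]; group
  · ext; simp
  · ext; simp

open scoped Classical in
/-- `∑ a, f (a x a⁻¹) = |C_G(x)| • ∑_{u ~ x} f u`. -/
theorem sum_conj_eq_smul [Fintype G] {M : Type*} [AddCommMonoid M] (f : G → M) (x : G) :
    ∑ a : G, f (a * x * a⁻¹) =
      Nat.card (Subgroup.centralizer ({x} : Set G)) • ∑ u with IsConj x u, f u := by
  rw [← Finset.sum_fiberwise_of_maps_to (t := Finset.univ.filter (IsConj x))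
    (g := fun a : G => a * x * a⁻¹) (f := fun a => f (a * x * a⁻¹))
    (fun a _ => by
      rw [Finset.mem_filter]
      exact ⟨Finset.mem_univ _, isConj_iff.mpr ⟨a, rfl⟩⟩)]
  rw [Finset.smul_sum]
  refine Finset.sum_congr rfl fun u hu => ?_
  rw [Finset.mem_filter] at hu
  rw [Finset.sum_congr rfl (g := fun _ => f u) (fun a ha => by
    rw [Finset.mem_filter] at ha; rw [ha.2]), Finset.sum_const]
  congr 1
  rw [← card_fiber_conj x u hu.2, Nat.card_eq_fintype_card, Fintype.card_subtype]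

theorem card_centralizer_mul_index [Finite G] (x : G) :
    (Nat.card (Subgroup.centralizer ({x} : Set G)) : ℂ) *
      ((Subgroup.centralizer ({x} : Set G)).index : ℂ) = Nat.card G := by
  exact_mod_cast (Subgroup.centralizer ({x} : Set G)).card_mul_index

open scoped Classical in
/-- The number of conjugates of `x` is the index of the centralizer. -/
theorem card_filter_isConj [Fintype G] (x : G) :
    (Finset.univ.filter (IsConj x)).card = (Subgroup.centralizer ({x} : Set G)).index := by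
  have h := sum_conj_eq_smul (fun _ : G => (1 : ℕ)) x
  simp only [Finset.sum_const, smul_eq_mul, mul_one, Finset.card_univ] at h
  have h2 := (Subgroup.centralizer ({x} : Set G)).card_mul_index
  rw [Nat.card_eq_fintype_card (α := G), h] at h2
  exact (Nat.eq_of_mul_eq_mul_left Nat.card_pos h2).symm

section Rep

variable {V : Type*} [AddCommGroup V] [Module ℂ V] [FiniteDimensional ℂ V]
  (ρ : Representation ℂ G V)

open scoped Classical in
/-- A class sum acts as the scalar `|G : C_G(x)| χ(x)/χ(1)` in an irreducible representation. -/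
theorem classSum_smul [Fintype G] (h : ρ.IsIrreducible) (x : G) :
    ∑ u with IsConj x u, ρ u = (((Subgroup.centralizer ({x} : Set G)).index : ℂ) *
      ρ.character x / ρ.character 1) • (1 : Module.End ℂ V) := by
  have h1 := sum_conj_smul ρ h x
  rw [sum_conj_eq_smul (fun a => ρ a) x, ← card_centralizer_mul_index x] at h1
  have hne : (Nat.card (Subgroup.centralizer ({x} : Set G)) : ℂ) ≠ 0 := by
    exact_mod_cast Nat.card_pos.ne'
  rw [← Nat.cast_smul_eq_nsmul ℂ] at h1
  have h2 := congrArg (fun t => (Nat.card (Subgroup.centralizer ({x} : Set G)) : ℂ)⁻¹ • t) h1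
  simp only [smul_smul, inv_mul_cancel₀ hne, one_smul] at h2
  rw [h2]
  congr 1
  field_simp

end Rep

open scoped Classical in
/-- `∑_{u ~ x} χ(u y) = |G : C_G(x)| χ(x) χ(y) / χ(1)`. -/
theorem sum_class_char_mul [Fintype G] {χ : G → ℂ} (hχ : IsIrrCharacter G χ) (x y : G) :
    ∑ u with IsConj x u, χ (u * y) =
      ((Subgroup.centralizer ({x} : Set G)).index : ℂ) * χ x * χ y / χ 1 := by
  have h1 := sum_char_conj_mul hχ x y
  rw [sum_conj_eq_smul (fun a => χ (a * y)) x, ← card_centralizer_mul_index x, nsmul_eq_mul] at h1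
  have hne : (Nat.card (Subgroup.centralizer ({x} : Set G)) : ℂ) ≠ 0 := by
    exact_mod_cast Nat.card_pos.ne'
  refine mul_left_cancel₀ hne (h1.trans ?_)
  ring

open scoped Classical in
/-- Product of central character values:
`ω(x) ω(y) = ∑_{u ~ x} ∑_{v ~ y} χ(u v) / χ(1)`. -/
theorem sum_class_sum_class_char_mul [Fintype G] {χ : G → ℂ} (hχ : IsIrrCharacter G χ) (x y : G) :
    ∑ u with IsConj x u, ∑ v with IsConj y v, χ (u * v) / χ 1 =
      (((Subgroup.centralizer ({x} : Set G)).index : ℂ) * χ x / χ 1) *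
      (((Subgroup.centralizer ({y} : Set G)).index : ℂ) * χ y / χ 1) := by
  rw [Finset.sum_comm]
  have h1 : ∀ v ∈ Finset.univ.filter (IsConj y), ∑ u with IsConj x u, χ (u * v) / χ 1 =
      ((Subgroup.centralizer ({x} : Set G)).index : ℂ) * χ x * χ y / χ 1 / χ 1 := by
    intro v hv
    rw [Finset.mem_filter] at hv
    obtain ⟨c, hc⟩ := isConj_iff.mp hv.2
    rw [← Finset.sum_div, sum_class_char_mul hχ x v, ← hc, isIrr_isClassFunction hχ y c]
  rw [Finset.sum_congr rfl h1, Finset.sum_const, card_filter_isConj, nsmul_eq_mul]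
  ring

/-- `#{(a,b) | a x a⁻¹ b y b⁻¹ = z} = |G| ∑_χ χ(x) χ(y) conj χ(z) / χ(1)`. -/
theorem card_conj_mul_conj [Finite G] [Fintype (IrrCharacter G)] (x y z : G) :
    (Nat.card {p : G × G // p.1 * x * p.1⁻¹ * (p.2 * y * p.2⁻¹) = z} : ℂ) =
      (Nat.card G : ℂ) * ∑ χ : IrrCharacter G,
        (χ : G → ℂ) x * (χ : G → ℂ) y * conj ((χ : G → ℂ) z) / (χ : G → ℂ) 1 := by
  classical
  have := Fintype.ofFinite G
  have hne : (Nat.card G : ℂ) ≠ 0 := by exact_mod_cast Nat.card_pos.ne'
  have e1 : (Nat.card {p : G × G // p.1 * x * p.1⁻¹ * (p.2 * y * p.2⁻¹) = z} : ℂ) =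
      ∑ a : G, ∑ b : G, if a * x * a⁻¹ * (b * y * b⁻¹ * z⁻¹) = 1 then (1 : ℂ) else 0 := by
    rw [Nat.card_eq_fintype_card, Fintype.card_subtype, ← Finset.sum_boole,
      Fintype.sum_prod_type]
    refine Finset.sum_congr rfl fun a _ => Finset.sum_congr rfl fun b _ => ?_
    have : a * x * a⁻¹ * (b * y * b⁻¹ * z⁻¹) = 1 ↔ a * x * a⁻¹ * (b * y * b⁻¹) = z := by
      rw [← mul_assoc (a * x * a⁻¹), mul_inv_eq_one]
    simp only [this]
  rw [e1]
  simp only [ite_eq_one]
  simp only [← Finset.mul_sum]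
  have e2 : ∑ a : G, ∑ b : G, ∑ χ : IrrCharacter G,
      (χ : G → ℂ) 1 * (χ : G → ℂ) (a * x * a⁻¹ * (b * y * b⁻¹ * z⁻¹)) =
      ∑ χ : IrrCharacter G, (χ : G → ℂ) 1 *
        ∑ b : G, ∑ a : G, (χ : G → ℂ) (a * x * a⁻¹ * (b * y * b⁻¹ * z⁻¹)) := by
    simp only [Finset.mul_sum]
    rw [Finset.sum_comm, Finset.sum_congr rfl fun b _ => Finset.sum_comm, Finset.sum_comm]
  rw [e2]
  have e3 : ∀ χ ∈ (Finset.univ : Finset (IrrCharacter G)), (χ : G → ℂ) 1 *
      ∑ b : G, ∑ a : G, (χ : G → ℂ) (a * x * a⁻¹ * (b * y * b⁻¹ * z⁻¹)) =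
      (Nat.card G : ℂ) ^ 2 *
        ((χ : G → ℂ) x * (χ : G → ℂ) y * conj ((χ : G → ℂ) z) / (χ : G → ℂ) 1) := by
    intro χ _
    have h1 : (χ : G → ℂ) 1 ≠ 0 := irr_one_ne_zero χ.2
    have h2 : ∀ b ∈ (Finset.univ : Finset G),
        ∑ a : G, (χ : G → ℂ) (a * x * a⁻¹ * (b * y * b⁻¹ * z⁻¹)) =
        ((Nat.card G : ℂ) * (χ : G → ℂ) x / (χ : G → ℂ) 1) * (χ : G → ℂ) (b * y * b⁻¹ * z⁻¹) := by
      intro b _
      rw [sum_char_conj_mul χ.2]
      ring
    rw [Finset.sum_congr rfl h2, ← Finset.mul_sum, sum_char_conj_mul χ.2,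
      isCharacter_apply_inv (isIrr_isCharacter χ.2) z]
    field_simp
  rw [Finset.sum_congr rfl e3, ← Finset.mul_sum]
  field_simp

/-- Relation between the two counts. -/
theorem card_conj_mul_conj_eq [Finite G] (x y z : G) :
    Nat.card {p : G × G // p.1 * x * p.1⁻¹ * (p.2 * y * p.2⁻¹) = z} =
      Nat.card (Subgroup.centralizer ({x} : Set G)) *
      Nat.card (Subgroup.centralizer ({y} : Set G)) *
      Nat.card {p : G × G // IsConj x p.1 ∧ IsConj y p.2 ∧ p.1 * p.2 = z} := by
  classical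
  have := Fintype.ofFinite G
  rw [Nat.card_eq_fintype_card, Nat.card_eq_fintype_card
    (α := {p : G × G // IsConj x p.1 ∧ IsConj y p.2 ∧ p.1 * p.2 = z}),
    Fintype.card_subtype, Fintype.card_subtype, Finset.card_filter, Finset.card_filter,
    Fintype.sum_prod_type, Fintype.sum_prod_type]
  have e1 : ∀ a ∈ (Finset.univ : Finset G),
      ∑ b : G, (if a * x * a⁻¹ * (b * y * b⁻¹) = z then 1 else 0) =
      Nat.card (Subgroup.centralizer ({y} : Set G)) •
        ∑ v with IsConj y v, (if a * x * a⁻¹ * v = z then 1 else 0) := fun a _ =>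
    sum_conj_eq_smul (fun v => if a * x * a⁻¹ * v = z then 1 else 0) y
  simp only
  rw [Finset.sum_congr rfl e1, ← Finset.smul_sum,
    sum_conj_eq_smul (fun u => ∑ v with IsConj y v, (if u * v = z then 1 else 0)) x]
  rw [smul_eq_mul, smul_eq_mul, ← mul_assoc,
    mul_comm (Nat.card (Subgroup.centralizer ({y} : Set G)))]
  congr 1
  rw [Finset.sum_filter]
  refine Finset.sum_congr rfl fun u _ => ?_
  by_cases hu : IsConj x u
  · simp only [hu, if_true, true_and]
    rw [Finset.sum_filter]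
    refine Finset.sum_congr rfl fun v _ => ?_
    by_cases hv : IsConj y v
    · simp only [hv, if_true, true_and]
    · simp only [hv, if_false, false_and]
  · simp only [hu, if_false, false_and, Finset.sum_const_zero]

/-- **Class multiplication constants** through characters. -/
theorem card_class_mul [Finite G] [Fintype (IrrCharacter G)] (x y z : G) :
    (Nat.card {p : G × G // IsConj x p.1 ∧ IsConj y p.2 ∧ p.1 * p.2 = z} : ℂ) =
      ((Subgroup.centralizer ({x} : Set G)).index : ℂ) *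
      ((Subgroup.centralizer ({y} : Set G)).index : ℂ) / (Nat.card G : ℂ) *
      ∑ χ : IrrCharacter G,
        (χ : G → ℂ) x * (χ : G → ℂ) y * conj ((χ : G → ℂ) z) / (χ : G → ℂ) 1 := by
  have h1 := card_conj_mul_conj x y z
  rw [card_conj_mul_conj_eq] at h1
  push_cast at h1
  have hx := card_centralizer_mul_index x
  have hy := card_centralizer_mul_index y
  have hne : (Nat.card G : ℂ) ≠ 0 := by exact_mod_cast Nat.card_pos.ne'
  have hxne : (Nat.card (Subgroup.centralizer ({x} : Set G)) : ℂ) ≠ 0 := by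
    exact_mod_cast Nat.card_pos.ne'
  have hyne : (Nat.card (Subgroup.centralizer ({y} : Set G)) : ℂ) ≠ 0 := by
    exact_mod_cast Nat.card_pos.ne'
  refine mul_left_cancel₀ (mul_ne_zero hxne hyne) (h1.trans ?_)
  set S := ∑ χ : IrrCharacter G,
        (χ : G → ℂ) x * (χ : G → ℂ) y * conj ((χ : G → ℂ) z) / (χ : G → ℂ) 1
  have : (Nat.card (Subgroup.centralizer ({x} : Set G)) : ℂ) *
      (Nat.card (Subgroup.centralizer ({y} : Set G)) : ℂ) *
      (((Subgroup.centralizer ({x} : Set G)).index : ℂ) *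
      ((Subgroup.centralizer ({y} : Set G)).index : ℂ) / (Nat.card G : ℂ) * S) =
      ((Nat.card (Subgroup.centralizer ({x} : Set G)) : ℂ) *
        ((Subgroup.centralizer ({x} : Set G)).index : ℂ)) *
      ((Nat.card (Subgroup.centralizer ({y} : Set G)) : ℂ) *
        ((Subgroup.centralizer ({y} : Set G)).index : ℂ)) / (Nat.card G : ℂ) * S := by ring
  rw [this, hx, hy]
  field_simp

end Cfsg.Agent.Characters.ClassMul
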