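import Mathlib
set_option linter.all false

set_option autoImplicit false

/-!
# The Galois action on character values

* `exists_nat_coeffs`, `exists_int_poly`: the character value `ρ.character (g ^ m)` is the value of
  one fixed integer polynomial at `ζ ^ m`.
-/

namespace Cfsg.Agent.Characters.Galois

open Module Finset Polynomial

/-- An endomorphism `T` with `T ^ n = 1`: the traces of its powers are `∑ j < n, d j * ζ ^ (j * m)` with
natural numbers `d j` (the dimensions of the eigenspaces). -/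
theorem exists_trace_pow {V : Type*} [AddCommGroup V] [Module ℂ V] [FiniteDimensional ℂ V]
    (T : End ℂ V) {n : ℕ} (hn : n ≠ 0) (hT : T ^ n = 1) {ζ : ℂ} (hζ : IsPrimitiveRoot ζ n) :
    ∃ d : ℕ → ℕ, ∀ m : ℕ, LinearMap.trace ℂ V (T ^ m) = ∑ j ∈ range n, (d j : ℂ) * ζ ^ (j * m) := by
  have hζ0 : ζ ≠ 0 := hζ.ne_zero hn
  have hn' : (n : ℂ) ≠ 0 := Nat.cast_ne_zero.mpr hn
  let P : ℕ → End ℂ V := fun j => (n : ℂ)⁻¹ • ∑ k ∈ range n, (ζ ^ (j * k))⁻¹ • T ^ k
  have hTP : ∀ j, T * P j = ζ ^ j • P j := by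
    intro j
    have h1 : T * ∑ k ∈ range n, (ζ ^ (j * k))⁻¹ • T ^ k =
        ζ ^ j • ∑ k ∈ range n, (ζ ^ (j * (k + 1)))⁻¹ • T ^ (k + 1) := by
      rw [Finset.mul_sum, Finset.smul_sum]
      refine Finset.sum_congr rfl fun k _ => ?_
      rw [mul_smul_comm, ← pow_succ', smul_smul]
      congr 1
      rw [mul_add, mul_one, pow_add]
      field_simp
    have h2 : ∑ k ∈ range n, (ζ ^ (j * (k + 1)))⁻¹ • T ^ (k + 1) =
        ∑ k ∈ range n, (ζ ^ (j * k))⁻¹ • T ^ k := by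
      have h3 := Finset.sum_range_succ (fun k => (ζ ^ (j * k))⁻¹ • T ^ k) n
      have h4 := Finset.sum_range_succ' (fun k => (ζ ^ (j * k))⁻¹ • T ^ k) n
      rw [h3] at h4
      have h5 : (ζ ^ (j * n))⁻¹ • T ^ n = (ζ ^ (j * 0))⁻¹ • T ^ 0 := by
        rw [hT, mul_comm j n, pow_mul, hζ.pow_eq_one, one_pow, mul_zero, pow_zero, pow_zero]
      rw [h5] at h4
      exact (add_right_cancel h4).symm
    show T * ((n : ℂ)⁻¹ • _) = ζ ^ j • ((n : ℂ)⁻¹ • _)
    rw [mul_smul_comm, h1, h2, smul_comm]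
  have hTkP : ∀ (k j : ℕ), T ^ k * P j = ζ ^ (j * k) • P j := by
    intro k j
    induction k with
    | zero => simp
    | succ k ih =>
      rw [pow_succ', mul_assoc, ih, mul_smul_comm, hTP, smul_smul, ← pow_add]
      rfl
  have hPP : ∀ j, P j * P j = P j := by
    intro j
    have : P j * P j = (n : ℂ)⁻¹ • ∑ k ∈ range n, ((ζ ^ (j * k))⁻¹ • T ^ k) * P j := by
      show ((n : ℂ)⁻¹ • ∑ k ∈ range n, (ζ ^ (j * k))⁻¹ • T ^ k) * P j = _
      rw [smul_mul_assoc, Finset.sum_mul]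
    rw [this]
    have h1 : ∀ k ∈ range n, ((ζ ^ (j * k))⁻¹ • T ^ k) * P j = P j := by
      intro k _
      rw [smul_mul_assoc, hTkP, smul_smul, inv_mul_cancel₀ (pow_ne_zero _ hζ0), one_smul]
    rw [Finset.sum_congr rfl h1, Finset.sum_const, Finset.card_range, ← Nat.cast_smul_eq_nsmul ℂ,
      smul_smul, inv_mul_cancel₀ hn', one_smul]
  have hsumP : ∑ j ∈ range n, P j = 1 := by
    show ∑ j ∈ range n, (n : ℂ)⁻¹ • ∑ k ∈ range n, (ζ ^ (j * k))⁻¹ • T ^ k = 1
    rw [← Finset.smul_sum, Finset.sum_comm]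
    rw [Finset.sum_eq_single 0]
    · simp only [mul_zero, pow_zero, inv_one, one_smul, Finset.sum_const, Finset.card_range]
      rw [← Nat.cast_smul_eq_nsmul ℂ, smul_smul, inv_mul_cancel₀ hn', one_smul]
    · intro k hk hk0
      rw [← Finset.sum_smul]
      have h1 : ∑ j ∈ range n, (ζ ^ (j * k))⁻¹ = ∑ j ∈ range n, ((ζ ^ k)⁻¹) ^ j := by
        refine Finset.sum_congr rfl fun j _ => ?_
        rw [mul_comm, pow_mul, inv_pow]
      have h2 : (ζ ^ k)⁻¹ ≠ 1 := by
        intro h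
        rw [inv_eq_one] at h
        exact hζ.pow_ne_one_of_pos_of_lt hk0 (Finset.mem_range.mp hk) h
      have h3 : ((ζ ^ k)⁻¹) ^ n = 1 := by
        rw [inv_pow, ← pow_mul, mul_comm, pow_mul, hζ.pow_eq_one, one_pow, inv_one]
      have h4 : ∑ j ∈ range n, ((ζ ^ k)⁻¹) ^ j = 0 := by
        rw [geom_sum_eq h2, h3, sub_self, zero_div]
      rw [h1, h4, zero_smul]
    · intro h
      exact absurd (Finset.mem_range.mpr (Nat.pos_of_ne_zero hn)) h
  refine ⟨fun j => finrank ℂ (LinearMap.range (P j)), fun m => ?_⟩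
  have hTm : T ^ m = ∑ j ∈ range n, ζ ^ (j * m) • P j := by
    calc T ^ m = T ^ m * ∑ j ∈ range n, P j := by rw [hsumP, mul_one]
      _ = ∑ j ∈ range n, T ^ m * P j := by rw [Finset.mul_sum]
      _ = ∑ j ∈ range n, ζ ^ (j * m) • P j := Finset.sum_congr rfl fun j _ => hTkP m j
  rw [hTm, map_sum]
  refine Finset.sum_congr rfl fun j _ => ?_
  have hproj : LinearMap.IsProj (LinearMap.range (P j)) (P j) :=
    LinearMap.isProj_range_iff_isIdempotentElem (P j) |>.mpr (hPP j)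
  rw [map_smul, hproj.trace, smul_eq_mul, mul_comm]

/-- The values `ρ.character (g ^ m)` are given by one fixed formula `∑ j < n, d j * ζ ^ (j * m)`. -/
theorem exists_nat_coeffs {G : Type*} [Group G] {V : Type*} [AddCommGroup V] [Module ℂ V]
    [FiniteDimensional ℂ V] (ρ : Representation ℂ G V) (g : G) {n : ℕ} (hn : n ≠ 0)
    (hg : g ^ n = 1) {ζ : ℂ} (hζ : IsPrimitiveRoot ζ n) :
    ∃ d : ℕ → ℕ, ∀ m : ℕ, ρ.character (g ^ m) = ∑ j ∈ range n, (d j : ℂ) * ζ ^ (j * m) := by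
  obtain ⟨d, hd⟩ := exists_trace_pow (ρ g) hn (by rw [← map_pow, hg, map_one]) hζ
  refine ⟨d, fun m => ?_⟩
  rw [← hd m, ← map_pow]
  rfl

/-- The values `ρ.character (g ^ m)` are the values at `ζ ^ m` of one fixed integer polynomial. -/
theorem exists_int_poly {G : Type*} [Group G] {V : Type*} [AddCommGroup V] [Module ℂ V]
    [FiniteDimensional ℂ V] (ρ : Representation ℂ G V) (g : G) {n : ℕ} (hn : n ≠ 0)
    (hg : g ^ n = 1) {ζ : ℂ} (hζ : IsPrimitiveRoot ζ n) :
    ∃ f : ℤ[X], ∀ m : ℕ, ρ.character (g ^ m) = aeval (ζ ^ m) f := by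
  obtain ⟨d, hd⟩ := exists_nat_coeffs ρ g hn hg hζ
  refine ⟨∑ j ∈ range n, (d j : ℤ[X]) * X ^ j, fun m => ?_⟩
  rw [hd m, map_sum]
  refine Finset.sum_congr rfl fun j _ => ?_
  rw [map_mul, map_natCast, map_pow, aeval_X, ← pow_mul, mul_comm m j]

/-- If a field embedding `φ` of a field `K` in `ℂ` differs from another one, `i`, by the `m`-th power
map on `n`-th roots of unity, then it maps the element `x` of `K` with `i x = ρ.character g` to
`ρ.character (g ^ m)`. -/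
theorem map_character_of_map_zeta {K : Type*} [Field K] (i φ : K →+* ℂ) {n : ℕ} (hn : n ≠ 0)
    {z : K} (hz : IsPrimitiveRoot (i z) n) {m : ℕ} (hφ : φ z = (i z) ^ m)
    {G : Type*} [Group G] {V : Type*} [AddCommGroup V] [Module ℂ V]
    [FiniteDimensional ℂ V] (ρ : Representation ℂ G V) (g : G) (hg : g ^ n = 1)
    (x : K) (hx : i x = ρ.character g) : φ x = ρ.character (g ^ m) := by
  obtain ⟨d, hd⟩ := exists_nat_coeffs ρ g hn hg hz
  have h1 : x = ∑ j ∈ range n, (d j : K) * z ^ j := by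
    apply i.injective
    rw [hx, map_sum, ← pow_one g, hd 1]
    refine Finset.sum_congr rfl fun j _ => ?_
    rw [map_mul, map_natCast, map_pow, mul_one]
  rw [h1, hd m, map_sum]
  refine Finset.sum_congr rfl fun j _ => ?_
  rw [map_mul, map_natCast, map_pow, hφ, ← pow_mul, mul_comm m j]

/-- An endomorphism of `ℂ` acting as `m`-th power on the `n`-th roots of unity maps the character value
at `g` to the one at `g ^ m`. -/
theorem map_character (σ : ℂ →+* ℂ) {n : ℕ} (hn : n ≠ 0) {m : ℕ}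
    (hσ : ∀ z : ℂ, z ^ n = 1 → σ z = z ^ m) {G : Type*} [Group G] {V : Type*} [AddCommGroup V]
    [Module ℂ V] [FiniteDimensional ℂ V] (ρ : Representation ℂ G V) (g : G) (hg : g ^ n = 1) :
    σ (ρ.character g) = ρ.character (g ^ m) := by
  have hζ := Complex.isPrimitiveRoot_exp n hn
  exact map_character_of_map_zeta (RingHom.id ℂ) σ hn (z := Complex.exp (2 * Real.pi * Complex.I / n))
    hζ (hσ _ hζ.pow_eq_one) ρ g hg _ rfl

/-- An endomorphism of `ℂ` acts on the `n`-th roots of unity as a power map with exponent prime to `n`. -/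
theorem exists_pow_of_ringHom (σ : ℂ →+* ℂ) {n : ℕ} (hn : n ≠ 0) :
    ∃ m : ℕ, m.Coprime n ∧ ∀ z : ℂ, z ^ n = 1 → σ z = z ^ m := by
  have : NeZero n := ⟨hn⟩
  have hζ := Complex.isPrimitiveRoot_exp n hn
  set ζ := Complex.exp (2 * Real.pi * Complex.I / n) with hζdef
  have h1 : (σ ζ) ^ n = 1 := by rw [← map_pow, hζ.pow_eq_one, map_one]
  obtain ⟨m, _, hm⟩ := hζ.eq_pow_of_pow_eq_one h1
  refine ⟨m, ?_, ?_⟩
  · have h2 : IsPrimitiveRoot (σ ζ) n := hζ.map_of_injective σ.injective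
    rw [← hm] at h2
    exact (hζ.pow_iff_coprime (Nat.pos_of_ne_zero hn) m).mp h2
  · intro z hz
    obtain ⟨i, _, rfl⟩ := hζ.eq_pow_of_pow_eq_one hz
    rw [map_pow, ← hm, ← pow_mul, ← pow_mul, mul_comm]

/-- Every automorphism of a field `K` over which `ℂ` is an algebra extends to an automorphism of `ℂ`. -/
theorem exists_ringEquiv_extending {K : Type*} [Field K] [Algebra K ℂ] (σ : K ≃+* K) :
    ∃ τ : ℂ ≃+* ℂ, ∀ x : K, τ (algebraMap K ℂ x) = algebraMap K ℂ (σ x) := by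
  obtain ⟨ι, v, hv⟩ := exists_isTranscendenceBasis' K ℂ
  let A := Algebra.adjoin K (Set.range v)
  have : IsAlgClosure A ℂ := IsAlgClosed.isAlgClosure_of_transcendence_basis v hv
  let e₁ : MvPolynomial ι K ≃ₐ[K] A := hv.1.aevalEquiv
  let e : A ≃+* A := (e₁.symm.toRingEquiv.trans (MvPolynomial.mapEquiv ι σ)).trans e₁.toRingEquiv
  refine ⟨IsAlgClosure.equivOfEquiv ℂ ℂ e, fun x => ?_⟩
  have h1 : algebraMap K ℂ x = algebraMap A ℂ (algebraMap K A x) := rfl
  have h2 : algebraMap K ℂ (σ x) = algebraMap A ℂ (algebraMap K A (σ x)) := rfl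
  rw [h1, IsAlgClosure.equivOfEquiv_algebraMap, h2]
  congr 1
  show e₁ (MvPolynomial.mapEquiv ι σ (e₁.symm (algebraMap K A x))) = _
  rw [AlgEquiv.commutes, MvPolynomial.algebraMap_eq, MvPolynomial.mapEquiv_apply,
    MvPolynomial.map_C, ← MvPolynomial.algebraMap_eq]
  exact e₁.commutes (σ x)

/-- For `m` prime to `n` there is an automorphism of `ℂ` acting as the `m`-th power map on the `n`-th
roots of unity. -/
theorem exists_ringEquiv_complex {n : ℕ} (hn : n ≠ 0) {m : ℕ} (hm : m.Coprime n) :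
    ∃ σ : ℂ ≃+* ℂ, ∀ z : ℂ, z ^ n = 1 → σ z = z ^ m := by
  have : NeZero n := ⟨hn⟩
  have hζ := Complex.isPrimitiveRoot_exp n hn
  set ζ := Complex.exp (2 * Real.pi * Complex.I / n) with hζdef
  let K := IntermediateField.adjoin ℚ {ζ}
  have hint : IsIntegral ℚ ζ := IsIntegral.of_pow (Nat.pos_of_ne_zero hn) (by
      rw [hζ.pow_eq_one]; exact isIntegral_one)
  have : IsCyclotomicExtension {n} ℚ K := by
    change IsCyclotomicExtension {n} ℚ (IntermediateField.adjoin ℚ {ζ}).toSubalgebra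
    rw [IntermediateField.adjoin_simple_toSubalgebra_of_isAlgebraic hint.isAlgebraic]
    exact hζ.adjoin_isCyclotomicExtension ℚ
  have hirr : Irreducible (cyclotomic n ℚ) := cyclotomic.irreducible_rat (Nat.pos_of_ne_zero hn)
  let t : (ZMod n)ˣ := ZMod.unitOfCoprime m hm
  let σ : K ≃ₐ[ℚ] K := (IsCyclotomicExtension.autEquivPow K hirr).symm t
  have hz := IsCyclotomicExtension.zeta_spec n ℚ K
  have hσ : σ (IsCyclotomicExtension.zeta n ℚ K) = (IsCyclotomicExtension.zeta n ℚ K) ^ m := by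
    have h1 := hz.autToPow_spec ℚ σ
    have h2 : (hz.autToPow ℚ σ) = t := (IsCyclotomicExtension.autEquivPow K hirr).apply_symm_apply t
    rw [h2] at h1
    rw [← h1]
    have h3 : ((t : ZMod n).val) = m % n := by
      rw [ZMod.coe_unitOfCoprime, ZMod.val_natCast]
    rw [h3]
    exact (pow_eq_pow_mod m hz.pow_eq_one).symm
  obtain ⟨τ, hτ⟩ := exists_ringEquiv_extending (σ : K ≃+* K)
  refine ⟨τ, fun z hzn => ?_⟩
  have hz' : IsPrimitiveRoot (algebraMap K ℂ (IsCyclotomicExtension.zeta n ℚ K)) n :=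
    hz.map_of_injective (algebraMap K ℂ).injective
  obtain ⟨i, _, rfl⟩ := hz'.eq_pow_of_pow_eq_one hzn
  rw [map_pow, hτ]
  have h4 : (σ : K ≃+* K) (IsCyclotomicExtension.zeta n ℚ K) = (IsCyclotomicExtension.zeta n ℚ K) ^ m := hσ
  rw [h4, map_pow, ← pow_mul, ← pow_mul, mul_comm]

/-- An algebraic number fixed by every automorphism of `ℂ` is rational. -/
theorem exists_rat_of_forall_ringEquiv {z : ℂ} (hz : IsAlgebraic ℚ z) (h : ∀ σ : ℂ ≃+* ℂ, σ z = z) :
    ∃ q : ℚ, z = (q : ℂ) := by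
  let K := algebraicClosure ℚ ℂ
  have hzK : z ∈ K := by
    rw [mem_algebraicClosure_iff]
    exact hz
  have : IsAlgClosure ℚ K := algebraicClosure.isAlgClosure ℚ ℂ
  have : IsGalois ℚ K := IsAlgClosure.isGalois ℚ K
  have h1 : (⟨z, hzK⟩ : K) ∈ (⊥ : IntermediateField ℚ K) := by
    rw [InfiniteGalois.mem_bot_iff_fixed]
    intro σ
    obtain ⟨τ, hτ⟩ := exists_ringEquiv_extending (σ : K ≃+* K)
    apply (algebraMap K ℂ).injective
    have h2 := hτ ⟨z, hzK⟩
    rw [show algebraMap K ℂ ⟨z, hzK⟩ = z from rfl, h τ] at h2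
    exact h2.symm
  rw [IntermediateField.mem_bot] at h1
  obtain ⟨q, hq⟩ := h1
  refine ⟨q, ?_⟩
  have h3 := congrArg (algebraMap K ℂ) hq
  rw [show algebraMap K ℂ ⟨z, hzK⟩ = z from rfl] at h3
  rw [← h3]
  rfl

/-- An algebraic integer fixed by every automorphism of `ℂ` is a rational integer. -/
theorem exists_int_of_forall_ringEquiv {z : ℂ} (hz : IsIntegral ℤ z) (h : ∀ σ : ℂ ≃+* ℂ, σ z = z) :
    ∃ k : ℤ, z = (k : ℂ) := by
  obtain ⟨q, rfl⟩ := exists_rat_of_forall_ringEquiv (hz.tower_top (A := ℚ)).isAlgebraic h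
  have h1 : IsIntegral ℤ q := by
    rw [show ((q : ℚ) : ℂ) = algebraMap ℚ ℂ q from rfl] at hz
    exact (isIntegral_algebraMap_iff (algebraMap ℚ ℂ).injective).mp hz
  obtain ⟨k, hk⟩ := IsIntegrallyClosed.isIntegral_iff.mp h1
  exact ⟨k, by rw [← hk]; simp⟩

/-- If the value of a rational polynomial at `ζ` equals its value at all `ζ ^ m` with `m` prime to the
order `n` of `ζ`, then it is rational. -/
theorem rational_of_fixed {n : ℕ} (hn : n ≠ 0) {ζ : ℂ} (hζ : IsPrimitiveRoot ζ n) (f : ℚ[X])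
    (h : ∀ m : ℕ, m.Coprime n → aeval (ζ ^ m) f = aeval ζ f) : ∃ q : ℚ, aeval ζ f = (q : ℂ) := by
  apply exists_rat_of_forall_ringEquiv
  · have h1 : IsIntegral ℚ ζ := IsIntegral.of_pow (Nat.pos_of_ne_zero hn) (by
      rw [hζ.pow_eq_one]; exact isIntegral_one)
    exact (IsIntegral.of_mem_of_fg _ h1.fg_adjoin_singleton _ (aeval_mem_adjoin_singleton ℚ ζ)).isAlgebraic
  · intro σ
    obtain ⟨m, hm, hσ⟩ := exists_pow_of_ringHom (σ : ℂ →+* ℂ) hn
    have h2 : σ (aeval ζ f) = aeval (σ ζ) f := by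
      have := (aeval_algHom_apply (σ.toRingHom.toRatAlgHom) ζ f).symm
      exact this
    have h3 : σ ζ = ζ ^ m := hσ ζ hζ.pow_eq_one
    rw [h2, h3, h m hm]

/-- If the value of an integer polynomial at `ζ` equals its value at all `ζ ^ m` with `m` prime to the
order `n` of `ζ`, then it is a rational integer. -/
theorem int_of_fixed {n : ℕ} (hn : n ≠ 0) {ζ : ℂ} (hζ : IsPrimitiveRoot ζ n) (f : ℤ[X])
    (h : ∀ m : ℕ, m.Coprime n → aeval (ζ ^ m) f = aeval ζ f) : ∃ k : ℤ, aeval ζ f = (k : ℂ) := by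
  apply exists_int_of_forall_ringEquiv
  · have h1 : IsIntegral ℤ ζ := IsIntegral.of_pow (Nat.pos_of_ne_zero hn) (by
      rw [hζ.pow_eq_one]; exact isIntegral_one)
    exact IsIntegral.of_mem_of_fg _ h1.fg_adjoin_singleton _ (aeval_mem_adjoin_singleton ℤ ζ)
  · intro σ
    obtain ⟨m, hm, hσ⟩ := exists_pow_of_ringHom (σ : ℂ →+* ℂ) hn
    have h2 : σ (aeval ζ f) = aeval (σ ζ) f := by
      have := (aeval_algHom_apply (σ.toRingHom.toIntAlgHom) ζ f).symm
      exact this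
    have h3 : σ ζ = ζ ^ m := hσ ζ hζ.pow_eq_one
    rw [h2, h3, h m hm]

end Cfsg.Agent.Characters.Galois
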