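import Mathlib
import Cfsg.Prelude.Def_Characters
import Cfsg.Agent.Characters.Core
set_option linter.all false

/-!
# Clifford theory, the character-theoretic basics

For a normal subgroup `N` of a finite group `G`, conjugation by `g : G` acts on functions
`N → ℂ` by `ψ ↦ ψ ∘ MulAut.conjNormal g`.
-/

set_option autoImplicit false
open Cfsg

namespace Cfsg.Agent.Characters.Clifford

open Cfsg.Agent.Characters.Core
open scoped ComplexConjugate

variable {G : Type*} [Group G]

/-- `classInner` is invariant under group isomorphisms. -/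
theorem classInner_comp_mulEquiv {H : Type*} [Group H] [Fintype G] [Fintype H] (e : H ≃* G)
    (φ ψ : G → ℂ) : classInner (φ ∘ e) (ψ ∘ e) = classInner φ ψ := by
  unfold classInner
  rw [Nat.card_congr e.toEquiv]
  congr 1
  exact Fintype.sum_equiv e.toEquiv _ _ (fun x => rfl)

/-- restriction of a class function to a normal subgroup is invariant under conjugation. -/
theorem restrict_comp_conjNormal {N : Subgroup G} [N.Normal] {θ : G → ℂ}
    (hθ : IsClassFunction G θ) (g : G) :
    (fun n : N => θ n) ∘ (MulAut.conjNormal g : MulAut N) = fun n : N => θ n := by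
  funext n
  simp only [Function.comp, MulAut.conjNormal_apply]
  exact hθ n g

theorem isIrr_conjNormal {N : Subgroup G} [N.Normal] {ψ : N → ℂ} (hψ : IsIrrCharacter N ψ)
    (g : G) : IsIrrCharacter N (ψ ∘ (MulAut.conjNormal g : MulAut N)) :=
  isIrr_comp ((MulAut.conjNormal g : MulAut N) : N →* N) (MulAut.conjNormal g : MulAut N).surjective hψ

theorem isCharacter_restrict (H : Subgroup G) {χ : G → ℂ} (hχ : IsCharacter G χ) :
    IsCharacter H (fun h : H => χ h) :=
  isCharacter_comp H.subtype hχ

/-- Conjugate functions have the same inner product with the restriction of a class function. -/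
theorem classInner_restrict_conjNormal [Fintype G] {N : Subgroup G} [N.Normal] [Fintype N]
    {θ : G → ℂ} (hθ : IsClassFunction G θ) (ψ : N → ℂ) (g : G) :
    classInner (fun n : N => θ n) (ψ ∘ (MulAut.conjNormal g : MulAut N)) =
      classInner (fun n : N => θ n) ψ := by
  conv_lhs => rw [← restrict_comp_conjNormal (N := N) hθ g]
  exact classInner_comp_mulEquiv _ _ _

/-- **Clifford**: two irreducible constituents of the restriction to a normal subgroup of an
irreducible character are conjugate. -/
theorem exists_conj_of_constituents [Fintype G] (N : Subgroup G) [N.Normal] [Fintype N]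
    {θ : G → ℂ} (hθ : IsIrrCharacter G θ) {χ ψ : N → ℂ} (hχ : IsIrrCharacter N χ)
    (hψ : IsIrrCharacter N ψ) (h1 : classInner (fun n : N => θ n) χ ≠ 0)
    (h2 : classInner (fun n : N => θ n) ψ ≠ 0) :
    ∃ g : G, ψ = χ ∘ (MulAut.conjNormal g : MulAut N) := by
  classical
  by_contra hcon
  push Not at hcon
  have := finite_irr (G := G)
  have := Fintype.ofFinite (IrrCharacter G)
  -- the sum of the conjugates, extended by zero
  let S : G → ℂ := fun g => if h : g ∈ N then ∑ x : G, χ (MulAut.conjNormal x (⟨g, h⟩ : N)) else 0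
  have hSN : (fun n : N => S n) = ∑ x : G, χ ∘ (MulAut.conjNormal x : MulAut N) := by
    funext n
    simp [S, Finset.sum_apply]
  have hS : IsClassFunction G S := by
    intro g h
    by_cases hg : g ∈ N
    · have hg' : h * g * h⁻¹ ∈ N := ‹N.Normal›.conj_mem g hg h
      simp only [S, hg, hg', dif_pos]
      refine Fintype.sum_equiv (Equiv.mulRight h) _ _ (fun x => ?_)
      congr 1
      ext
      simp only [MulAut.conjNormal_apply, Equiv.coe_mulRight]
      group
    · have hg' : ¬ h * g * h⁻¹ ∈ N := fun hh => hg (by
        have := ‹N.Normal›.conj_mem _ hh h⁻¹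
        simpa [mul_assoc] using this)
      simp only [S, hg, hg', dif_neg, not_false_iff]
  have hSθ : ∀ θ' : G → ℂ, IsClassFunction G θ' →
      classInner S θ' = (Nat.card N : ℂ) * classInner χ (fun n : N => θ' n) := by
    intro θ' hθ'
    have e1 : ∑ g : G, S g * conj (θ' g) = ∑ n : N, S n * conj (θ' n) := by
      have := Finset.sum_subtype_eq_sum_filter (s := (Finset.univ : Finset G))
        (p := fun g => g ∈ N) (f := fun g => S g * conj (θ' g))
      rw [← Finset.sum_filter_add_sum_filter_not Finset.univ (fun g => g ∈ N)]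
      rw [Finset.sum_eq_zero (s := Finset.univ.filter (fun g => ¬ g ∈ N)), add_zero]
      · refine (Finset.sum_subtype _ (by simp) _)
      · intro g hg
        have : ¬ g ∈ N := by simpa using hg
        simp [S, this]
    have e2 : ∑ n : N, S n * conj (θ' n) =
        ∑ x : G, ∑ n : N, (χ ∘ (MulAut.conjNormal x : MulAut N)) n * conj (θ' n) := by
      rw [Finset.sum_comm]
      refine Finset.sum_congr rfl fun n _ => ?_
      have : S n = ∑ x : G, (χ ∘ (MulAut.conjNormal x : MulAut N)) n := by
        have := congrFun hSN n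
        simpa [Finset.sum_apply] using this
      rw [this, Finset.sum_mul]
    have e3 : ∀ x : G, ∑ n : N, (χ ∘ (MulAut.conjNormal x : MulAut N)) n * conj (θ' n) =
        (Nat.card N : ℂ) * classInner χ (fun n : N => θ' n) := by
      intro x
      have hcN : (Nat.card N : ℂ) ≠ 0 := by
        exact_mod_cast Nat.card_pos.ne'
      have h := classInner_comp_mulEquiv (MulAut.conjNormal x : MulAut N) χ (fun n : N => θ' n)
      rw [restrict_comp_conjNormal hθ' x] at h
      rw [← h]
      unfold classInner
      rw [← mul_assoc, mul_inv_cancel₀ hcN, one_mul]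
    have hcG : (Nat.card G : ℂ) ≠ 0 := by
      exact_mod_cast Nat.card_pos.ne'
    show (Nat.card G : ℂ)⁻¹ * ∑ g : G, S g * conj (θ' g) = _
    rw [e1, e2, Finset.sum_congr rfl (fun x _ => e3 x), Finset.sum_const, Finset.card_univ,
      nsmul_eq_mul, ← Nat.card_eq_fintype_card, ← mul_assoc, inv_mul_cancel₀ hcG, one_mul]
  -- expand `S`
  have hexp : (fun n : N => S n) = ∑ θ' : IrrCharacter G,
      ((Nat.card N : ℂ) * classInner χ (fun n : N => (θ' : G → ℂ) n)) •
        (fun n : N => (θ' : G → ℂ) n) := by
    funext n
    conv_lhs => rw [classFunction_eq_sum hS]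
    simp only [Finset.sum_apply, Pi.smul_apply, smul_eq_mul]
    refine Finset.sum_congr rfl fun θ' _ => ?_
    rw [hSθ _ (isIrr_isClassFunction θ'.2)]
  have hzero : classInner (fun n : N => S n) ψ = 0 := by
    rw [hSN, classInner_sum_left]
    refine Finset.sum_eq_zero fun x _ => ?_
    exact classInner_irr_ne (isIrr_conjNormal hχ x) hψ (fun h => hcon x h.symm)
  rw [hexp, classInner_sum_left] at hzero
  simp_rw [classInner_smul_left] at hzero
  choose a ha using fun θ' : IrrCharacter G =>
    classInner_isNat (isIrr_isCharacter hχ) (isCharacter_restrict N (isIrr_isCharacter θ'.2))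
  choose b hb using fun θ' : IrrCharacter G =>
    classInner_isNat (isCharacter_restrict N (isIrr_isCharacter θ'.2)) (isIrr_isCharacter hψ)
  simp_rw [ha, hb] at hzero
  have hz' : ∑ θ' : IrrCharacter G, Nat.card N * a θ' * b θ' = 0 := by exact_mod_cast hzero
  have hz'' := Finset.sum_eq_zero_iff.1 hz' ⟨θ, hθ⟩ (Finset.mem_univ _)
  have hNpos : Nat.card N ≠ 0 := Nat.card_pos.ne'
  rcases mul_eq_zero.1 hz'' with h | h
  · rcases mul_eq_zero.1 h with h | h
    · exact hNpos h
    · have h3 := ha ⟨θ, hθ⟩
      rw [h] at h3
      apply h1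
      rw [← classInner_conj_symm, h3]
      simp
  · have h3 := hb ⟨θ, hθ⟩
    rw [h] at h3
    apply h2
    rw [h3]
    simp

end Cfsg.Agent.Characters.Clifford
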