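import Mathlib
import Cfsg.Prelude.Def_Characters
import Cfsg.Agent.Characters.MonomialVec
import Cfsg.Agent.Characters.GaloisBasic
set_option linter.all false

/-!
# Artin's induction theorem

* `linSpan A`: the additive group of `ℤ`-combinations of linear characters of `A`.
* `artinGroup G`: the additive group of `ℤ`-combinations of functions induced from linear
  characters of cyclic subgroups of `G` (in the list form of S0177).
* `genFun_mem_linSpan`: for a character `χ` of a finite cyclic group `A` with generator `a`, the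
  function `x ↦ |A| χ(x)` on the generators `x` of `A` and `0` elsewhere is in `linSpan A`.
* `card_smul_mem_artinGroup`: `|G| • χ ∈ artinGroup G`.
-/

set_option autoImplicit false

open Cfsg Representation Module

namespace Cfsg.Agent.Characters.ArtinInduction

universe u v

/-- The additive group generated by the linear characters of `A`. -/
def linSpan (A : Type u) [Group A] : AddSubgroup (A → ℂ) :=
  AddSubgroup.closure (Set.range fun (f : A →* ℂˣ) (a : A) => (f a : ℂ))

theorem hom_mem_linSpan {A : Type u} [Group A] (f : A →* ℂˣ) :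
    (fun a => (f a : ℂ)) ∈ linSpan A :=
  AddSubgroup.subset_closure ⟨f, rfl⟩

/-- Extending `a ↦ z` to a homomorphism on a cyclic group. -/
theorem exists_hom_gen {A : Type u} [Group A] {a : A} (ha : ∀ x, x ∈ Subgroup.zpowers a)
    {z : ℂ} {n : ℕ} (hn : n ≠ 0) (han : orderOf a = n) (hz : z ^ n = 1) :
    ∃ f : A →* ℂˣ, ∀ k : ℕ, (f (a ^ k) : ℂ) = z ^ k := by
  have hz0 : z ≠ 0 := by
    rintro rfl
    rw [zero_pow hn] at hz
    exact zero_ne_one hz
  have hord : orderOf (Units.mk0 z hz0) ∣ orderOf a := by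
    rw [han]
    apply orderOf_dvd_of_pow_eq_one
    apply Units.ext
    simp [hz]
  refine ⟨monoidHomOfForallMemZpowers ha hord, fun k => ?_⟩
  rw [map_pow, monoidHomOfForallMemZpowers_apply_gen]
  simp

theorem sum_divisors_moebius (m : ℕ) :
    ∑ d ∈ m.divisors, ArithmeticFunction.moebius d = if m = 1 then 1 else 0 := by
  rw [← ArithmeticFunction.coe_mul_zeta_apply, ArithmeticFunction.moebius_mul_coe_zeta,
    ArithmeticFunction.one_apply]

theorem sum_root_pow {d : ℕ} {ζ : ℂ} (hζ : IsPrimitiveRoot ζ d) (k : ℕ) :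
    ∑ j ∈ Finset.range d, (ζ ^ j) ^ k = if d ∣ k then (d : ℂ) else 0 := by
  have h1 : ∀ j, (ζ ^ j) ^ k = (ζ ^ k) ^ j := fun j => by rw [← pow_mul, ← pow_mul, mul_comm]
  simp_rw [h1]
  split_ifs with h
  · rw [(hζ.pow_eq_one_iff_dvd k).mpr h]
    simp
  · have h2 : ζ ^ k ≠ 1 := fun h2 => h ((hζ.pow_eq_one_iff_dvd k).mp h2)
    rw [geom_sum_eq h2, ← pow_mul, mul_comm, pow_mul, hζ.pow_eq_one, one_pow, sub_self, zero_div]

/-- `|A|` times the restriction of a linear character to the set of generators, extended by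
zero. -/
theorem gen_hom_mem_linSpan {A : Type u} [Group A] {a : A} (ha : ∀ x, x ∈ Subgroup.zpowers a)
    {n : ℕ} (hn : n ≠ 0) (han : orderOf a = n) {z : ℂ} (hz : z ^ n = 1) (F : A → ℂ)
    (hF : ∀ k : ℕ, F (a ^ k) = if n.gcd k = 1 then (n : ℂ) * z ^ k else 0) :
    F ∈ linSpan A := by
  classical
  -- a family of roots of unity
  have hex : ∀ d : ℕ, ∃ ζ : ℂ, d ≠ 0 → IsPrimitiveRoot ζ d := by
    intro d
    by_cases hd : d = 0
    · exact ⟨1, fun h => absurd hd h⟩
    · exact ⟨_, fun _ => Complex.isPrimitiveRoot_exp d hd⟩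
  choose ζ hζ using hex
  have hpow : ∀ d : ℕ, d ∣ n → ∀ j : ℕ, (ζ d ^ j * z) ^ n = 1 := by
    intro d hd j
    obtain ⟨e, rfl⟩ := hd
    have hd0 : d ≠ 0 := fun h => hn (by rw [h, zero_mul])
    have h1 : (ζ d ^ j) ^ (d * e) = 1 := by
      rw [← pow_mul, mul_comm j, mul_assoc, pow_mul, (hζ d hd0).pow_eq_one, one_pow]
    rw [mul_pow, hz, h1, one_mul]
  have hfam : ∀ (d j : ℕ), ∃ f : A →* ℂˣ, d ∣ n → ∀ k : ℕ, (f (a ^ k) : ℂ) = (ζ d ^ j * z) ^ k := by
    intro d j
    by_cases hd : d ∣ n
    · obtain ⟨f, hf⟩ := exists_hom_gen ha hn han (hpow d hd j)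
      exact ⟨f, fun _ => hf⟩
    · exact ⟨1, fun h => absurd h hd⟩
  choose f hf using hfam
  have key : F = ∑ d ∈ n.divisors, (ArithmeticFunction.moebius d * ((n / d : ℕ) : ℤ)) •
      ∑ j ∈ Finset.range d, (fun x => (f d j x : ℂ)) := by
    funext x
    obtain ⟨k, rfl⟩ : ∃ k : ℕ, a ^ k = x := by
      have h1 : IsOfFinOrder a := by
        rw [← orderOf_pos_iff, han]
        exact Nat.pos_of_ne_zero hn
      exact (h1.mem_powers_iff_mem_zpowers.mpr (ha x))
    rw [hF]
    simp only [Finset.sum_apply, Pi.smul_apply]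
    have h2 : ∀ d ∈ n.divisors,
        (ArithmeticFunction.moebius d * ((n / d : ℕ) : ℤ)) • ∑ j ∈ Finset.range d,
          (f d j (a ^ k) : ℂ) =
        if d ∣ k then ((ArithmeticFunction.moebius d : ℤ) : ℂ) * ((n : ℂ) * z ^ k) else 0 := by
      intro d hd
      have hdn : d ∣ n := Nat.dvd_of_mem_divisors hd
      have hd0 : d ≠ 0 := fun h => hn (by rw [h] at hdn; exact Nat.eq_zero_of_zero_dvd hdn)
      have h3 : ∑ j ∈ Finset.range d, (f d j (a ^ k) : ℂ) =
          (if d ∣ k then (d : ℂ) else 0) * z ^ k := by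
        rw [← sum_root_pow (hζ d hd0) k, Finset.sum_mul]
        exact Finset.sum_congr rfl fun j _ => by rw [hf d j hdn, mul_pow]
      rw [h3]
      have h4 : ((n / d : ℕ) : ℂ) * (d : ℂ) = n := by
        rw [← Nat.cast_mul, Nat.div_mul_cancel hdn]
      split_ifs with h
      · rw [zsmul_eq_mul, Int.cast_mul, Int.cast_natCast, ← h4]
        ring
      · simp
    rw [Finset.sum_congr rfl h2, ← Finset.sum_filter, ← Finset.sum_mul, ← Int.cast_sum]
    have h5 : n.divisors.filter (fun d => d ∣ k) = (n.gcd k).divisors := by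
      ext d
      simp only [Finset.mem_filter, Nat.mem_divisors, Nat.dvd_gcd_iff]
      constructor
      · rintro ⟨⟨h1, _⟩, h2⟩
        exact ⟨⟨h1, h2⟩, Nat.gcd_ne_zero_left hn⟩
      · rintro ⟨⟨h1, h2⟩, _⟩
        exact ⟨⟨h1, hn⟩, h2⟩
    rw [h5, sum_divisors_moebius]
    split_ifs <;> simp
  rw [key]
  refine AddSubgroup.sum_mem _ fun d _ => AddSubgroup.zsmul_mem _ (AddSubgroup.sum_mem _ ?_) _
  exact fun j _ => hom_mem_linSpan _

/-- `|A|` times the restriction of a character to the set of generators of the cyclic group `A`,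
extended by zero, is a `ℤ`-combination of linear characters of `A`. -/
theorem genFun_mem_linSpan {A : Type u} [Group A] {a : A} (ha : ∀ x, x ∈ Subgroup.zpowers a)
    {n : ℕ} (hn : n ≠ 0) (han : orderOf a = n) {χ : A → ℂ} (hχ : IsCharacter A χ) (F : A → ℂ)
    (hF : ∀ k : ℕ, F (a ^ k) = if n.gcd k = 1 then (n : ℂ) * χ (a ^ k) else 0) :
    F ∈ linSpan A := by
  classical
  have hpow : a ^ n = 1 := by rw [← han]; exact pow_orderOf_eq_one a
  obtain ⟨d, μ, -, hμ, hsum⟩ := GaloisBasic.isCharacter_exists_fin_pow hχ a hn hpow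
  have hx : ∀ x : A, ∃ k : ℕ, a ^ k = x := by
    intro x
    have h1 : IsOfFinOrder a := by
      rw [← orderOf_pos_iff, han]
      exact Nat.pos_of_ne_zero hn
    exact (h1.mem_powers_iff_mem_zpowers.mpr (ha x))
  -- the function for each eigenvalue
  have hfam : ∀ i : Fin d, ∃ f : A →* ℂˣ, ∀ k : ℕ, (f (a ^ k) : ℂ) = μ i ^ k := fun i =>
    exists_hom_gen ha hn han (hμ i)
  choose f hf using hfam
  let E : Fin d → A → ℂ := fun i x => if Subgroup.zpowers x = ⊤ then (n : ℂ) * f i x else 0
  have hzp : ∀ k : ℕ, Subgroup.zpowers (a ^ k) = ⊤ ↔ n.gcd k = 1 := by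
    intro k
    have hfin : Finite A := by
      have : (Set.univ : Set A) = Set.range (fun j : Fin n => a ^ (j : ℕ)) := by
        ext x
        simp only [Set.mem_univ, Set.mem_range, true_iff]
        obtain ⟨k, rfl⟩ := hx x
        exact ⟨⟨k % n, Nat.mod_lt _ (Nat.pos_of_ne_zero hn)⟩, by
          simp only
          rw [← han, pow_mod_orderOf]⟩
      exact Set.finite_univ_iff.mp (this ▸ Set.finite_range _)
    have hcard : Nat.card A = n := by
      rw [← han, ← Nat.card_zpowers, (Subgroup.eq_top_iff' (Subgroup.zpowers a)).mpr ha]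
      exact (Nat.card_congr Subgroup.topEquiv.toEquiv).symm
    rw [← Subgroup.card_eq_iff_eq_top, Nat.card_zpowers, orderOf_pow, han, hcard]
    constructor
    · intro h
      have h1 : n.gcd k ∣ n := Nat.gcd_dvd_left _ _
      have h2 := Nat.div_mul_cancel h1
      rw [h] at h2
      exact Nat.eq_of_mul_eq_mul_left (Nat.pos_of_ne_zero hn) (by rw [h2, mul_one])
    · intro h
      rw [h, Nat.div_one]
  have hE : ∀ i, E i ∈ linSpan A := by
    intro i
    refine gen_hom_mem_linSpan ha hn han (hμ i) (E i) fun k => ?_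
    simp only [E, hzp, hf]
  have hFE : F = ∑ i, E i := by
    funext x
    obtain ⟨k, rfl⟩ := hx x
    rw [hF, Finset.sum_apply]
    simp only [E, hzp, hf]
    split_ifs
    · rw [hsum, Finset.mul_sum]
    · simp
  rw [hFE]
  exact AddSubgroup.sum_mem _ fun i _ => hE i

section indFun

variable {G : Type u} [Group G] [Fintype G]

omit [Fintype G] in
theorem extendByZero_add (H : Subgroup G) (θ ψ : H → ℂ) (g : G) :
    extendByZero H (θ + ψ) g = extendByZero H θ g + extendByZero H ψ g := by
  by_cases hg : g ∈ H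
  · rw [MonomialVec.extendByZero_mem H _ hg, MonomialVec.extendByZero_mem H _ hg,
      MonomialVec.extendByZero_mem H _ hg]
    rfl
  · rw [MonomialVec.extendByZero_notMem H _ hg, MonomialVec.extendByZero_notMem H _ hg,
      MonomialVec.extendByZero_notMem H _ hg, add_zero]

omit [Fintype G] in
theorem extendByZero_smul (H : Subgroup G) (c : ℂ) (θ : H → ℂ) (g : G) :
    extendByZero H (c • θ) g = c * extendByZero H θ g := by
  by_cases hg : g ∈ H
  · rw [MonomialVec.extendByZero_mem H _ hg, MonomialVec.extendByZero_mem H _ hg]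
    rfl
  · rw [MonomialVec.extendByZero_notMem H _ hg, MonomialVec.extendByZero_notMem H _ hg, mul_zero]

theorem indFun_add (H : Subgroup G) (θ ψ : H → ℂ) :
    indFun H (θ + ψ) = indFun H θ + indFun H ψ := by
  funext g
  simp only [indFun, Pi.add_apply, extendByZero_add, Finset.sum_add_distrib, mul_add]

theorem indFun_smul (H : Subgroup G) (c : ℂ) (θ : H → ℂ) :
    indFun H (c • θ) = c • indFun H θ := by
  funext g
  simp only [indFun, Pi.smul_apply, extendByZero_smul, ← Finset.mul_sum, smul_eq_mul]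
  ring

theorem indFun_neg (H : Subgroup G) (θ : H → ℂ) : indFun H (-θ) = -indFun H θ := by
  rw [← neg_one_smul ℂ θ, indFun_smul, neg_one_smul]

theorem indFun_zero (H : Subgroup G) : indFun H (0 : H → ℂ) = 0 := by
  rw [← zero_smul ℂ (0 : H → ℂ), indFun_smul, zero_smul]

/-- The additive group of `ℤ`-combinations of functions induced from linear characters of cyclic
subgroups, in the list form of S0177. -/
def artinGroup (G : Type u) [Group G] [Fintype G] : AddSubgroup (G → ℂ) where
  carrier := {f | ∃ l : List ((A : Subgroup G) × ((A →* ℂˣ) × ℤ)), (∀ t ∈ l, IsCyclic t.1) ∧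
    f = (l.map fun t => (t.2.2 : ℂ) • Cfsg.indFun t.1 (fun a => (t.2.1 a : ℂ))).sum}
  zero_mem' := ⟨[], by simp, by simp⟩
  add_mem' := by
    rintro f g ⟨l, hl, rfl⟩ ⟨m, hm, rfl⟩
    refine ⟨l ++ m, ?_, ?_⟩
    · intro t ht
      rcases List.mem_append.mp ht with h | h
      · exact hl t h
      · exact hm t h
    · rw [List.map_append, List.sum_append]
  neg_mem' := by
    rintro f ⟨l, hl, rfl⟩
    refine ⟨l.map fun t => ⟨t.1, t.2.1, -t.2.2⟩, ?_, ?_⟩
    · intro t ht
      obtain ⟨s, hs, rfl⟩ := List.mem_map.mp ht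
      exact hl s hs
    · rw [List.map_map]
      clear hl
      induction l with
      | nil => simp
      | cons t l ih =>
        rw [List.map_cons, List.map_cons, List.sum_cons, List.sum_cons, neg_add, ih]
        simp

theorem mem_artinGroup {f : G → ℂ} : f ∈ artinGroup G ↔
    ∃ l : List ((A : Subgroup G) × ((A →* ℂˣ) × ℤ)), (∀ t ∈ l, IsCyclic t.1) ∧
      f = (l.map fun t => (t.2.2 : ℂ) • Cfsg.indFun t.1 (fun a => (t.2.1 a : ℂ))).sum :=
  Iff.rfl

theorem indFun_mem_artinGroup (A : Subgroup G) (hA : IsCyclic A) {θ : A → ℂ}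
    (hθ : θ ∈ linSpan A) : indFun A θ ∈ artinGroup G := by
  refine AddSubgroup.closure_induction (p := fun θ _ => indFun A θ ∈ artinGroup G) ?_ ?_ ?_ ?_ hθ
  · rintro _ ⟨f, rfl⟩
    rw [mem_artinGroup]
    refine ⟨[⟨A, f, 1⟩], ?_, by simp⟩
    intro t ht
    rw [List.mem_singleton] at ht
    subst ht
    exact hA
  · rw [indFun_zero]
    exact zero_mem _
  · intro x y _ _ hx hy
    rw [indFun_add]
    exact add_mem hx hy
  · intro x _ hx
    rw [indFun_neg]
    exact neg_mem hx

/-- Artin's induction theorem. -/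
theorem card_smul_mem_artinGroup {χ : G → ℂ} (hχ : IsCharacter G χ) :
    (Nat.card G : ℂ) • χ ∈ artinGroup G := by
  classical
  have : Fintype (Subgroup G) := Fintype.ofFinite _
  let θ : ∀ A : Subgroup G, A → ℂ := fun A a =>
    if Subgroup.zpowers (a : G) = A then (Nat.card A : ℂ) * χ a else 0
  have hθ : ∀ A : Subgroup G, IsCyclic A → θ A ∈ linSpan A := by
    intro A hA
    obtain ⟨a, ha⟩ := hA.exists_generator
    have hres : IsCharacter A (fun x : A => χ x) := by
      obtain ⟨m, ρ, rfl⟩ := hχ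
      exact ⟨m, ρ.comp A.subtype, rfl⟩
    have hn : orderOf a = Nat.card A := orderOf_eq_card_of_forall_mem_zpowers ha
    have hn0 : Nat.card A ≠ 0 := Nat.card_pos.ne'
    refine genFun_mem_linSpan ha hn0 hn hres (θ A) fun k => ?_
    have h1 : Subgroup.zpowers ((a ^ k : A) : G) = A ↔ (Nat.card A).gcd k = 1 := by
      have h2 : Nat.card (Subgroup.zpowers ((a ^ k : A) : G)) =
          Nat.card A / (Nat.card A).gcd k := by
        rw [Nat.card_zpowers, Subgroup.orderOf_coe, orderOf_pow, hn]
      have h3 : Subgroup.zpowers ((a ^ k : A) : G) ≤ A := by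
        rw [Subgroup.zpowers_le]
        exact (a ^ k).2
      constructor
      · intro h
        rw [h] at h2
        have h4 := Nat.div_mul_cancel (Nat.gcd_dvd_left (Nat.card A) k)
        rw [← h2] at h4
        exact Nat.eq_of_mul_eq_mul_left (Nat.pos_of_ne_zero hn0) (by rw [h4, mul_one])
      · intro h
        rw [h, Nat.div_one] at h2
        exact Subgroup.eq_of_le_of_card_ge h3 h2.ge
    simp only [θ, h1]
  have hsum : (Nat.card G : ℂ) • χ =
      ∑ A ∈ (Finset.univ : Finset (Subgroup G)).filter (fun A : Subgroup G => IsCyclic A), indFun A (θ A) := by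
    funext g
    rw [Finset.sum_apply, Pi.smul_apply, smul_eq_mul]
    have h1 : ∀ A : Subgroup G, indFun A (θ A) g =
        ∑ x : G, if Subgroup.zpowers (x⁻¹ * g * x) = A then χ g else 0 := by
      intro A
      have hc : (Nat.card A : ℂ) ≠ 0 := Nat.cast_ne_zero.mpr Nat.card_pos.ne'
      have h2 : ∀ x : G, extendByZero A (θ A) (x⁻¹ * g * x) =
          (Nat.card A : ℂ) * (if Subgroup.zpowers (x⁻¹ * g * x) = A then χ g else 0) := by
        intro x
        have hχg : χ (x⁻¹ * g * x) = χ g := by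
          obtain ⟨m, ρ, rfl⟩ := hχ
          have := ρ.char_conj g x⁻¹
          rwa [inv_inv] at this
        by_cases hx : x⁻¹ * g * x ∈ A
        · rw [MonomialVec.extendByZero_mem A _ hx]
          simp only [θ, hχg, mul_ite, mul_zero]
        · rw [MonomialVec.extendByZero_notMem A _ hx, if_neg, mul_zero]
          intro h
          apply hx
          rw [← h]
          exact Subgroup.mem_zpowers _
      unfold indFun
      simp_rw [h2]
      rw [← Finset.mul_sum, inv_mul_cancel_left₀ hc]
    simp_rw [h1]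
    rw [Finset.sum_comm]
    have h3 : ∀ x : G, ∑ A ∈ (Finset.univ : Finset (Subgroup G)).filter (fun A : Subgroup G => IsCyclic A),
        (if Subgroup.zpowers (x⁻¹ * g * x) = A then χ g else 0) = χ g := by
      intro x
      rw [Finset.sum_ite_eq, if_pos]
      rw [Finset.mem_filter]
      exact ⟨Finset.mem_univ _, inferInstance⟩
    rw [Finset.sum_congr rfl fun x _ => h3 x, Finset.sum_const, Finset.card_univ, nsmul_eq_mul,
      Nat.card_eq_fintype_card]
  rw [hsum]
  refine AddSubgroup.sum_mem _ fun A hA => ?_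
  rw [Finset.mem_filter] at hA
  exact indFun_mem_artinGroup A hA.2 (hθ A hA.2)

end indFun

end Cfsg.Agent.Characters.ArtinInduction
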