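import Mathlib
import Cfsg.Agent.Characters.Central
import Cfsg.Agent.Characters.AverageRoots
set_option linter.all false

/-!
# Bounds and divisibility for the degree of an irreducible complex representation

* `exists_common_eigenvector` : a commuting family of operators `ρ a` (`a` in an abelian subgroup)
  on a nonzero finite-dimensional complex space has a common eigenvector.
* `finrank_le_index_of_comm` : degree at most the index of an abelian subgroup.
* `finrank_dvd_index_of_scalar` : the degree divides `|G : Z|` for every subgroup `Z` of the centre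
  (more generally every `Z` acting by scalars).
* `finrank_dvd_card` : the degree divides `|G|`.
-/

set_option autoImplicit false

namespace Cfsg.Agent.Characters.DegreeBounds

open Module Representation

/-- Operators on a nonzero finite-dimensional complex space commuting with each other have
a common eigenvector. -/
theorem exists_common_eigenvector {ι : Type*} {V : Type*} [AddCommGroup V] [Module ℂ V]
    [FiniteDimensional ℂ V] (f : ι → Module.End ℂ V)
    (hf : ∀ i j, f i * f j = f j * f i) (W : Submodule ℂ V) (hW : W ≠ ⊥)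
    (hWf : ∀ i, ∀ w ∈ W, f i w ∈ W) :
    ∃ v ∈ W, v ≠ 0 ∧ ∀ i, ∃ c : ℂ, f i v = c • v := by
  induction hn : finrank ℂ W using Nat.strong_induction_on generalizing W with
  | _ n ih =>
    by_cases h : ∀ i, ∃ c : ℂ, ∀ w ∈ W, f i w = c • w
    · obtain ⟨v, hv, hv0⟩ := (Submodule.ne_bot_iff W).1 hW
      exact ⟨v, hv, hv0, fun i => (h i).imp fun c hc => hc v hv⟩
    · push Not at h
      obtain ⟨i, hi⟩ := h
      have : Nontrivial W := (Submodule.nontrivial_iff_ne_bot).2 hW
      obtain ⟨c, hc⟩ := Module.End.exists_eigenvalue ((f i).restrict (hWf i))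
      obtain ⟨w, hw⟩ := hc.exists_hasEigenvector
      have hw1 : f i (w : V) = c • (w : V) := by
        have := hw.apply_eq_smul
        exact congrArg Subtype.val this
      have hw0 : (w : V) ≠ 0 := fun h0 => hw.2 (Subtype.ext h0)
      obtain ⟨x, hx, hx1⟩ := hi c
      let U : Submodule ℂ V := W ⊓ LinearMap.ker (f i - c • 1)
      have hmem : ∀ y, y ∈ U ↔ y ∈ W ∧ f i y = c • y := by
        intro y
        simp only [U, Submodule.mem_inf, LinearMap.mem_ker, LinearMap.sub_apply,
          LinearMap.smul_apply, Module.End.one_apply, sub_eq_zero]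
      have hUW : U < W := by
        refine lt_of_le_of_ne inf_le_left fun h => hx1 ?_
        exact ((hmem x).1 (h ▸ hx)).2
      have hU0 : U ≠ ⊥ := by
        intro h
        apply hw0
        have : (w : V) ∈ U := (hmem _).2 ⟨w.2, hw1⟩
        rw [h] at this
        exact (Submodule.mem_bot ℂ).1 this
      obtain ⟨v, hv, hv0, hvf⟩ := ih (finrank ℂ U) (hn ▸ Submodule.finrank_lt_finrank_of_lt hUW) U hU0
        (by
          intro j y hy
          obtain ⟨hy1, hy2⟩ := (hmem y).1 hy
          refine (hmem _).2 ⟨hWf j y hy1, ?_⟩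
          have := congrArg (fun g : Module.End ℂ V => g y) (hf i j)
          simp only [Module.End.mul_apply] at this
          rw [this, hy2, map_smul]) rfl
      exact ⟨v, ((hmem v).1 hv).1, hv0, hvf⟩

/-- A nonzero stable subspace is everything, for an irreducible representation. -/
theorem eq_top_of_stable {G V : Type*} [Group G] [AddCommGroup V] [Module ℂ V]
    (ρ : Representation ℂ G V) [ρ.IsIrreducible] (U : Submodule ℂ V)
    (hU : ∀ g, ∀ u ∈ U, ρ g u ∈ U) (hU0 : U ≠ ⊥) : U = ⊤ := by
  let S : Subrepresentation ρ := ⟨U, fun g u hu => hU g u hu⟩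
  rcases eq_bot_or_eq_top S with h | h
  · exact absurd (congrArg Subrepresentation.toSubmodule h) hU0
  · exact congrArg Subrepresentation.toSubmodule h

theorem finrank_le_index_of_comm {G : Type*} [Group G] [Finite G] {V : Type*} [AddCommGroup V]
    [Module ℂ V] [FiniteDimensional ℂ V] (ρ : Representation ℂ G V) [ρ.IsIrreducible]
    (A : Subgroup G) (hA : ∀ a ∈ A, ∀ b ∈ A, a * b = b * a) : Module.finrank ℂ V ≤ A.index := by
  classical
  have hpos : 0 < finrank ℂ V := Central.finrank_pos_of_irr ρ inferInstance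
  have : Nontrivial V := Module.nontrivial_of_finrank_pos hpos
  obtain ⟨v, -, hv0, hv⟩ := exists_common_eigenvector (fun a : A => ρ a)
    (fun a b => by rw [← map_mul, ← map_mul, hA a a.2 b b.2]) (⊤ : Submodule ℂ V)
    top_ne_bot (fun _ _ _ => Submodule.mem_top)
  have : Fintype (G ⧸ A) := Fintype.ofFinite _
  let b : G ⧸ A → V := fun q => ρ q.out v
  have hU : Submodule.span ℂ (Set.range b) = ⊤ := by
    apply eq_top_of_stable ρ
    · intro g u hu
      induction hu using Submodule.span_induction with
      | mem x hx =>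
        obtain ⟨q, rfl⟩ := hx
        -- g * q.out = (g • q).out * a
        have hq : ((g * q.out : G) : G ⧸ A) = g • q := by
          conv_rhs => rw [← q.out_eq]
          rfl
        have hmem : ((g • q).out)⁻¹ * (g * q.out) ∈ A := by
          rw [← QuotientGroup.eq, hq]
          exact (g • q).out_eq
        obtain ⟨c, hc⟩ := hv ⟨_, hmem⟩
        have : ρ g (b q) = c • b (g • q) := by
          simp only [b]
          rw [← map_smul, ← hc, ← Module.End.mul_apply, ← Module.End.mul_apply, ← map_mul,
            ← map_mul, mul_inv_cancel_left]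
        rw [this]
        exact Submodule.smul_mem _ _ (Submodule.subset_span ⟨_, rfl⟩)
      | zero => rw [map_zero]; exact Submodule.zero_mem _
      | add x y _ _ hx hy => rw [map_add]; exact Submodule.add_mem _ hx hy
      | smul a x _ hx => rw [map_smul]; exact Submodule.smul_mem _ _ hx
    · intro h
      have h1 : b (1 : G) ∈ Submodule.span ℂ (Set.range b) := Submodule.subset_span ⟨_, rfl⟩
      rw [h, Submodule.mem_bot] at h1
      apply hv0
      have := congrArg (ρ (((1 : G) : G ⧸ A).out)⁻¹) h1
      simpa [b] using this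
  rw [← finrank_top ℂ V, ← hU]
  refine (finrank_range_le_card b).trans ?_
  rw [Subgroup.index, Nat.card_eq_fintype_card]

/-- If a complex scalar `x` acts on the identity as a combination of the operators `ρ g` with
algebraic integer coefficients, then `x` is an algebraic integer. -/
theorem isIntegral_of_smul_one_eq_sum {G : Type*} [Group G] [Finite G] {V : Type*}
    [AddCommGroup V] [Module ℂ V] [Nontrivial V] (ρ : Representation ℂ G V) (x : ℂ)
    {ι : Type*} (s : Finset ι) (a : ι → ℂ) (ha : ∀ i ∈ s, IsIntegral ℤ (a i)) (g : ι → G)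
    (hx : x • (1 : Module.End ℂ V) = ∑ i ∈ s, a i • ρ (g i)) : IsIntegral ℤ x := by
  classical
  let R : Subalgebra ℤ ℂ := integralClosure ℤ ℂ
  let N : Submodule R (Module.End ℂ V) := Submodule.span R (Set.range fun h : G => ρ h)
  have hN : N ≠ ⊥ := by
    intro h
    have h1 : ρ (1 : G) ∈ N := Submodule.subset_span ⟨1, rfl⟩
    rw [h, Submodule.mem_bot, map_one] at h1
    exact one_ne_zero h1
  have hfg : N.FG := Submodule.fg_span (Set.finite_range _)
  have key : IsIntegral R x := by
    refine isIntegral_of_smul_mem_submodule N hN hfg x ?_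
    intro n hn
    induction hn using Submodule.span_induction with
    | mem y hy =>
      obtain ⟨h, rfl⟩ := hy
      have e : x • (ρ h : Module.End ℂ V) = ∑ i ∈ s, a i • ρ (g i * h) := by
        have := congrArg (fun f => f * ρ h) hx
        simp only [smul_mul_assoc, one_mul, Finset.sum_mul, ← map_mul] at this
        exact this
      change x • (ρ h : Module.End ℂ V) ∈ N
      rw [e]
      refine Submodule.sum_mem _ fun i hi => ?_
      exact N.smul_mem (⟨a i, ha i hi⟩ : R) (Submodule.subset_span ⟨g i * h, rfl⟩)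
    | zero => rw [smul_zero]; exact N.zero_mem
    | add y z _ _ hy hz => rw [smul_add]; exact N.add_mem hy hz
    | smul c y _ hy => rw [smul_comm]; exact N.smul_mem c hy
  exact isIntegral_trans (R := ℤ) (A := R) x key

/-- A quotient of naturals which is an algebraic integer is an integer. -/
theorem nat_dvd_of_isIntegral_div {m n : ℕ} (hn : n ≠ 0) (h : IsIntegral ℤ ((m : ℂ) / (n : ℂ))) :
    n ∣ m := by
  have h1 : IsIntegral ℤ ((m : ℚ) / (n : ℚ)) := by
    have e : ((m : ℂ) / (n : ℂ)) = algebraMap ℚ ℂ ((m : ℚ) / (n : ℚ)) := by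
      simp
    rw [e] at h
    exact (isIntegral_algebraMap_iff (algebraMap ℚ ℂ).injective).1 h
  obtain ⟨z, hz⟩ := IsIntegrallyClosed.isIntegral_iff.1 h1
  have hn' : (n : ℚ) ≠ 0 := by exact_mod_cast hn
  have e2 : (z : ℚ) * n = m := by
    have : (z : ℚ) = (m : ℚ) / n := by simpa using hz
    rw [this, div_mul_cancel₀ _ hn']
  have e3 : z * n = m := by exact_mod_cast e2
  have : (n : ℤ) ∣ (m : ℤ) := ⟨z, by rw [← e3, mul_comm]⟩
  exact_mod_cast this

/-- Every group element is uniquely `q.out * z` with `q` a coset and `z` in the subgroup. -/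
theorem bijective_out_mul {G : Type*} [Group G] (Z : Subgroup G) :
    Function.Bijective (fun p : (G ⧸ Z) × Z => p.1.out * (p.2 : G)) := by
  have hq : ∀ (q : G ⧸ Z) (z : Z), ((q.out * (z : G) : G) : G ⧸ Z) = q := by
    intro q z
    rw [QuotientGroup.mk_mul_of_mem _ z.2]
    exact q.out_eq
  constructor
  · rintro ⟨q, z⟩ ⟨q', z'⟩ h
    simp only at h
    have h1 : q = q' := by rw [← hq q z, h, hq]
    subst h1
    have h2 : z = z' := Subtype.ext (mul_left_cancel h)
    rw [h2]
  · intro g
    have hmem : ((g : G ⧸ Z).out)⁻¹ * g ∈ Z := by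
      rw [← QuotientGroup.eq]
      exact (g : G ⧸ Z).out_eq
    exact ⟨(g, ⟨_, hmem⟩), mul_inv_cancel_left _ _⟩

/-- If `Z` acts by scalars then the degree divides the index of `Z`. -/
theorem finrank_dvd_index_of_scalar {G : Type*} [Group G] [Finite G] {V : Type*} [AddCommGroup V]
    [Module ℂ V] [FiniteDimensional ℂ V] (ρ : Representation ℂ G V) [ρ.IsIrreducible]
    (Z : Subgroup G) (hZ : ∀ z ∈ Z, ∃ c : ℂ, ρ z = c • (1 : Module.End ℂ V)) :
    Module.finrank ℂ V ∣ Z.index := by
  classical
  have : Fintype G := Fintype.ofFinite _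
  have : Fintype (G ⧸ Z) := Fintype.ofFinite _
  have : Fintype Z := Fintype.ofFinite _
  have hpos : 0 < finrank ℂ V := Central.finrank_pos_of_irr ρ inferInstance
  have : Nontrivial V := Module.nontrivial_of_finrank_pos hpos
  -- the function `χ (g⁻¹) • ρ g` is constant on cosets of `Z`
  have hconst : ∀ g : G, ∀ z ∈ Z, ρ.character (g * z)⁻¹ • ρ (g * z) = ρ.character g⁻¹ • ρ g := by
    intro g z hz
    obtain ⟨c, hc⟩ := hZ z hz
    obtain ⟨d, hd⟩ := hZ z⁻¹ (Z.inv_mem hz)
    have hcd : d * c = 1 := by
      have h1 : (ρ (z⁻¹ * z) : Module.End ℂ V) = 1 := by rw [inv_mul_cancel, map_one]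
      rw [map_mul, hc, hd, smul_mul_smul_comm, mul_one] at h1
      have h2 : (d * c - 1) • (1 : Module.End ℂ V) = 0 := by
        rw [sub_smul, h1, one_smul, sub_self]
      rcases smul_eq_zero.1 h2 with h | h
      · exact sub_eq_zero.1 h
      · exact absurd h one_ne_zero
    have e1 : ρ.character (g * z)⁻¹ = d * ρ.character g⁻¹ := by
      rw [mul_inv_rev]
      change LinearMap.trace ℂ V (ρ (z⁻¹ * g⁻¹)) = d * LinearMap.trace ℂ V (ρ g⁻¹)
      rw [map_mul, hd, smul_mul_assoc, one_mul, map_smul, smul_eq_mul]
    rw [e1, map_mul, hc, mul_smul_comm, mul_one, smul_smul]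
    congr 1
    rw [mul_right_comm, hcd, one_mul]
  have hsum : ∑ g : G, ρ.character g⁻¹ • ρ g =
      (Nat.card Z : ℂ) • ∑ q : G ⧸ Z, ρ.character (q.out)⁻¹ • ρ q.out := by
    have e : ∑ g : G, ρ.character g⁻¹ • ρ g =
        ∑ p : (G ⧸ Z) × Z, ρ.character (p.1.out * p.2)⁻¹ • ρ (p.1.out * p.2) := by
      symm
      exact Fintype.sum_bijective (fun p : (G ⧸ Z) × Z => p.1.out * (p.2 : G))
        (bijective_out_mul Z) _ _ fun p => rfl
    rw [e, Fintype.sum_prod_type, Finset.smul_sum]
    refine Finset.sum_congr rfl fun q _ => ?_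
    rw [Finset.sum_congr rfl fun (z : Z) _ => hconst q.out z z.2, Finset.sum_const,
      Finset.card_univ, Fintype.card_eq_nat_card, Nat.cast_smul_eq_nsmul]
  have hscalar : ∑ g : G, ρ.character g⁻¹ • ρ g =
      ((Nat.card G : ℂ) / (finrank ℂ V : ℂ)) • (1 : Module.End ℂ V) := by
    rw [Central.sum_classFun_smul ρ inferInstance (Central.isClassFunction_char_inv ρ)]
    congr 2
    · rw [← Central.sum_char_mul_char_inv ρ inferInstance]
      exact Finset.sum_congr rfl fun x _ => mul_comm _ _
    · exact char_one ρ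
  have hZ0 : (Nat.card Z : ℂ) ≠ 0 := by exact_mod_cast Nat.card_pos.ne'
  have hcard : (Nat.card G : ℂ) = (Nat.card Z : ℂ) * (Z.index : ℂ) := by
    exact_mod_cast (Subgroup.card_mul_index Z).symm
  have hfin : ((Z.index : ℂ) / (finrank ℂ V : ℂ)) • (1 : Module.End ℂ V) =
      ∑ q : G ⧸ Z, ρ.character (q.out)⁻¹ • ρ q.out := by
    have h1 := hscalar.symm.trans hsum
    rw [hcard, mul_div_assoc, mul_smul] at h1
    exact smul_right_injective _ hZ0 h1
  refine nat_dvd_of_isIntegral_div hpos.ne' ?_
  exact isIntegral_of_smul_one_eq_sum ρ _ Finset.univ _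
    (fun q _ => AverageRoots.isIntegral_character ρ _) _ hfin

/-- The degree divides the index of the centre. -/
theorem finrank_dvd_index_center {G : Type*} [Group G] [Finite G] {V : Type*} [AddCommGroup V]
    [Module ℂ V] [FiniteDimensional ℂ V] (ρ : Representation ℂ G V) [ρ.IsIrreducible] :
    Module.finrank ℂ V ∣ (Subgroup.center G).index := by
  refine finrank_dvd_index_of_scalar ρ _ fun z hz => ?_
  refine Central.exists_smul_of_comm ρ inferInstance (ρ z) fun g => ?_
  rw [← map_mul, ← map_mul, Subgroup.mem_center_iff.1 hz g]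

/-- The degree divides the order of the group. -/
theorem finrank_dvd_card {G : Type*} [Group G] [Finite G] {V : Type*} [AddCommGroup V]
    [Module ℂ V] [FiniteDimensional ℂ V] (ρ : Representation ℂ G V) [ρ.IsIrreducible] :
    Module.finrank ℂ V ∣ Nat.card G :=
  (finrank_dvd_index_center ρ).trans (Subgroup.index_dvd_card _)

end Cfsg.Agent.Characters.DegreeBounds
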