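import Mathlib.GroupTheory.Nilpotent
import Mathlib.GroupTheory.PGroup
import Mathlib.GroupTheory.SpecificGroups.Cyclic
import Cfsg.Prelude.Def_Characters
set_option linter.all false

/-!
# Elementary groups: subgroups, isomorphic copies, nilpotency
-/

set_option autoImplicit false
open Cfsg

namespace Cfsg.Agent.Characters.Elementary

universe u v

/-- `IsElementary` is invariant under isomorphism. -/
theorem isElementary_of_mulEquiv {p : ℕ} {E : Type u} {E' : Type v} [Group E] [Group E']
    (e : E ≃* E') (h : IsElementary p E) : IsElementary p E' := by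
  obtain ⟨x, hx, hcop, k, hk⟩ := h
  refine ⟨e x, ?_, ?_, k, ?_⟩
  · rw [Subgroup.mem_center_iff] at hx ⊢
    intro g
    have h1 := congrArg e (hx (e.symm g))
    simpa using h1
  · rwa [show orderOf (e x) = orderOf x from MulEquiv.orderOf_eq e x]
  · rw [← hk]
    have h1 : Subgroup.zpowers (e x) = (Subgroup.zpowers x).map e.toMonoidHom := by
      rw [MonoidHom.map_zpowers]
      rfl
    rw [h1]
    exact Subgroup.index_map_of_bijective (f := e.toMonoidHom) e.bijective _

theorem normal_of_le_center' {E : Type u} [Group E] {Z : Subgroup E}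
    (h : Z ≤ Subgroup.center E) : Z.Normal := by
  refine ⟨fun z hz g => ?_⟩
  have h1 : g * z = z * g := (Subgroup.mem_center_iff.1 (h hz)) g
  rw [h1, mul_inv_cancel_right]
  exact hz

/-- A finite elementary group is nilpotent. -/
theorem isNilpotent_of_isElementary {p : ℕ} (hp : p.Prime) {E : Type u} [Group E] [Finite E]
    (h : IsElementary p E) : Group.IsNilpotent E := by
  obtain ⟨x, hx, -, k, hk⟩ := h
  have : Fact p.Prime := ⟨hp⟩
  have hle : Subgroup.zpowers x ≤ Subgroup.center E := by
    rw [Subgroup.zpowers_le]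
    exact hx
  have : (Subgroup.zpowers x).Normal := normal_of_le_center' hle
  have hq : IsPGroup p (E ⧸ Subgroup.zpowers x) := by
    refine IsPGroup.of_card (n := k) ?_
    rw [← hk]
    rfl
  have : Group.IsNilpotent (E ⧸ Subgroup.zpowers x) := hq.isNilpotent
  refine Subgroup.isNilpotent_of_ker_le_center (QuotientGroup.mk' (Subgroup.zpowers x)) ?_
  rwa [QuotientGroup.ker_mk']

/-- A subgroup of an elementary group is elementary. -/
theorem isElementary_subgroup {p : ℕ} (hp : p.Prime) {E : Type u} [Group E]
    (h : IsElementary p E) (H : Subgroup E) : IsElementary p H := by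
  obtain ⟨x, hx, hcop, k, hk⟩ := h
  have hle : Subgroup.zpowers x ≤ Subgroup.center E := by
    rw [Subgroup.zpowers_le]
    exact hx
  have hn : (Subgroup.zpowers x).Normal := normal_of_le_center' hle
  have hcyc : IsCyclic (Subgroup.zpowers x) := inferInstance
  -- the intersection is cyclic
  have hcyc2 : IsCyclic ((Subgroup.zpowers x).subgroupOf H) := by
    let f : (Subgroup.zpowers x).subgroupOf H →* Subgroup.zpowers x :=
      { toFun := fun z => ⟨((z : H) : E), z.2⟩
        map_one' := rfl
        map_mul' := fun _ _ => rfl }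
    refine isCyclic_of_injective f ?_
    intro a b hab
    have h1 : ((a : H) : E) = ((b : H) : E) := by
      have h2 : (f a : E) = (f b : E) := by rw [hab]
      exact h2
    exact Subtype.ext (Subtype.ext h1)
  obtain ⟨⟨y, hy⟩, hgen⟩ := hcyc2.exists_generator
  have hzp : Subgroup.zpowers y = (Subgroup.zpowers x).subgroupOf H := by
    apply le_antisymm
    · rw [Subgroup.zpowers_le]
      exact hy
    · intro z hz
      obtain ⟨n, hn⟩ := Subgroup.mem_zpowers_iff.1 (hgen ⟨z, hz⟩)
      exact Subgroup.mem_zpowers_iff.2 ⟨n, congrArg Subtype.val hn⟩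
  refine ⟨y, ?_, ?_, ?_⟩
  · rw [Subgroup.mem_center_iff]
    intro g
    apply Subtype.ext
    have h1 : (y : E) ∈ Subgroup.center E := hle hy
    exact (Subgroup.mem_center_iff.1 h1) (g : E)
  · have h1 : orderOf y ∣ orderOf x := by
      rw [← Subgroup.orderOf_coe]
      exact orderOf_dvd_of_mem_zpowers (show (y : E) ∈ Subgroup.zpowers x from hy)
    exact Nat.Coprime.coprime_dvd_left h1 hcop
  · have h1 : (Subgroup.zpowers x).relIndex H ∣ p ^ k := by
      rw [← hk]
      exact Subgroup.relIndex_dvd_index_of_normal _ _
    obtain ⟨j, -, hj⟩ := (Nat.dvd_prime_pow hp).1 h1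
    refine ⟨j, ?_⟩
    rw [hzp]
    exact hj

/-- A subgroup contained in an elementary subgroup is elementary. -/
theorem isElementary_of_le {p : ℕ} (hp : p.Prime) {G : Type u} [Group G] {H K : Subgroup G}
    (hHK : H ≤ K) (h : IsElementary p K) : IsElementary p H :=
  isElementary_of_mulEquiv (Subgroup.subgroupOfEquivOfLe hHK)
    (isElementary_subgroup hp h (H.subgroupOf K))

end Cfsg.Agent.Characters.Elementary
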