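import Mathlib.RepresentationTheory.Character
import Mathlib.RepresentationTheory.Irreducible
import Mathlib.Analysis.Complex.Polynomial.Basic
import Mathlib.RingTheory.IntegralClosure.IntegrallyClosed
import Mathlib.RingTheory.Algebraic.Integral
import Mathlib.GroupTheory.GroupAction.Quotient
import Mathlib.GroupTheory.OrderOfElement
import Mathlib.Algebra.MonoidAlgebra.Basic
import Mathlib.Data.ZMod.Basic
import Mathlib.RingTheory.Polynomial.RationalRoot
import Cfsg.Agent.OddOrderCharacters.ClassSum
set_option linter.all false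

/-!
# Characters of `p`-defect zero vanish on `p`-singular elements

The proof is by counting tuples up to rotation: if `B = ∑ b g • g` satisfies `B * B = m B`, then
the coefficient sum of `B ^ (p ^ n)` over a class of `p`-singular elements is divisible by a high
power of `p`.
-/

set_option autoImplicit false

namespace Cfsg.Agent.Characters.DefectZero

open Module

section orbit

/-- The sum of an invariant function over a finite set on which every orbit in the support has
size divisible by `d` is `d` times an element of any subring containing the values. -/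
theorem sum_eq_of_dvd_orbit {H X R : Type*} [Group H] [MulAction H X] [Fintype X] [CommRing R]
    (S : Subring R) (d : ℕ) (w : X → R) (hw : ∀ (h : H) (x : X), w (h • x) = w x)
    (hS : ∀ x, w x ∈ S) (hd : ∀ x, w x ≠ 0 → d ∣ Nat.card (MulAction.orbit H x)) :
    ∃ r ∈ S, ∑ x, w x = d * r := by
  classical
  let Q := Quotient (MulAction.orbitRel H X)
  let mk : X → Q := Quotient.mk _
  have : Fintype Q := Fintype.ofFinite _
  have hfib : ∀ q : Q, ∃ r ∈ S, ∑ x with mk x = q, w x = d * r := by
    intro q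
    obtain ⟨x₀, rfl⟩ := Quotient.exists_rep q
    have hmem : ∀ x, mk x = mk x₀ ↔ x ∈ MulAction.orbit H x₀ := by
      intro x
      rw [← MulAction.orbitRel_apply]
      exact Quotient.eq
    have hval : ∀ x ∈ Finset.univ.filter (fun x => mk x = mk x₀), w x = w x₀ := by
      intro x hx
      rw [Finset.mem_filter] at hx
      obtain ⟨h, rfl⟩ := (hmem x).1 hx.2
      exact hw h x₀
    have hcard : (Finset.univ.filter (fun x => mk x = mk x₀)).card
        = Nat.card (MulAction.orbit H x₀) := by
      rw [Nat.card_eq_card_toFinset]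
      congr 1
      ext x
      simp [hmem]
    change ∃ r ∈ S, ∑ x with mk x = mk x₀, w x = d * r
    rw [Finset.sum_congr rfl hval, Finset.sum_const, hcard]
    by_cases h0 : w x₀ = 0
    · exact ⟨0, S.zero_mem, by simp [h0]⟩
    · obtain ⟨k, hk⟩ := hd x₀ h0
      refine ⟨k • w x₀, S.nsmul_mem (hS x₀) k, ?_⟩
      rw [hk]
      simp [mul_assoc]
  choose r hr hr' using hfib
  refine ⟨∑ q, r q, S.sum_mem fun q _ => hr q, ?_⟩
  rw [← Finset.sum_fiberwise Finset.univ mk w, Finset.mul_sum]
  exact Finset.sum_congr rfl fun q _ => hr' q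

end orbit

section words

variable {G : Type*} [Group G]

/-- The product of the first `k` values of `f`. -/
def pr (f : ℕ → G) (k : ℕ) : G := ((List.range k).map f).prod

theorem pr_zero (f : ℕ → G) : pr f 0 = 1 := by simp [pr]

theorem pr_succ (f : ℕ → G) (k : ℕ) : pr f (k + 1) = pr f k * f k := by
  simp [pr, List.range_succ]

theorem pr_add (f : ℕ → G) (k l : ℕ) : pr f (k + l) = pr f k * pr (fun i => f (k + i)) l := by
  induction l with
  | zero => simp [pr_zero]
  | succ l ih => rw [← add_assoc, pr_succ, ih, pr_succ, mul_assoc]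

theorem pr_mul (f : ℕ → G) (d j : ℕ) (hf : ∀ i, f (d + i) = f i) :
    pr f (d * j) = pr f d ^ j := by
  induction j with
  | zero => simp [pr_zero]
  | succ j ih =>
    rw [Nat.mul_succ, add_comm, pr_add, pow_succ', ← ih]
    congr 2
    funext i
    exact hf i

theorem pr_rotate (f : ℕ → G) (N : ℕ) (hf : f N = f 0) :
    pr (fun i => f (1 + i)) N = (f 0)⁻¹ * pr f N * f 0 := by
  have h1 : pr f (1 + N) = f 0 * pr (fun i => f (1 + i)) N := by
    rw [pr_add]
    simp [pr]
  have h2 : pr f (1 + N) = pr f N * f 0 := by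
    rw [add_comm, pr_succ, hf]
  rw [mul_assoc, ← h2, h1, inv_mul_cancel_left]

end words

section shift

variable {G : Type*} [Group G] {N : ℕ}

/-- The product of all entries of a cyclic tuple, in order from `0`. -/
def cpr (f : ZMod N → G) : G := pr (fun i : ℕ => f (i : ZMod N)) N

/-- The shift action of the cyclic group on cyclic tuples. -/
@[reducible] def shiftAction (G : Type*) (N : ℕ) :
    MulAction (Multiplicative (ZMod N)) (ZMod N → G) where
  smul k f := fun i => f (i + k.toAdd)
  one_smul f := by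
    funext i
    change f (i + 0) = f i
    rw [add_zero]
  mul_smul k l f := by
    funext i
    change f (i + (k.toAdd + l.toAdd)) = f (i + k.toAdd + l.toAdd)
    rw [add_assoc]

theorem isConj_cpr_shift (f : ZMod N → G) (k : ℕ) :
    IsConj (cpr f) (cpr (fun i => f (i + (k : ZMod N)))) := by
  induction k with
  | zero => simpa using IsConj.refl (cpr f)
  | succ k ih =>
    refine ih.trans ?_
    set g : ZMod N → G := fun i => f (i + (k : ZMod N)) with hg
    have h1 : cpr (fun i => f (i + ((k + 1 : ℕ) : ZMod N))) = (g 0)⁻¹ * cpr g * g 0 := by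
      have h2 := pr_rotate (fun i : ℕ => g (i : ZMod N)) N (by simp)
      simp only [Nat.cast_zero] at h2
      unfold cpr
      rw [← h2]
      congr 1
      funext i
      rw [hg]
      simp only
      congr 1
      push_cast
      ring
    rw [h1]
    exact isConj_iff.2 ⟨(g 0)⁻¹, by simp⟩

theorem exists_pow_of_periodic (f : ZMod N → G) (d j : ℕ) (hN : N = d * j)
    (hf : ∀ i, f (i + (d : ZMod N)) = f i) : ∃ y, cpr f = y ^ j := by
  subst hN
  refine ⟨pr (fun i : ℕ => f (i : ZMod (d * j))) d, ?_⟩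
  unfold cpr
  apply pr_mul
  intro i
  have := hf (i : ZMod (d * j))
  rw [← this]
  congr 1
  push_cast
  ring

/-- If `p` divides the order of `y ^ (p ^ j)` then `p ^ (j + 1)` divides the order of `y`. -/
theorem pow_succ_dvd_orderOf [Finite G] (p j : ℕ) (hp : p.Prime) (y : G)
    (h : p ∣ orderOf (y ^ (p ^ j))) : p ^ (j + 1) ∣ orderOf y := by
  obtain ⟨a, b, hb, hab⟩ := Nat.exists_eq_pow_mul_and_not_dvd (orderOf_pos y).ne' p hp.ne_one
  rcases Nat.lt_or_ge j a with hja | hja
  · rw [hab]
    exact Dvd.dvd.mul_right (pow_dvd_pow p hja) b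
  · exfalso
    apply hb
    refine h.trans (orderOf_dvd_of_pow_eq_one ?_)
    obtain ⟨i, rfl⟩ := Nat.exists_eq_add_of_le hja
    rw [← pow_mul, pow_add, mul_assoc, mul_comm (p ^ i) b, ← mul_assoc, ← hab, pow_mul,
      pow_orderOf_eq_one, one_pow]

/-- Orbit sizes for the rotation action on tuples of length `p ^ n` whose product is `p`-singular. -/
theorem dvd_card_orbit [Finite G] (p n c : ℕ) (hp : p.Prime) (hc : ¬ p ^ (c + 1) ∣ Nat.card G)
    (f : ZMod (p ^ n) → G) (hf : p ∣ orderOf (cpr f)) :
    letI := shiftAction G (p ^ n)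
    p ^ (n - c) ∣ Nat.card (MulAction.orbit (Multiplicative (ZMod (p ^ n))) f) := by
  classical
  let _ := shiftAction G (p ^ n)
  have : NeZero (p ^ n) := ⟨(pow_pos hp.pos n).ne'⟩
  let _ : Fintype (Multiplicative (ZMod (p ^ n))) := inferInstanceAs (Fintype (ZMod (p ^ n)))
  have hcard : Nat.card (MulAction.orbit (Multiplicative (ZMod (p ^ n))) f)
      * Nat.card (MulAction.stabilizer (Multiplicative (ZMod (p ^ n))) f) = p ^ n := by
    let _ : Fintype (MulAction.orbit (Multiplicative (ZMod (p ^ n))) f) := Fintype.ofFinite _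
    rw [Nat.card_eq_fintype_card, Nat.card_eq_fintype_card,
      MulAction.card_orbit_mul_card_stabilizer_eq_card_group]
    exact ZMod.card (p ^ n)
  obtain ⟨k, hk, hk'⟩ := (Nat.dvd_prime_pow hp).1 (Dvd.intro _ hcard)
  rw [hk']
  refine pow_dvd_pow p ?_
  -- the stabilizer has index `p ^ k`
  have hidx : (MulAction.stabilizer (Multiplicative (ZMod (p ^ n))) f).index = p ^ k := by
    rw [MulAction.index_stabilizer, ← hk']
    rfl
  have hmem : (Multiplicative.ofAdd (1 : ZMod (p ^ n))) ^ (p ^ k) ∈
      MulAction.stabilizer (Multiplicative (ZMod (p ^ n))) f := by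
    rw [← hidx]
    exact Subgroup.pow_index_mem _ _
  rw [← ofAdd_nsmul, nsmul_one, MulAction.mem_stabilizer_iff] at hmem
  have hper : ∀ i, f (i + ((p ^ k : ℕ) : ZMod (p ^ n))) = f i := fun i => congrFun hmem i
  obtain ⟨y, hy⟩ := exists_pow_of_periodic f (p ^ k) (p ^ (n - k))
    (by rw [← pow_add, Nat.add_sub_cancel' hk]) hper
  rw [hy] at hf
  by_contra hlt
  push Not at hlt
  -- then `p ^ (n - k + 1)` divides the order of `y`
  apply hc
  refine (pow_dvd_pow p ?_).trans ((pow_succ_dvd_orderOf p (n - k) hp y hf).trans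
    (orderOf_dvd_natCard y))
  omega

/-- For a subring `S` and a weight function `b` with values in `S`, the weighted number of tuples
of length `p ^ n` with product in the class of a `p`-singular element is divisible by
`p ^ (n - c)` in `S`. -/
theorem exists_sum_tuples_eq [Fintype G] [DecidableEq G] {R : Type*} [CommRing R] (S : Subring R)
    (b : G → R) (hb : ∀ g, b g ∈ S) (p n c : ℕ) [NeZero (p ^ n)] (hp : p.Prime)
    (hc : ¬ p ^ (c + 1) ∣ Nat.card G) (x : G) (hx : p ∣ orderOf x)
    [DecidablePred (fun f : ZMod (p ^ n) → G => IsConj (cpr f) x)] :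
    ∃ r ∈ S, (∑ f : ZMod (p ^ n) → G, if IsConj (cpr f) x then ∏ i, b (f i) else 0)
      = (p ^ (n - c) : ℕ) * r := by
  let _ := shiftAction G (p ^ n)
  refine sum_eq_of_dvd_orbit (H := Multiplicative (ZMod (p ^ n))) S (p ^ (n - c)) _ ?_ ?_ ?_
  · intro k f
    have h1 : IsConj (cpr f) (cpr (k • f)) := by
      have := isConj_cpr_shift f (ZMod.val k.toAdd)
      rw [ZMod.natCast_zmod_val] at this
      exact this
    have h2 : ∏ i, b ((k • f) i) = ∏ i, b (f i) := by
      exact Fintype.prod_equiv (Equiv.addRight k.toAdd) _ _ (fun i => rfl)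
    have h3 : IsConj (cpr (k • f)) x ↔ IsConj (cpr f) x :=
      ⟨fun h => h1.trans h, fun h => h1.symm.trans h⟩
    simp only [h2, h3]
  · intro f
    split_ifs
    · exact S.prod_mem fun i _ => hb _
    · exact S.zero_mem
  · intro f hf
    have h1 : IsConj (cpr f) x := by
      by_contra h
      exact hf (if_neg h)
    refine dvd_card_orbit p n c hp hc f ?_
    obtain ⟨g, hg⟩ := isConj_iff.1 h1
    have h2 : orderOf x = orderOf (cpr f) := by
      rw [← hg]
      exact (MulEquiv.orderOf_eq (MulAut.conj g) (cpr f))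
    rwa [← h2]

end shift
section algebra

variable {G : Type*} [Group G] [Fintype G] {R : Type*} [CommRing R]

/-- The element of the group algebra with coefficient function `b`. -/
noncomputable def elt (b : G → R) : MonoidAlgebra R G := ∑ g, MonoidAlgebra.single g (b g)

theorem elt_pow (b : G → R) (N : ℕ) :
    elt b ^ N = ∑ f : Fin N → G, MonoidAlgebra.single (List.ofFn f).prod (∏ i, b (f i)) := by
  induction N with
  | zero => simp [MonoidAlgebra.one_def]
  | succ N ih =>
    rw [pow_succ', ih, elt, Finset.sum_mul_sum, ← Finset.sum_product']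
    refine Fintype.sum_equiv (Fin.consEquiv (fun _ => G)) _ _ ?_
    rintro ⟨g, f⟩
    simp [MonoidAlgebra.single_mul_single, Fin.consEquiv, List.ofFn_succ, Fin.prod_univ_succ]

theorem elt_pow' (b : G → R) (N : ℕ) [NeZero N] :
    elt b ^ N = ∑ f : ZMod N → G, MonoidAlgebra.single (cpr f) (∏ i, b (f i)) := by
  obtain ⟨n, rfl⟩ := Nat.exists_eq_succ_of_ne_zero (NeZero.ne N)
  rw [elt_pow]
  refine Finset.sum_congr rfl fun f _ => ?_
  congr 1
  unfold cpr pr
  rw [List.ofFn_eq_map, ← List.map_coe_finRange_eq_range, List.map_map]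
  congr 2
  funext i
  have : ((i.val : ℕ) : ZMod (n + 1)) = i := ZMod.natCast_zmod_val (n := n + 1) i
  simp only [Function.comp]
  exact congrArg f this.symm

theorem elt_mul_self (b : G → R) (m : R) (hb : ∀ k, ∑ g, b g * b (g⁻¹ * k) = m * b k) :
    elt b * elt b = m • elt b := by
  have h1 : elt b * elt b = ∑ g, ∑ k, MonoidAlgebra.single k (b g * b (g⁻¹ * k)) := by
    unfold elt
    rw [Finset.sum_mul_sum]
    refine Finset.sum_congr rfl fun g _ => ?_
    refine Fintype.sum_equiv (Equiv.mulLeft g) _ _ fun h => ?_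
    simp [MonoidAlgebra.single_mul_single]
  rw [h1, Finset.sum_comm, elt, Finset.smul_sum]
  refine Finset.sum_congr rfl fun k _ => ?_
  rw [MonoidAlgebra.smul_single, smul_eq_mul, ← hb]
  exact (map_sum (MonoidAlgebra.singleAddHom k) (fun g => b g * b (g⁻¹ * k)) Finset.univ).symm

theorem elt_pow_succ (b : G → R) (m : R) (hb : ∀ k, ∑ g, b g * b (g⁻¹ * k) = m * b k) (N : ℕ) :
    elt b ^ (N + 1) = m ^ N • elt b := by
  induction N with
  | zero => simp
  | succ N ih =>
    rw [pow_succ, ih, smul_mul_assoc, elt_mul_self b m hb, smul_smul, pow_succ]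

open Classical in
/-- The sum of the coefficients of an element of the group algebra over the class of `x`. -/
noncomputable def clsum (x : G) (a : MonoidAlgebra R G) : R :=
  ∑ g, if IsConj g x then a.coeff g else 0

theorem clsum_sum {ι : Type*} (s : Finset ι) (x : G) (a : ι → MonoidAlgebra R G) :
    clsum x (∑ i ∈ s, a i) = ∑ i ∈ s, clsum x (a i) := by
  classical
  unfold clsum
  rw [Finset.sum_comm]
  refine Finset.sum_congr rfl fun g _ => ?_
  split_ifs
  · simp
  · simp

theorem clsum_smul (x : G) (r : R) (a : MonoidAlgebra R G) :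
    clsum x (r • a) = r * clsum x a := by
  classical
  unfold clsum
  rw [Finset.mul_sum]
  refine Finset.sum_congr rfl fun g _ => ?_
  split_ifs
  · simp
  · simp

open Classical in
theorem clsum_single (x g : G) (r : R) :
    clsum x (MonoidAlgebra.single g r) = if IsConj g x then r else 0 := by
  unfold clsum
  rw [Finset.sum_eq_single g]
  · simp
  · intro h _ hh
    simp [Ne.symm hh]
  · simp

open Classical in
theorem clsum_elt (x : G) (b : G → R) :
    clsum x (elt b) = ∑ g, if IsConj g x then b g else 0 := by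
  unfold elt
  rw [clsum_sum]
  exact Finset.sum_congr rfl fun g _ => clsum_single x g _

open Classical in
/-- If `∑ b g • g` is a multiple `m` of an idempotent with coefficients in a subring `S`, then
its class sum over a `p`-singular class is highly divisible by `p`, up to powers of `m`. -/
theorem exists_mul_clsum_eq (S : Subring R) (b : G → R) (hbS : ∀ g, b g ∈ S)
    (m : R) (hb : ∀ k, ∑ g, b g * b (g⁻¹ * k) = m * b k) (p n c : ℕ) (hp : p.Prime)
    (hc : ¬ p ^ (c + 1) ∣ Nat.card G) (x : G) (hx : p ∣ orderOf x) :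
    ∃ r ∈ S, m ^ (p ^ n - 1) * (∑ g, if IsConj g x then b g else 0) = (p ^ (n - c) : ℕ) * r := by
  have : NeZero (p ^ n) := ⟨(pow_pos hp.pos n).ne'⟩
  obtain ⟨r, hr, hr'⟩ := exists_sum_tuples_eq S b hbS p n c hp hc x hx
  refine ⟨r, hr, ?_⟩
  rw [← hr', ← clsum_elt, ← clsum_smul, ← elt_pow_succ b m hb,
    Nat.sub_add_cancel (Nat.one_le_pow n p hp.pos), elt_pow', clsum_sum]
  exact Finset.sum_congr rfl fun f _ => clsum_single x _ _

end algebra
section integral

/-- An algebraic integer that is divisible by all powers of a prime `p`, up to integers prime to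
`p`, is zero. -/
theorem eq_zero_of_forall_dvd (p : ℕ) (hp : p.Prime) (γ : ℂ) (hγ : IsIntegral ℤ γ)
    (h : ∀ k : ℕ, ∃ M : ℕ, Nat.Coprime p M ∧ ∃ r : ℂ, IsIntegral ℤ r ∧ (M : ℂ) * γ = (p ^ k : ℕ) * r) :
    γ = 0 := by
  by_contra hne
  set γ' : integralClosure ℤ ℂ := ⟨γ, hγ⟩ with hγ'
  have halg : IsAlgebraic ℤ γ' := (integralClosure.isIntegral γ').isAlgebraic
  have hne' : γ' ∈ nonZeroDivisors (integralClosure ℤ ℂ) :=
    mem_nonZeroDivisors_of_ne_zero (fun h0 => hne (congrArg Subtype.val h0))
  obtain ⟨z, hz, δ, hδ⟩ := halg.exists_nonzero_dvd hne'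
  have hδ' : (z : ℂ) = γ * (δ : ℂ) := by
    have := congrArg (Subtype.val : integralClosure ℤ ℂ → ℂ) hδ
    simpa using this
  obtain ⟨k, hk⟩ : ∃ k : ℕ, z.natAbs < p ^ k := ⟨z.natAbs, Nat.lt_pow_self hp.one_lt⟩
  obtain ⟨M, hM, r, hr, hMr⟩ := h k
  have hpk : ((p ^ k : ℕ) : ℂ) ≠ 0 := by
    exact_mod_cast (pow_pos hp.pos k).ne'
  have h1 : ((M : ℂ) * z) = (p ^ k : ℕ) * (r * δ) := by
    rw [hδ', ← mul_assoc, hMr, mul_assoc]
  have h2 : IsIntegral ℤ (r * (δ : ℂ)) := hr.mul δ.2
  have h3 : IsIntegral ℤ (algebraMap ℚ ℂ ((M * z : ℤ) / (p ^ k : ℕ) : ℚ)) := by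
    have : algebraMap ℚ ℂ ((M * z : ℤ) / (p ^ k : ℕ) : ℚ) = r * (δ : ℂ) := by
      have h4 : (algebraMap ℚ ℂ ((M * z : ℤ) / (p ^ k : ℕ) : ℚ)) = ((M : ℂ) * z) / (p ^ k : ℕ) := by
        push_cast [map_div₀]
        simp
      rw [h4, h1, mul_div_assoc]
      field_simp
    rw [this]
    exact h2
  rw [isIntegral_algebraMap_iff (algebraMap ℚ ℂ).injective] at h3
  obtain ⟨w, hw⟩ := IsIntegrallyClosed.isIntegral_iff.1 h3
  have h5 : ((M * z : ℤ) : ℚ) = ((p ^ k : ℕ) * w : ℤ) := by
    have hpk' : ((p ^ k : ℕ) : ℚ) ≠ 0 := by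
      exact_mod_cast (pow_pos hp.pos k).ne'
    rw [eq_div_iff hpk'] at hw
    rw [← hw]
    push_cast
    simp [mul_comm]
  have h6 : (M : ℤ) * z = (p ^ k : ℕ) * w := by exact_mod_cast h5
  have h7 : ((p ^ k : ℕ) : ℤ) ∣ (M : ℤ) * z := Dvd.intro _ h6.symm
  have h8 : ((p ^ k : ℕ) : ℤ) ∣ z := by
    refine IsCoprime.dvd_of_dvd_mul_left ?_ h7
    exact_mod_cast (Nat.isCoprime_iff_coprime.2 (Nat.Coprime.pow_left k hM))
  have h9 : p ^ k ∣ z.natAbs := by
    rw [← Int.natCast_dvd]
    exact h8
  exact absurd (Nat.le_of_dvd (Int.natAbs_pos.2 hz) h9) (not_le.2 hk)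

end integral

section main

variable {G : Type*} [Group G] [Fintype G] {V : Type*} [AddCommGroup V] [Module ℂ V]
  [FiniteDimensional ℂ V]

omit [Fintype G] in
theorem nontrivial_of_irreducible (ρ : Representation ℂ G V) (hρ : ρ.IsIrreducible) :
    Nontrivial V := by
  by_contra h
  rw [not_nontrivial_iff_subsingleton] at h
  have h1 : finrank ℂ (Representation.IntertwiningMap ρ ρ) = 1 := by
    have := hρ
    exact Representation.IsIrreducible.finrank_intertwiningMap_self ρ
  have h2 : Subsingleton (Representation.IntertwiningMap ρ ρ) :=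
    ⟨fun f g => by
      ext v
      exact Subsingleton.elim _ _⟩
  rw [finrank_zero_of_subsingleton] at h1
  exact zero_ne_one h1

/-- Convolution formula for an irreducible character. -/
theorem sum_char_inv_mul_char (ρ : Representation ℂ G V) (hρ : ρ.IsIrreducible) (y : G) :
    ∑ g, ρ.character g⁻¹ * ρ.character (g * y)
      = (Nat.card G : ℂ) / (finrank ℂ V : ℂ) * ρ.character y := by
  classical
  obtain ⟨c, hc⟩ := Cfsg.Agent.OddOrderCharacters.ClassSum.schur_scalar ρ hρ
    (∑ g, ρ.character g⁻¹ • ρ g) (by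
      intro h
      change (∑ g, ρ.character g⁻¹ • ρ g) * ρ h = ρ h * (∑ g, ρ.character g⁻¹ • ρ g)
      rw [Finset.sum_mul, Finset.mul_sum]
      refine Fintype.sum_equiv ((MulAut.conj h⁻¹).toEquiv) _ _ fun g => ?_
      rw [smul_mul_assoc, mul_smul_comm, ← map_mul, ← map_mul]
      have h1 : (MulAut.conj h⁻¹).toEquiv g = h⁻¹ * g * h := by simp
      rw [h1]
      congr 1
      · have := ρ.char_conj g⁻¹ h⁻¹
        rw [← this]
        congr 1
        group
      · congr 1
        group)
  have hne : (finrank ℂ V : ℂ) ≠ 0 := by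
    have : Nontrivial V := nontrivial_of_irreducible ρ hρ
    exact_mod_cast (finrank_pos (R := ℂ) (M := V)).ne'
  have hcard : (Nat.card G : ℂ) ≠ 0 := by exact_mod_cast Nat.card_pos.ne'
  have htr : ∀ y : G, ∑ g, ρ.character g⁻¹ * ρ.character (g * y) = c * ρ.character y := by
    intro y
    have h1 : LinearMap.trace ℂ V ((∑ g, ρ.character g⁻¹ • ρ g) * ρ y) = c * ρ.character y := by
      rw [hc]
      change LinearMap.trace ℂ V (c • ((1 : V →ₗ[ℂ] V)) * ρ y) = _
      rw [smul_mul_assoc, one_mul, map_smul]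
      rfl
    rw [← h1, Finset.sum_mul, map_sum]
    refine Finset.sum_congr rfl fun g _ => ?_
    rw [smul_mul_assoc, map_smul, ← map_mul]
    rfl
  have hone := htr 1
  simp only [mul_one, Representation.char_one] at hone
  have hinv : Invertible (Nat.card G : ℂ) := invertibleOfNonzero hcard
  have horth := Representation.char_orthonormal ρ ρ
  rw [if_pos ⟨Representation.Equiv.refl ρ⟩] at horth
  have hsum : ∑ g, ρ.character g⁻¹ * ρ.character g = (Nat.card G : ℂ) := by
    have h2 : ∑ g, ρ.character g⁻¹ * ρ.character g = ∑ g : G, ρ.character g * ρ.character g⁻¹ :=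
      Finset.sum_congr rfl fun g _ => mul_comm _ _
    rw [h2]
    field_simp at horth
    exact horth
  rw [hsum] at hone
  rw [htr, hone]
  field_simp

/-- A character of `p`-defect zero vanishes at `p`-singular elements (stated for the inverse). -/
theorem character_inv_eq_zero (ρ : Representation ℂ G V) (hρ : ρ.IsIrreducible) (p c : ℕ) (hp : p.Prime)
    (hn : p ^ c ∣ Nat.card G) (hn' : ¬ p ^ (c + 1) ∣ Nat.card G) (hdeg : p ^ c ∣ finrank ℂ V)
    (x : G) (hx : p ∣ orderOf x) : ρ.character x⁻¹ = 0 := by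
  classical
  obtain ⟨m, hm⟩ := hn
  obtain ⟨d, hd⟩ := hdeg
  have hne : (finrank ℂ V : ℂ) ≠ 0 := by
    have : Nontrivial V := nontrivial_of_irreducible ρ hρ
    exact_mod_cast (finrank_pos (R := ℂ) (M := V)).ne'
  have hpc : (p ^ c : ℂ) ≠ 0 := by exact_mod_cast (pow_pos hp.pos c).ne'
  have hd0 : (d : ℂ) ≠ 0 := by
    intro h0
    apply hne
    rw [hd]
    push_cast
    rw [h0, mul_zero]
  have hpm : Nat.Coprime p m := by
    rw [Nat.Prime.coprime_iff_not_dvd hp]
    rintro ⟨m', rfl⟩
    apply hn'
    rw [hm, pow_succ]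
    exact mul_dvd_mul_left _ (Dvd.intro _ rfl)
  set b : G → ℂ := fun g => d * ρ.character g⁻¹ with hb
  have hint : ∀ g, IsIntegral ℤ (b g) := fun g =>
    (isIntegral_natCast d).mul (Cfsg.Agent.OddOrderCharacters.ClassSum.character_isIntegral ρ g⁻¹)
  have hconv : ∀ k, ∑ g, b g * b (g⁻¹ * k) = (m : ℂ) * b k := by
    intro k
    have h1 : ∀ g, b g * b (g⁻¹ * k) = d ^ 2 * (ρ.character g⁻¹ * ρ.character (g * k⁻¹)) := by
      intro g
      simp only [hb]
      have : ρ.character (g⁻¹ * k)⁻¹ = ρ.character (g * k⁻¹) := by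
        rw [mul_inv_rev, inv_inv, Representation.char_mul_comm]
      rw [this]
      ring
    rw [Finset.sum_congr rfl (fun g _ => h1 g), ← Finset.mul_sum, sum_char_inv_mul_char ρ hρ, hm,
      hd, hb]
    push_cast
    field_simp
  have hγ : (∑ g, if IsConj g x then b g else 0) = 0 := by
    apply eq_zero_of_forall_dvd p hp
    · refine IsIntegral.sum _ fun g _ => ?_
      split_ifs
      · exact hint g
      · exact isIntegral_zero
    · intro k
      obtain ⟨r, hr, hr'⟩ := exists_mul_clsum_eq (integralClosure ℤ ℂ).toSubring b hint (m : ℂ)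
        hconv p (k + c) c hp hn' x hx
      refine ⟨m ^ (p ^ (k + c) - 1), Nat.Coprime.pow_right _ hpm, r, hr, ?_⟩
      rw [Nat.add_sub_cancel] at hr'
      rw [← hr']
      push_cast
      rfl
  have hconst : ∀ g, (if IsConj g x then b g else 0) = if IsConj g x then b x else 0 := by
    intro g
    split_ifs with h
    · obtain ⟨y, rfl⟩ := isConj_iff.1 h
      simp only [hb]
      congr 1
      have := ρ.char_conj g⁻¹ y
      rw [← this]
      congr 1
      group
    · rfl
  rw [Finset.sum_congr rfl (fun g _ => hconst g), ← Finset.sum_filter, Finset.sum_const,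
    nsmul_eq_mul] at hγ
  rcases mul_eq_zero.1 hγ with h | h
  · exfalso
    have h1 : x ∈ Finset.univ.filter (fun g => IsConj g x) :=
      Finset.mem_filter.2 ⟨Finset.mem_univ _, IsConj.refl x⟩
    have h2 : (Finset.univ.filter (fun g => IsConj g x)).card = 0 := by exact_mod_cast h
    rw [Finset.card_eq_zero] at h2
    rw [h2] at h1
    simp at h1
  · simp only [hb] at h
    exact (mul_eq_zero.1 h).resolve_left hd0

end main

end Cfsg.Agent.Characters.DefectZero
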