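import Mathlib
import Cfsg.Prelude.Def_Characters
set_option linter.all false

/-!
# The combinatorial part of the isometry lemma behind exceptional characters

Families of vectors `x_i - y_i` in a free abelian group with Gram matrix `1 + δ`.
-/

set_option autoImplicit false

namespace Cfsg.Agent.Characters.ExceptionalIsometry

open Finset

/-- An integer vector of squared norm two, orthogonal to a positive vector, is the difference of two
distinct unit vectors. -/
theorem exists_single_sub_single {I : Type*} [Fintype I] [DecidableEq I] (a d : I → ℤ)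
    (hd : ∀ i, 0 < d i) (h2 : ∑ i, a i * a i = 2) (h0 : ∑ i, a i * d i = 0) :
    ∃ x y : I, x ≠ y ∧ a = Pi.single x 1 - Pi.single y 1 := by
  -- every coefficient satisfies `a i ^ 2 ≤ 2`, so is in `{-1, 0, 1}`
  have hle : ∀ i, a i * a i ≤ 2 := fun i => by
    rw [← h2]
    exact Finset.single_le_sum (f := fun i => a i * a i) (fun j _ => mul_self_nonneg _) (mem_univ i)
  have hval : ∀ i, a i = -1 ∨ a i = 0 ∨ a i = 1 := fun i => by
    have h := hle i
    have h1 : a i ≤ 1 := by nlinarith
    have h1' : -1 ≤ a i := by nlinarith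
    omega
  -- some coefficient is positive
  have hne : ∃ i, a i ≠ 0 := by
    by_contra hcon
    push Not at hcon
    simp [hcon] at h2
  have hpos : ∃ i, a i = 1 := by
    by_contra hcon
    push Not at hcon
    have hnp : ∀ i, a i ≤ 0 := fun i => by
      rcases hval i with h | h | h
      · omega
      · omega
      · exact absurd h (hcon i)
    obtain ⟨i, hi⟩ := hne
    have hlt : ∑ i, a i * d i < 0 := by
      apply Finset.sum_neg' (fun j _ => mul_nonpos_of_nonpos_of_nonneg (hnp j) (hd j).le)
      exact ⟨i, mem_univ i, mul_neg_of_neg_of_pos (lt_of_le_of_ne (hnp i) hi) (hd i)⟩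
    omega
  have hneg : ∃ i, a i = -1 := by
    by_contra hcon
    push Not at hcon
    have hnp : ∀ i, 0 ≤ a i := fun i => by
      rcases hval i with h | h | h
      · exact absurd h (hcon i)
      · omega
      · omega
    obtain ⟨i, hi⟩ := hne
    have hlt : 0 < ∑ i, a i * d i := by
      apply Finset.sum_pos' (fun j _ => mul_nonneg (hnp j) (hd j).le)
      exact ⟨i, mem_univ i, mul_pos (lt_of_le_of_ne (hnp i) (Ne.symm hi)) (hd i)⟩
    omega
  obtain ⟨x, hx⟩ := hpos
  obtain ⟨y, hy⟩ := hneg
  have hxy : x ≠ y := by
    rintro rfl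
    omega
  refine ⟨x, y, hxy, ?_⟩
  funext z
  by_cases hzx : z = x
  · subst hzx
    simp [hx, hxy]
  by_cases hzy : z = y
  · subst hzy
    simp [hy, hzx]
  simp only [Pi.sub_apply, Pi.single_apply, hzx, hzy, if_false, sub_zero]
  -- the sum over `{x, y, z}` is at most two
  have h3 : ∑ i ∈ ({x, y, z} : Finset I), a i * a i ≤ ∑ i, a i * a i :=
    Finset.sum_le_sum_of_subset_of_nonneg (subset_univ _) (fun j _ _ => mul_self_nonneg _)
  rw [h2, Finset.sum_insert (by simp [hxy, Ne.symm hzx]), Finset.sum_insert (by simpa using Ne.symm hzy),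
    Finset.sum_singleton, hx, hy] at h3
  have : a z * a z ≤ 0 := by linarith
  nlinarith [mul_self_nonneg (a z)]

/-- A family of pairs `(x_i, y_i)` with `x_i ≠ y_i` such that the vectors `x_i - y_i` have pairwise
inner product one: all `x_i` are equal or all `y_i` are equal. -/
theorem all_left_or_all_right {J I : Type*} [DecidableEq I] (x y : J → I)
    (hxy : ∀ j, x j ≠ y j)
    (hgram : ∀ i j, i ≠ j →
      ((if x i = x j then 1 else 0) - (if x i = y j then 1 else 0) - (if y i = x j then 1 else 0)
        + (if y i = y j then 1 else 0) : ℤ) = 1) :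
    (∀ i j, i ≠ j → x i = x j ∧ y i ≠ y j) ∨ (∀ i j, i ≠ j → x i ≠ x j ∧ y i = y j) := by
  have key : ∀ i j, i ≠ j → (x i = x j ∧ y i ≠ y j) ∨ (x i ≠ x j ∧ y i = y j) := by
    intro i j hij
    have h := hgram i j hij
    have h1 := hxy i
    have h2 := hxy j
    by_cases ha : x i = x j
    · by_cases hb : y i = y j
      · exfalso
        simp only [ha, hb, h2, Ne.symm h2, if_true, if_false] at h
        omega
      · exact Or.inl ⟨ha, hb⟩
    · by_cases hb : y i = y j
      · exact Or.inr ⟨ha, hb⟩
      · exfalso
        simp only [ha, hb, if_false] at h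
        split_ifs at h <;> omega
  by_cases hall : ∀ i j, i ≠ j → (x i = x j ∧ y i ≠ y j)
  · exact Or.inl hall
  right
  push Not at hall
  obtain ⟨i, j, hij, hnot⟩ := hall
  have hij' : x i ≠ x j ∧ y i = y j := by
    rcases key i j hij with h | h
    · exact absurd (hnot h.1) h.2
    · exact h
  have hy : ∀ k, y k = y i := by
    intro k
    by_cases hki : k = i
    · rw [hki]
    by_cases hkj : k = j
    · rw [hkj, hij'.2]
    rcases key k i hki with h | h
    · rcases key k j hkj with h' | h'
      · exact absurd (h.1.symm.trans h'.1) hij'.1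
      · rw [h'.2, hij'.2]
    · exact h.2
  intro k l hkl
  rcases key k l hkl with h | h
  · exact absurd ((hy k).trans (hy l).symm) h.2
  · exact h

end Cfsg.Agent.Characters.ExceptionalIsometry
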