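import Mathlib
import Cfsg.Prelude.Def_Characters
import Cfsg.Agent.S0150
set_option linter.all false

/-!
# Induction from the centralizer of an involution, for functions living on the roots of the involution
-/

set_option autoImplicit false

open Cfsg

namespace Cfsg.Agent.Characters.CentInvTI

/-- Two powers of an element that are both of order two are equal. -/
theorem pow_eq_of_orderOf_eq_two {G : Type*} [Group G] {x : G} {k m : ℕ} (hk : orderOf (x ^ k) = 2)
    (hm : orderOf (x ^ m) = 2) : x ^ k = x ^ m := by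
  have h1 : orderOf x ∣ 2 * k := by
    rw [orderOf_dvd_iff_pow_eq_one, mul_comm, pow_mul, ← hk, pow_orderOf_eq_one]
  have h2 : ¬ orderOf x ∣ k := by
    intro h
    rw [orderOf_dvd_iff_pow_eq_one] at h
    rw [h, orderOf_one] at hk
    omega
  have h3 : orderOf x ∣ 2 * m := by
    rw [orderOf_dvd_iff_pow_eq_one, mul_comm, pow_mul, ← hm, pow_orderOf_eq_one]
  have h4 : ¬ orderOf x ∣ m := by
    intro h
    rw [orderOf_dvd_iff_pow_eq_one] at h
    rw [h, orderOf_one] at hm
    omega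
  rw [pow_eq_pow_iff_modEq]
  obtain ⟨a, ha⟩ := h1
  obtain ⟨b, hb⟩ := h3
  have ha' : a % 2 = 1 := by
    by_contra h
    obtain ⟨c, hc⟩ : 2 ∣ a := by omega
    apply h2
    refine ⟨c, ?_⟩
    rw [hc] at ha
    have : 2 * k = 2 * (orderOf x * c) := by rw [ha]; ring
    omega
  have hb' : b % 2 = 1 := by
    by_contra h
    obtain ⟨c, hc⟩ : 2 ∣ b := by omega
    apply h4
    refine ⟨c, ?_⟩
    rw [hc] at hb
    have : 2 * m = 2 * (orderOf x * c) := by rw [hb]; ring
    omega
  rw [Nat.modEq_iff_dvd]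
  obtain ⟨c, hc⟩ : (2 : ℤ) ∣ (b : ℤ) - a := by omega
  refine ⟨c, ?_⟩
  have h5 : (2 : ℤ) * (m - k) = 2 * (orderOf x * c) := by
    have e1 : (2 : ℤ) * m = orderOf x * b := by exact_mod_cast hb
    have e2 : (2 : ℤ) * k = orderOf x * a := by exact_mod_cast ha
    calc (2 : ℤ) * (m - k) = orderOf x * (b - a) := by rw [mul_sub, e1, e2]; ring
      _ = 2 * (orderOf x * c) := by rw [hc]; ring
  exact mul_left_cancel₀ (by norm_num) h5

variable {G : Type*} [Group G]

/-- The set of the roots of `t`. -/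
def roots (t : G) : Set G := {x : G | ∃ k : ℕ, x ^ k = t}

theorem normalizer_roots {t : G} (ht : orderOf t = 2) :
    Subgroup.normalizer (roots t) = Subgroup.centralizer ({t} : Set G) := by
  ext g
  rw [Subgroup.mem_set_normalizer_iff, Subgroup.mem_centralizer_singleton_iff]
  constructor
  · intro h
    obtain ⟨k, hk⟩ := (h t).1 ⟨1, pow_one t⟩
    rw [conj_pow] at hk
    have h1 : orderOf (t ^ k) = 2 := by
      have : t ^ k = g⁻¹ * (g * t ^ k * g⁻¹) * g := by group
      rw [hk] at this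
      rw [this]
      have := orderOf_injective (MulAut.conj g⁻¹).toMonoidHom (MulAut.conj g⁻¹).injective t
      simpa [ht] using this
    have h2 : t ^ k = t ^ 1 := pow_eq_of_orderOf_eq_two h1 (by rw [pow_one, ht])
    rw [h2, pow_one] at hk
    exact mul_inv_eq_iff_eq_mul.1 hk
  · intro h x
    have hg : ∀ k : ℕ, (g * x * g⁻¹) ^ k = g * x ^ k * g⁻¹ := fun k => conj_pow
    constructor
    · rintro ⟨k, hk⟩
      refine ⟨k, ?_⟩
      rw [hg, hk, h, mul_inv_cancel_right]
    · rintro ⟨k, hk⟩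
      refine ⟨k, ?_⟩
      rw [hg] at hk
      have : x ^ k = g⁻¹ * t * g := by rw [← hk]; group
      rw [this, mul_assoc, ← h, inv_mul_cancel_left]

theorem roots_ti {t : G} (ht : orderOf t = 2) (g : G) (hg : g ∉ Subgroup.normalizer (roots t))
    (x : G) (hx : x ∈ roots t) (hgx : g * x * g⁻¹ ∈ roots t) : x = 1 := by
  exfalso
  apply hg
  rw [normalizer_roots ht, Subgroup.mem_centralizer_singleton_iff]
  obtain ⟨k, hk⟩ := hx
  obtain ⟨m, hm⟩ := hgx
  rw [conj_pow] at hm
  have h1 : orderOf (x ^ m) = 2 := by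
    have : x ^ m = g⁻¹ * t * g := by rw [← hm]; group
    rw [this]
    have := orderOf_injective (MulAut.conj g⁻¹).toMonoidHom (MulAut.conj g⁻¹).injective t
    simpa [ht] using this
  have h2 : x ^ k = x ^ m := pow_eq_of_orderOf_eq_two (by rw [hk, ht]) h1
  rw [← h2, hk] at hm
  exact mul_inv_eq_iff_eq_mul.1 hm

theorem roots_subset {t : G} (ht : orderOf t = 2) :
    roots t ⊆ Subgroup.normalizer (roots t) := by
  rintro x ⟨k, hk⟩
  rw [normalizer_roots ht]
  show x ∈ Subgroup.centralizer ({t} : Set G)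
  rw [Subgroup.mem_centralizer_singleton_iff, ← hk, ← pow_succ, ← pow_succ']

theorem classInner_ind {G : Type*} [Group G] [Fintype G] (t : G) (ht : orderOf t = 2)
    [Fintype (Subgroup.centralizer ({t} : Set G))]
    (α β : Subgroup.centralizer ({t} : Set G) → ℂ) (hα : Cfsg.IsClassFunction _ α)
    (hβ : Cfsg.IsClassFunction _ β) (hα0 : ∀ h, α h ≠ 0 → ∃ k : ℕ, (h : G) ^ k = t)
    (hβ0 : ∀ h, β h ≠ 0 → ∃ k : ℕ, (h : G) ^ k = t) :
    Cfsg.classInner (Cfsg.indFun _ α) (Cfsg.indFun _ β) = Cfsg.classInner α β := by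
  have key : ∀ (N : Subgroup G) (hN : N = Subgroup.normalizer (roots t)) [Fintype N]
      (α β : N → ℂ) (hα : Cfsg.IsClassFunction _ α)
      (hβ : Cfsg.IsClassFunction _ β) (hα0 : ∀ h, α h ≠ 0 → ∃ k : ℕ, (h : G) ^ k = t)
      (hβ0 : ∀ h, β h ≠ 0 → ∃ k : ℕ, (h : G) ^ k = t),
      Cfsg.classInner (Cfsg.indFun _ α) (Cfsg.indFun _ β) = Cfsg.classInner α β := by
    intro N hN _ α β hα hβ hα0 hβ0
    subst hN
    refine Cfsg.Agent.S0150.result (roots t) (roots_ti ht) (roots_subset ht) α β hα hβ ?_ ?_ ?_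
    · intro x hx
      by_contra h
      exact hx (hα0 x h)
    · intro x hx
      by_contra h
      exact hx (hβ0 x h)
    · by_contra h
      obtain ⟨k, hk⟩ := hα0 1 h
      rw [Subgroup.coe_one, one_pow] at hk
      rw [← hk, orderOf_one] at ht
      omega
  exact key _ (normalizer_roots ht).symm α β hα hβ hα0 hβ0

theorem ind_one {G : Type*} [Group G] [Fintype G] (t : G) (ht : orderOf t = 2)
    (α : Subgroup.centralizer ({t} : Set G) → ℂ)
    (hα0 : ∀ h, α h ≠ 0 → ∃ k : ℕ, (h : G) ^ k = t) : Cfsg.indFun _ α 1 = 0 := by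
  have h1 : α 1 = 0 := by
    by_contra h
    obtain ⟨k, hk⟩ := hα0 1 h
    rw [Subgroup.coe_one, one_pow] at hk
    rw [← hk, orderOf_one] at ht
    omega
  rw [Cfsg.Agent.S0150.indFun_apply]
  have h2 : ∀ x : G, extendByZero (Subgroup.centralizer ({t} : Set G)) α (x⁻¹ * 1 * x) = 0 := by
    intro x
    have : x⁻¹ * 1 * x = ((1 : Subgroup.centralizer ({t} : Set G)) : G) := by simp
    rw [this, Cfsg.Agent.S0150.extendByZero_coe, h1]
  rw [Finset.sum_eq_zero (fun x _ => h2 x), mul_zero]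

end Cfsg.Agent.Characters.CentInvTI
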