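import Mathlib.GroupTheory.Complement
import Mathlib.GroupTheory.GroupAction.CardCommute
import Mathlib.Algebra.BigOperators.Group.Finset.Basic
import Mathlib.Algebra.BigOperators.Ring.Finset
import Mathlib.Data.Fintype.BigOperators
import Mathlib.Tactic.Group
import Mathlib.Tactic.Linarith
set_option linter.all false

/-!
Elementary facts on a group `G = K H` with `K` normal, `K ⊓ H = ⊥`, in which no non-identity
element of `H` commutes with a non-identity element of `K` (a Frobenius group with kernel `K`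
and complement `H`).
-/

set_option autoImplicit false

namespace Cfsg.Agent.Characters.FrobeniusBasic

/-- If `g` normalises `K` and centralises no non-identity element of the finite normal subgroup
`K`, then every element of the coset `K g` is conjugate to `g` by an element of `K`. -/
theorem exists_conj_eq_of_centralizer {G : Type*} [Group G] [Finite G] (K : Subgroup G) [K.Normal]
    (g : G) (hg : ∀ c ∈ K, c * g = g * c → c = 1) (k : G) (hk : k ∈ K) :
    ∃ x ∈ K, x * g * x⁻¹ = k * g := by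
  have hmem : ∀ x : K, (x : G) * g * (x : G)⁻¹ * g⁻¹ ∈ K := by
    intro x
    have h1 : g * (x : G)⁻¹ * g⁻¹ ∈ K := Subgroup.Normal.conj_mem inferInstance _ (K.inv_mem x.2) g
    have h2 : (x : G) * g * (x : G)⁻¹ * g⁻¹ = (x : G) * (g * (x : G)⁻¹ * g⁻¹) := by group
    rw [h2]
    exact K.mul_mem x.2 h1
  let f : K → K := fun x => ⟨(x : G) * g * (x : G)⁻¹ * g⁻¹, hmem x⟩
  have hinj : Function.Injective f := by
    intro x y hxy
    have h0 : (x : G) * g * (x : G)⁻¹ * g⁻¹ = (y : G) * g * (y : G)⁻¹ * g⁻¹ :=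
      congrArg Subtype.val hxy
    have h1 : (x : G) * g * (x : G)⁻¹ = (y : G) * g * (y : G)⁻¹ := mul_right_cancel h0
    have h2 : ((y : G)⁻¹ * x) * g = g * ((y : G)⁻¹ * x) := by
      calc ((y : G)⁻¹ * x) * g = (y : G)⁻¹ * ((x : G) * g * (x : G)⁻¹) * x := by group
        _ = (y : G)⁻¹ * ((y : G) * g * (y : G)⁻¹) * x := by rw [h1]
        _ = g * ((y : G)⁻¹ * x) := by group
    have h3 : (y : G)⁻¹ * x = 1 := hg _ (K.mul_mem (K.inv_mem y.2) x.2) h2
    apply Subtype.ext
    exact (inv_mul_eq_one.mp h3).symm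
  have hsurj : Function.Surjective f := Finite.surjective_of_injective hinj
  obtain ⟨x, hx⟩ := hsurj ⟨k, hk⟩
  refine ⟨x, x.2, ?_⟩
  have h0 : (x : G) * g * (x : G)⁻¹ * g⁻¹ = k := congrArg Subtype.val hx
  rw [← h0]
  group

section

variable {G : Type*} [Group G] [Finite G] (K H : Subgroup G) [K.Normal]

omit [Finite G] in
/-- Each element of `G` is `k * h` with `k ∈ K`, `h ∈ H`. -/
theorem exists_mul_eq (hKH' : K ⊔ H = ⊤) (g : G) : ∃ k ∈ K, ∃ h ∈ H, k * h = g := by
  have h1 : g ∈ K ⊔ H := by rw [hKH']; exact Subgroup.mem_top g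
  rw [Subgroup.mem_sup_of_normal_left] at h1
  exact h1

/-- Each element outside `K` is conjugate, by an element of `K`, to a non-identity element
of `H`. -/
theorem exists_eq_conj_of_notMem (hKH' : K ⊔ H = ⊤)
    (hfpf : ∀ h ∈ H, h ≠ 1 → ∀ k ∈ K, h * k = k * h → k = 1) (g : G) (hg : g ∉ K) :
    ∃ x ∈ K, ∃ h ∈ H, h ≠ 1 ∧ g = x * h * x⁻¹ := by
  obtain ⟨k, hk, h, hh, rfl⟩ := exists_mul_eq K H hKH' g
  have h1 : h ≠ 1 := by
    rintro rfl
    exact hg (by simpa using hk)
  obtain ⟨x, hx, hxe⟩ := exists_conj_eq_of_centralizer K h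
    (fun c hc hch => hfpf h hh h1 c hc hch.symm) k hk
  exact ⟨x, hx, h, hh, h1, hxe.symm⟩

/-- No element outside `K` centralises a non-identity element of `K`. -/
theorem eq_one_of_commute (hKH' : K ⊔ H = ⊤)
    (hfpf : ∀ h ∈ H, h ≠ 1 → ∀ k ∈ K, h * k = k * h → k = 1) (g : G) (hg : g ∉ K)
    (c : G) (hc : c ∈ K) (hcg : c * g = g * c) : c = 1 := by
  obtain ⟨x, hx, h, hh, h1, rfl⟩ := exists_eq_conj_of_notMem K H hKH' hfpf g hg
  have h2 : x⁻¹ * c * x ∈ K := K.mul_mem (K.mul_mem (K.inv_mem hx) hc) hx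
  have h3 : h * (x⁻¹ * c * x) = (x⁻¹ * c * x) * h := by
    calc h * (x⁻¹ * c * x) = x⁻¹ * ((x * h * x⁻¹) * c) * x := by group
      _ = x⁻¹ * (c * (x * h * x⁻¹)) * x := by rw [hcg]
      _ = (x⁻¹ * c * x) * h := by group
  have h4 := hfpf h hh h1 _ h2 h3
  have h5 : c = x * (x⁻¹ * c * x) * x⁻¹ := by group
  rw [h5, h4]
  group

/-- For `g ∉ K` every element of the coset `K g` is conjugate to `g` by an element of `K`. -/
theorem exists_conj_eq (hKH' : K ⊔ H = ⊤)
    (hfpf : ∀ h ∈ H, h ≠ 1 → ∀ k ∈ K, h * k = k * h → k = 1) (g : G) (hg : g ∉ K)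
    (k : G) (hk : k ∈ K) : ∃ x ∈ K, x * g * x⁻¹ = k * g :=
  exists_conj_eq_of_centralizer K g
    (fun c hc hch => eq_one_of_commute K H hKH' hfpf g hg c hc hch) k hk

end

end Cfsg.Agent.Characters.FrobeniusBasic
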