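import Mathlib.RepresentationTheory.Character
import Mathlib.RepresentationTheory.Irreducible
import Mathlib.LinearAlgebra.Trace
import Mathlib.Analysis.Complex.Basic
import Mathlib.Analysis.Complex.Polynomial.Basic
import Cfsg.Prelude.Def_Characters
set_option linter.all false

/-!
Schur orthogonality of matrix coefficients, and: a fixed-point-free automorphism of a finite group
fixes no non-principal irreducible character.
-/

set_option autoImplicit false

open Cfsg Representation Module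

namespace Cfsg.Agent.Characters.FixedPointFree

section schur

variable {G V : Type*} [Group G] [AddCommGroup V] [Module ℂ V] [FiniteDimensional ℂ V]

/-- Schur's lemma: a linear map commuting with an irreducible representation is a scalar. -/
theorem exists_smul_of_comm (ρ : Representation ℂ G V) (h : ρ.IsIrreducible) (f : V →ₗ[ℂ] V)
    (hf : ∀ g, f ∘ₗ ρ g = ρ g ∘ₗ f) : ∃ c : ℂ, f = c • LinearMap.id := by
  have := h
  let F : IntertwiningMap ρ ρ := ⟨f, hf⟩
  obtain ⟨c, hc⟩ := (IsIrreducible.algebraMap_intertwiningMap_bijective_of_isAlgClosed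
    (ρ := ρ)).2 F
  refine ⟨c, ?_⟩
  have h1 : f = (algebraMap ℂ (IntertwiningMap ρ ρ) c).toLinearMap := by rw [hc]
  rw [h1]
  rfl

variable [Fintype G]

/-- The average of the conjugates of a linear map under an irreducible representation. -/
theorem sum_conj_eq (ρ : Representation ℂ G V) (h : ρ.IsIrreducible) (A : V →ₗ[ℂ] V) :
    (finrank ℂ V : ℂ) • ∑ g : G, ρ g ∘ₗ A ∘ₗ ρ g⁻¹
      = ((Fintype.card G : ℂ) * LinearMap.trace ℂ V A) • LinearMap.id := by
  obtain ⟨c, hc⟩ := exists_smul_of_comm ρ h (∑ g : G, ρ g ∘ₗ A ∘ₗ ρ g⁻¹) (by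
    intro x
    have h1 : (∑ g : G, ρ g ∘ₗ A ∘ₗ ρ g⁻¹) ∘ₗ ρ x = ∑ g : G, ρ g ∘ₗ A ∘ₗ ρ (g⁻¹ * x) := by
      ext v
      simp only [LinearMap.comp_apply, LinearMap.sum_apply, map_mul, Module.End.mul_apply]
    have h2 : ρ x ∘ₗ (∑ g : G, ρ g ∘ₗ A ∘ₗ ρ g⁻¹) = ∑ g : G, ρ (x * g) ∘ₗ A ∘ₗ ρ g⁻¹ := by
      ext v
      simp only [LinearMap.comp_apply, LinearMap.sum_apply, map_mul, Module.End.mul_apply, map_sum]
    rw [h1, h2]
    symm
    refine Fintype.sum_equiv (Equiv.mulLeft x) _ _ fun g => ?_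
    simp only [Equiv.coe_mulLeft]
    congr 3
    group)
  have ht : LinearMap.trace ℂ V (∑ g : G, ρ g ∘ₗ A ∘ₗ ρ g⁻¹)
      = (Fintype.card G : ℂ) * LinearMap.trace ℂ V A := by
    rw [map_sum]
    have : ∀ g : G, LinearMap.trace ℂ V (ρ g ∘ₗ A ∘ₗ ρ g⁻¹) = LinearMap.trace ℂ V A := by
      intro g
      rw [LinearMap.trace_comp_comm', LinearMap.comp_assoc]
      have : ρ g⁻¹ ∘ₗ ρ g = LinearMap.id := by
        have := map_mul ρ g⁻¹ g
        rw [inv_mul_cancel, map_one] at this
        exact this.symm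
      rw [this, LinearMap.comp_id]
    rw [Finset.sum_congr rfl fun g _ => this g, Finset.sum_const, Finset.card_univ, nsmul_eq_mul]
  rw [hc] at ht ⊢
  have h3 : LinearMap.trace ℂ V (c • (LinearMap.id : V →ₗ[ℂ] V)) = c * finrank ℂ V := by
    rw [map_smul, LinearMap.trace_id, smul_eq_mul]
  rw [h3] at ht
  rw [smul_smul, ← ht, mul_comm]

/-- Orthogonality of matrix coefficients, in the form of a trace formula. -/
theorem sum_trace_smul (ρ : Representation ℂ G V) (h : ρ.IsIrreducible) (T : V →ₗ[ℂ] V) (v : V) :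
    (finrank ℂ V : ℂ) • ∑ g : G, LinearMap.trace ℂ V (ρ g⁻¹ ∘ₗ T) • ρ g v
      = (Fintype.card G : ℂ) • T v := by
  classical
  let b := Module.finBasis ℂ V
  have htr : ∀ X : V →ₗ[ℂ] V, LinearMap.trace ℂ V X = ∑ i, b.coord i (X (b i)) := by
    intro X
    rw [LinearMap.trace_eq_matrix_trace ℂ b, Matrix.trace]
    refine Finset.sum_congr rfl fun i _ => ?_
    rw [Matrix.diag_apply, LinearMap.toMatrix_apply]
    rfl
  -- apply the averaging formula to `A = coord i (·) • v`
  have key : ∀ i, (finrank ℂ V : ℂ) • ∑ g : G, b.coord i (ρ g⁻¹ (T (b i))) • ρ g v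
      = ((Fintype.card G : ℂ) * b.coord i v) • T (b i) := by
    intro i
    have h1 := sum_conj_eq ρ h ((b.coord i).smulRight v)
    have h2 := LinearMap.congr_fun h1 (T (b i))
    have h3 : LinearMap.trace ℂ V ((b.coord i).smulRight v) = b.coord i v := by
      rw [LinearMap.trace_smulRight]
    rw [h3] at h2
    simp only [LinearMap.smul_apply, LinearMap.sum_apply, LinearMap.comp_apply,
      LinearMap.smulRight_apply, LinearMap.id_apply, map_smul] at h2
    exact h2
  have h4 : ∑ g : G, LinearMap.trace ℂ V (ρ g⁻¹ ∘ₗ T) • ρ g v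
      = ∑ i, ∑ g : G, b.coord i (ρ g⁻¹ (T (b i))) • ρ g v := by
    rw [Finset.sum_comm]
    refine Finset.sum_congr rfl fun g _ => ?_
    rw [htr, Finset.sum_smul]
    rfl
  rw [h4, Finset.smul_sum, Finset.sum_congr rfl fun i _ => key i]
  have h5 : T v = ∑ i, b.coord i v • T (b i) := by
    conv_lhs => rw [← b.sum_repr v, map_sum]
    refine Finset.sum_congr rfl fun i _ => ?_
    rw [map_smul]
    rfl
  rw [h5, Finset.smul_sum]
  refine Finset.sum_congr rfl fun i _ => ?_
  rw [mul_smul]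

omit [FiniteDimensional ℂ V] [Fintype G] in
/-- An irreducible representation with a nonzero invariant vector is trivial of dimension one. -/
theorem eq_smul_of_invariant (ρ : Representation ℂ G V) (h : ρ.IsIrreducible) (w : V)
    (hw : ∀ g, ρ g w = w) (hw0 : w ≠ 0) (v : V) : ∃ z : ℂ, z • w = v := by
  have := h
  let F : IntertwiningMap (Representation.trivial ℂ G ℂ) ρ :=
    ⟨LinearMap.toSpanSingleton ℂ V w, by
      intro g
      ext
      simp [hw]⟩
  rcases IsIrreducible.surjective_or_eq_zero (ρ := ρ) F with h1 | h1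
  · obtain ⟨z, hz⟩ := h1 v
    exact ⟨z, hz⟩
  · exfalso
    have h2 : F 1 = 0 := by rw [h1]; rfl
    have h3 : F 1 = w := by
      show (1 : ℂ) • w = w
      exact one_smul ℂ w
    exact hw0 (h3.symm.trans h2)

omit [Fintype G] in
theorem character_eq_one_of_invariant (ρ : Representation ℂ G V) (h : ρ.IsIrreducible) (w : V)
    (hw : ∀ g, ρ g w = w) (hw0 : w ≠ 0) : ρ.character = fun _ => 1 := by
  have h1 := eq_smul_of_invariant ρ h w hw hw0
  have h2 : finrank ℂ V = 1 := finrank_eq_one w hw0 h1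
  funext g
  have h3 : ρ g = LinearMap.id := by
    ext v
    obtain ⟨z, rfl⟩ := h1 v
    rw [map_smul, hw]
    rfl
  show LinearMap.trace ℂ V (ρ g) = 1
  rw [h3, LinearMap.trace_id, h2, Nat.cast_one]

end schur

/-- A fixed-point-free automorphism of a finite group fixes no non-principal irreducible
character. -/
theorem eq_one_of_fixedPointFree {K : Type*} [Group K] [Finite K] (σ : K ≃* K)
    (hσ : ∀ k, σ k = k → k = 1) (τ : K → ℂ) (hτ : IsIrrCharacter K τ)
    (hinv : ∀ k, τ (σ k) = τ k) : τ = fun _ => 1 := by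
  classical
  have : Fintype K := Fintype.ofFinite K
  have hcard : (Nat.card K : ℂ) ≠ 0 := by exact_mod_cast Nat.card_pos.ne'
  have : Invertible (Nat.card K : ℂ) := invertibleOfNonzero hcard
  obtain ⟨n, ρ, hρ, rfl⟩ := hτ
  have hρ' := hρ
  let ρ' : Representation ℂ K (Fin n → ℂ) := ρ.comp σ.toMonoidHom
  have hρ'c : ρ'.character = ρ.character := funext hinv
  -- a nonzero intertwining map
  have h1 : (finrank ℂ (IntertwiningMap ρ ρ') : ℂ) = finrank ℂ (IntertwiningMap ρ ρ) := by
    rw [← card_inv_mul_sum_char_mul_char_eq_finrank, ← card_inv_mul_sum_char_mul_char_eq_finrank,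
      hρ'c]
  rw [IsIrreducible.finrank_intertwiningMap_self] at h1
  have h2 : finrank ℂ (IntertwiningMap ρ ρ') = 1 := by exact_mod_cast h1
  have h3 : ∃ T : IntertwiningMap ρ ρ', T ≠ 0 := by
    have : Nontrivial (IntertwiningMap ρ ρ') := Module.nontrivial_of_finrank_pos (R := ℂ) (by omega)
    exact exists_ne 0
  obtain ⟨T, hT0⟩ := h3
  have hT : ∀ g, T.toLinearMap ∘ₗ ρ g = ρ (σ g) ∘ₗ T.toLinearMap := fun g => T.isIntertwining' g
  -- all the traces agree
  have hbij : Function.Bijective (fun x : K => x * (σ x)⁻¹) := by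
    refine Finite.injective_iff_bijective.mp ?_
    intro x y hxy
    have hxy' : x * (σ x)⁻¹ = y * (σ y)⁻¹ := hxy
    have h4 : σ (y⁻¹ * x) = y⁻¹ * x := by
      rw [map_mul, map_inv]
      calc (σ y)⁻¹ * σ x = y⁻¹ * (y * (σ y)⁻¹) * σ x := by group
        _ = y⁻¹ * (x * (σ x)⁻¹) * σ x := by rw [hxy']
        _ = y⁻¹ * x := by group
    exact (inv_mul_eq_one.mp (hσ _ h4)).symm
  have htr : ∀ k : K, LinearMap.trace ℂ _ (ρ k ∘ₗ T.toLinearMap)
      = LinearMap.trace ℂ _ T.toLinearMap := by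
    intro k
    obtain ⟨x, rfl⟩ := hbij.2 k
    have h4 : ρ (x * (σ x)⁻¹) ∘ₗ T.toLinearMap = ρ x ∘ₗ T.toLinearMap ∘ₗ ρ x⁻¹ := by
      rw [hT x⁻¹, map_mul ρ, map_inv σ]
      rfl
    show LinearMap.trace ℂ _ (ρ (x * (σ x)⁻¹) ∘ₗ T.toLinearMap) = _
    rw [h4, LinearMap.trace_comp_comm', LinearMap.comp_assoc]
    have h5 : ρ x⁻¹ ∘ₗ ρ x = LinearMap.id := by
      have := map_mul ρ x⁻¹ x
      rw [inv_mul_cancel, map_one] at this
      exact this.symm
    rw [h5, LinearMap.comp_id]
  -- some sum is nonzero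
  by_contra hne
  apply hT0
  apply IntertwiningMap.ext
  refine LinearMap.ext fun v => ?_
  have h6 := sum_trace_smul ρ hρ T.toLinearMap v
  have h7 : ∑ g : K, LinearMap.trace ℂ _ (ρ g⁻¹ ∘ₗ T.toLinearMap) • ρ g v = 0 := by
    rw [Finset.sum_congr rfl fun g _ => by rw [htr g⁻¹], ← Finset.smul_sum]
    by_cases h8 : ∑ g : K, ρ g v = 0
    · rw [h8, smul_zero]
    · exfalso
      refine hne (character_eq_one_of_invariant ρ hρ (∑ g : K, ρ g v) ?_ h8)
      intro x
      rw [map_sum]
      refine Fintype.sum_equiv (Equiv.mulLeft x) _ _ fun g => ?_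
      simp only [Equiv.coe_mulLeft, map_mul, Module.End.mul_apply]
  rw [h7, smul_zero] at h6
  have h9 : (Fintype.card K : ℂ) ≠ 0 := by
    rw [Fintype.card_eq_nat_card]
    exact hcard
  exact (smul_eq_zero.mp h6.symm).resolve_left h9

end Cfsg.Agent.Characters.FixedPointFree
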