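import Mathlib
import Cfsg.Prelude.Def_Characters
import Cfsg.Agent.Characters.Core
import Cfsg.Agent.Characters.Central
set_option linter.all false

/-!
# The class algebra identity for products of two involutions

`t` is an involution of `G`, all involutions of `G` are conjugate to `t`, `C = C_G(t)`, and `α` is a
function on `C` vanishing at all elements having no power equal to `t`.
-/

set_option autoImplicit false
open Cfsg

namespace Cfsg.Agent.Characters.CentInvClassAlg

open Cfsg.Agent.Characters.Core Cfsg.Agent.Characters.Central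

theorem sum_conj_eq {G : Type*} [Group G] [Fintype G] (t : G)
    (hconj : ∀ x : G, orderOf x = 2 → IsConj t x) (ht : orderOf t = 2)
    [DecidablePred (fun x : G => orderOf x = 2)] (f : G → ℂ) :
    ∑ a : G, f (a * t * a⁻¹) =
      (Nat.card (Subgroup.centralizer ({t} : Set G)) : ℂ) * ∑ x : G, if orderOf x = 2 then f x else 0 := by
  classical
  have h1 : ∑ a : G, f (a * t * a⁻¹) =
      ∑ x : G, ∑ a ∈ Finset.univ.filter (fun a : G => a * t * a⁻¹ = x), f x := by
    rw [← Finset.sum_fiberwise_of_maps_to (s := Finset.univ) (t := Finset.univ)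
      (g := fun a : G => a * t * a⁻¹) (fun _ _ => Finset.mem_univ _)]
    refine Finset.sum_congr rfl fun x _ => Finset.sum_congr rfl fun a ha => ?_
    rw [(Finset.mem_filter.1 ha).2]
  rw [h1, Finset.mul_sum]
  refine Finset.sum_congr rfl fun x _ => ?_
  rw [Finset.sum_const, nsmul_eq_mul]
  split_ifs with hx
  · congr 1
    norm_cast
    obtain ⟨b, hb⟩ := isConj_iff.1 (hconj x hx)
    rw [← Fintype.card_subtype, ← Nat.card_eq_fintype_card]
    refine Nat.card_congr ?_
    refine ⟨fun a => ⟨b⁻¹ * a.1, ?_⟩, fun c => ⟨b * c.1, ?_⟩, fun a => ?_, fun c => ?_⟩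
    · rw [Subgroup.mem_centralizer_singleton_iff]
      have ha : a.1 * t * a.1⁻¹ = b * t * b⁻¹ := a.2.trans hb.symm
      have h2 : b⁻¹ * (a.1 * t * a.1⁻¹) * b = t := by rw [ha]; group
      calc b⁻¹ * a.1 * t = (b⁻¹ * (a.1 * t * a.1⁻¹) * b) * (b⁻¹ * a.1) := by group
        _ = t * (b⁻¹ * a.1) := by rw [h2]
    · have hc := Subgroup.mem_centralizer_singleton_iff.1 c.2
      rw [← hb]
      calc b * c.1 * t * (b * c.1)⁻¹ = b * (c.1 * t) * c.1⁻¹ * b⁻¹ := by group
        _ = b * t * b⁻¹ := by rw [hc]; group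
    · apply Subtype.ext; simp
    · apply Subtype.ext; simp
  · rw [Finset.filter_false_of_mem, Finset.card_empty]
    · simp
    · intro a _ ha
      apply hx
      rw [← ha, ← ht]
      exact orderOf_injective (MulAut.conj a).toMonoidHom (MulAut.conj a).injective t

/-- products of two involutions whose product has a power equal to `t` take place in `C_G(t)`. -/
theorem mem_centralizer_of_mul {G : Type*} [Group G] {t : G} (ht : orderOf t = 2) {x y : G}
    (hx : orderOf x = 2) (hy : orderOf y = 2) {k : ℕ} (hk : (x * y) ^ k = t) :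
    x ∈ Subgroup.centralizer ({t} : Set G) ∧ y ∈ Subgroup.centralizer ({t} : Set G) := by
  have htt : t⁻¹ = t := by
    have : t * t = 1 := by rw [← pow_two, ← ht, pow_orderOf_eq_one]
    exact inv_eq_of_mul_eq_one_left this
  have hxx : x * x = 1 := by rw [← pow_two, ← hx, pow_orderOf_eq_one]
  have hyy : y * y = 1 := by rw [← pow_two, ← hy, pow_orderOf_eq_one]
  have hxi : x⁻¹ = x := inv_eq_of_mul_eq_one_left hxx
  have hyi : y⁻¹ = y := inv_eq_of_mul_eq_one_left hyy
  have h1 : x * (x * y) * x⁻¹ = (x * y)⁻¹ := by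
    rw [mul_inv_rev, hxi, hyi, ← mul_assoc x x y, hxx, one_mul]
  have h2 : x * t * x⁻¹ = t := by
    rw [← hk, ← conj_pow, h1, inv_pow, hk, htt]
  have hxC : x ∈ Subgroup.centralizer ({t} : Set G) := by
    rw [Subgroup.mem_centralizer_singleton_iff]
    calc x * t = x * t * x⁻¹ * x := by group
      _ = t * x := by rw [h2]
  refine ⟨hxC, ?_⟩
  have hxyC : x * y ∈ Subgroup.centralizer ({t} : Set G) := by
    rw [Subgroup.mem_centralizer_singleton_iff, ← hk]
    exact (pow_mul_comm' (x * y) k).symm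
  have := Subgroup.mul_mem _ (Subgroup.inv_mem _ hxC) hxyC
  rwa [inv_mul_cancel_left] at this

theorem class_algebra_aux {G : Type*} [Group G] [Fintype G] [Fintype (IrrCharacter G)] (t : G)
    (ht : orderOf t = 2) (hconj : ∀ x : G, orderOf x = 2 → IsConj t x) (C : Subgroup G)
    (hC : C = Subgroup.centralizer ({t} : Set G)) [Fintype C]
    [∀ x : C, Decidable (orderOf x = 2)] (α : C → ℂ)
    (hα0 : ∀ h, α h ≠ 0 → ∃ k : ℕ, (h : G) ^ k = t) (m : IrrCharacter G → ℤ)
    (hm : Cfsg.indFun _ α = ∑ χ : IrrCharacter G, m χ • (χ : G → ℂ)) :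
    (Nat.card G : ℂ) * ∑ χ : IrrCharacter G, (m χ : ℂ) * ((χ : G → ℂ) t ^ 2 / (χ : G → ℂ) 1) =
      (Nat.card C : ℂ) * ∑ x : C, ∑ y : C,
        if orderOf x = 2 ∧ orderOf y = 2 then α (x * y) else 0 := by
  classical
  have hcG : (Nat.card G : ℂ) ≠ 0 := by exact_mod_cast Nat.card_pos.ne'
  have hcC : (Nat.card C : ℂ) ≠ 0 := by exact_mod_cast Nat.card_pos.ne'
  have hcard : Nat.card C = Nat.card (Subgroup.centralizer ({t} : Set G)) := by rw [hC]
  -- first evaluation
  have X1 : ∑ b : G, ∑ a : G, indFun C α (a * t * a⁻¹ * (b * t * b⁻¹)) =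
      (Nat.card G : ℂ) * ((Nat.card G : ℂ) * ∑ χ : IrrCharacter G, (m χ : ℂ) * ((χ : G → ℂ) t ^ 2 / (χ : G → ℂ) 1)) := by
    have e1 : ∀ b a : G, indFun C α (a * t * a⁻¹ * (b * t * b⁻¹)) =
        ∑ χ : IrrCharacter G, (m χ : ℂ) * (χ : G → ℂ) (a * t * a⁻¹ * (b * t * b⁻¹)) := by
      intro b a
      rw [hm, Finset.sum_apply]
      refine Finset.sum_congr rfl fun χ _ => ?_
      rw [Pi.smul_apply, zsmul_eq_mul]
    simp_rw [e1]
    have e2 : ∀ b : G, ∑ a : G, ∑ χ : IrrCharacter G, (m χ : ℂ) * (χ : G → ℂ) (a * t * a⁻¹ * (b * t * b⁻¹)) =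
        ∑ χ : IrrCharacter G, (m χ : ℂ) * ((Nat.card G : ℂ) * ((χ : G → ℂ) t ^ 2 / (χ : G → ℂ) 1)) := by
      intro b
      rw [Finset.sum_comm]
      refine Finset.sum_congr rfl fun χ _ => ?_
      rw [← Finset.mul_sum, sum_char_conj_mul χ.2, isIrr_isClassFunction χ.2 t b]
      ring
    simp_rw [e2]
    rw [Finset.sum_const, Finset.card_univ, nsmul_eq_mul, ← Nat.card_eq_fintype_card]
    congr 1
    rw [Finset.mul_sum]
    refine Finset.sum_congr rfl fun χ _ => ?_
    ring
  -- second evaluation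
  have X2 : ∑ b : G, ∑ a : G, indFun C α (a * t * a⁻¹ * (b * t * b⁻¹)) =
      (Nat.card C : ℂ)⁻¹ * ((Nat.card G : ℂ) *
        ∑ b : G, ∑ a : G, extendByZero C α (a * t * a⁻¹ * (b * t * b⁻¹))) := by
    have e1 : ∀ b a : G, indFun C α (a * t * a⁻¹ * (b * t * b⁻¹)) =
        (Nat.card C : ℂ)⁻¹ * ∑ g : G, extendByZero C α (g⁻¹ * (a * t * a⁻¹ * (b * t * b⁻¹)) * g) :=
      fun b a => rfl
    simp_rw [e1, ← Finset.mul_sum]
    congr 1
    have e2 : ∀ b : G, ∑ a : G, ∑ g : G, extendByZero C α (g⁻¹ * (a * t * a⁻¹ * (b * t * b⁻¹)) * g) =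
        ∑ g : G, ∑ a : G, extendByZero C α (g⁻¹ * (a * t * a⁻¹ * (b * t * b⁻¹)) * g) :=
      fun b => Finset.sum_comm
    simp_rw [e2]
    rw [Finset.sum_comm]
    have e3 : ∀ g : G, ∑ b : G, ∑ a : G, extendByZero C α (g⁻¹ * (a * t * a⁻¹ * (b * t * b⁻¹)) * g) =
        ∑ b : G, ∑ a : G, extendByZero C α (a * t * a⁻¹ * (b * t * b⁻¹)) := by
      intro g
      refine Fintype.sum_equiv (Equiv.mulLeft g⁻¹) _ _ fun b => ?_
      refine Fintype.sum_equiv (Equiv.mulLeft g⁻¹) _ _ fun a => ?_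
      congr 1
      simp only [Equiv.coe_mulLeft]
      group
    simp_rw [e3]
    rw [Finset.sum_const, Finset.card_univ, nsmul_eq_mul, ← Nat.card_eq_fintype_card]
  -- reduce to involutions
  have X3 : ∑ b : G, ∑ a : G, extendByZero C α (a * t * a⁻¹ * (b * t * b⁻¹)) =
      (Nat.card C : ℂ) * ((Nat.card C : ℂ) * ∑ y : G, ∑ x : G,
        if orderOf x = 2 ∧ orderOf y = 2 then extendByZero C α (x * y) else 0) := by
    have e1 : ∀ b : G, ∑ a : G, extendByZero C α (a * t * a⁻¹ * (b * t * b⁻¹)) =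
        (Nat.card C : ℂ) * ∑ x : G, if orderOf x = 2 then extendByZero C α (x * (b * t * b⁻¹)) else 0 := by
      intro b
      rw [hcard]
      exact sum_conj_eq t hconj ht (fun x => extendByZero C α (x * (b * t * b⁻¹)))
    simp_rw [e1, ← Finset.mul_sum]
    congr 1
    rw [sum_conj_eq t hconj ht (fun y => ∑ x : G, if orderOf x = 2 then extendByZero C α (x * y) else 0),
      ← hcard]
    congr 1
    refine Finset.sum_congr rfl fun y _ => ?_
    split_ifs with hy
    · refine Finset.sum_congr rfl fun x _ => ?_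
      simp [hy]
    · symm
      refine Finset.sum_eq_zero fun x _ => ?_
      simp [hy]
  have hext : ∀ h : C, extendByZero C α (h : G) = α h := fun h =>
    Subtype.val_injective.extend_apply α 0 h
  have hext0 : ∀ g : G, g ∉ C → extendByZero C α g = 0 := fun g hg =>
    Function.extend_apply' _ _ _ (by rintro ⟨a, rfl⟩; exact hg a.2)
  have hne : ∀ x y : G, orderOf x = 2 → orderOf y = 2 → extendByZero C α (x * y) ≠ 0 → x ∈ C ∧ y ∈ C := by
    intro x y hx hy h
    by_cases hxy : x * y ∈ C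
    · have h' := hext ⟨x * y, hxy⟩
      rw [h'] at h
      obtain ⟨k, hk⟩ := hα0 _ h
      rw [hC]
      exact mem_centralizer_of_mul ht hx hy hk
    · exact absurd (hext0 _ hxy) h
  have X4 : (∑ y : G, ∑ x : G, if orderOf x = 2 ∧ orderOf y = 2 then extendByZero C α (x * y) else 0) =
      ∑ x : C, ∑ y : C, if orderOf x = 2 ∧ orderOf y = 2 then α (x * y) else 0 := by
    have hsub : ∀ F : G → ℂ, (∀ g, g ∉ C → F g = 0) → ∑ g : G, F g = ∑ c : C, F c := by
      intro F hF
      rw [← Finset.sum_filter_add_sum_filter_not Finset.univ (fun g => g ∈ C),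
        Finset.sum_eq_zero (s := Finset.univ.filter (fun g => ¬ g ∈ C)), add_zero]
      · exact Finset.sum_subtype _ (by simp) _
      · intro g hg
        exact hF g (by simpa using hg)
    rw [Finset.sum_comm, hsub]
    · refine Finset.sum_congr rfl fun x _ => ?_
      rw [hsub]
      · refine Finset.sum_congr rfl fun y _ => ?_
        rw [← Subgroup.coe_mul, hext, Subgroup.orderOf_coe, Subgroup.orderOf_coe]
        split_ifs <;> rfl
      · intro y hy
        by_contra hcon
        split_ifs at hcon with h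
        · exact hy (hne _ _ h.1 h.2 hcon).2
        · exact hcon rfl
    · intro x hx
      refine Finset.sum_eq_zero fun y _ => ?_
      by_contra hcon
      split_ifs at hcon with h
      · exact hx (hne _ _ h.1 h.2 hcon).1
      · exact hcon rfl
  rw [← X4]
  have key : (Nat.card G : ℂ) * ((Nat.card G : ℂ) * ∑ χ : IrrCharacter G, (m χ : ℂ) * ((χ : G → ℂ) t ^ 2 / (χ : G → ℂ) 1)) =
      (Nat.card G : ℂ) * ((Nat.card C : ℂ) * ∑ y : G, ∑ x : G,
        if orderOf x = 2 ∧ orderOf y = 2 then extendByZero C α (x * y) else 0) := by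
    rw [← X1, X2, X3]
    field_simp
  exact mul_left_cancel₀ hcG key

theorem class_algebra {G : Type*} [Group G] [Fintype G] [Fintype (IrrCharacter G)] (t : G) (ht : orderOf t = 2) (hconj : ∀ x : G, orderOf x = 2 → IsConj t x) [Fintype (Subgroup.centralizer ({t} : Set G))] [∀ x : Subgroup.centralizer ({t} : Set G), Decidable (orderOf x = 2)] (α : Subgroup.centralizer ({t} : Set G) → ℂ) (hα0 : ∀ h, α h ≠ 0 → ∃ k : ℕ, (h : G) ^ k = t) (m : IrrCharacter G → ℤ) (hm : Cfsg.indFun _ α = ∑ χ : IrrCharacter G, m χ • (χ : G → ℂ)) : (Nat.card G : ℂ) * ∑ χ : IrrCharacter G, (m χ : ℂ) * ((χ : G → ℂ) t ^ 2 / (χ : G → ℂ) 1) = (Nat.card (Subgroup.centralizer ({t} : Set G)) : ℂ) * ∑ x : Subgroup.centralizer ({t} : Set G), ∑ y : Subgroup.centralizer ({t} : Set G), if orderOf x = 2 ∧ orderOf y = 2 then α (x * y) else 0 :=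
  class_algebra_aux t ht hconj _ rfl α hα0 m hm

end Cfsg.Agent.Characters.CentInvClassAlg
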