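import Cfsg.Agent.Characters.CCEstimates
import Cfsg.Agent.S0161
set_option linter.all false

/-!
# Two CC-subgroups, and counting the elements conjugate into a CC-subgroup
-/

set_option autoImplicit false

open scoped ComplexConjugate
open Cfsg

namespace Cfsg.Agent.Characters.CCCounting

open CCBasic CCOrbit CCInduce CCExceptional CCValues CCEstimates CharactersDeep.NormalInd

universe u

variable {G : Type u} [Group G] {A B : Subgroup G}

/-- `y` is conjugate to a nonidentity element of `A`. -/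
def InConj (A : Subgroup G) (y : G) : Prop := ∃ x ∈ A, x ≠ 1 ∧ IsConj x y

theorem one_not_inConj (A : Subgroup G) : ¬ InConj A (1 : G) := by
  rintro ⟨x, _, h1, h2⟩
  exact h1 (isConj_one_left.1 h2)

section fiber

variable [Fintype G] [DecidableEq G]

theorem card_fiber (hA : IsCC A) {y : G} (hy : InConj A y) [Fintype A] :
    ((Finset.univ ×ˢ (Finset.univ.filter (fun a : A => a ≠ 1))).filter
      (fun p : G × A => p.1 * p.2 * p.1⁻¹ = y)).card =
      Nat.card (Subgroup.normalizer (A : Set G)) := by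
  classical
  have : Fintype (Subgroup.normalizer (A : Set G)) := Fintype.ofFinite _
  rw [Nat.card_eq_fintype_card, ← Finset.card_univ (α := Subgroup.normalizer (A : Set G))]
  obtain ⟨a₀, ha₀, ha₁, hc⟩ := hy
  obtain ⟨g₀, hg₀⟩ := isConj_iff.1 hc
  refine Finset.card_bij' (fun p _ => (⟨p.1⁻¹ * g₀, ?_⟩ : Subgroup.normalizer (A : Set G)))
    (fun x _ => (g₀ * (x : G)⁻¹, A.normalizerMonoidHom x ⟨a₀, ha₀⟩)) ?_ ?_ ?_ ?_
  · rename_i hp
    rw [Finset.mem_filter] at hp
    apply hA.ti ha₀ ha₁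
    have h1 : p.1⁻¹ * g₀ * a₀ * (p.1⁻¹ * g₀)⁻¹ = (p.2 : G) := by
      rw [← hg₀] at hp
      have h2 := hp.2
      have h3 : p.1⁻¹ * g₀ * a₀ * (p.1⁻¹ * g₀)⁻¹ = p.1⁻¹ * (g₀ * a₀ * g₀⁻¹) * p.1 := by group
      rw [h3, ← h2]
      group
    rw [h1]
    exact p.2.2
  · intro p _
    exact Finset.mem_univ _
  · intro x _
    rw [Finset.mem_filter, Finset.mem_product, Finset.mem_filter]
    refine ⟨⟨Finset.mem_univ _, Finset.mem_univ _, ?_⟩, ?_⟩
    · intro h
      apply ha₁
      have h1 := (A.normalizerMonoidHom x).map_eq_one_iff.1 h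
      exact congrArg Subtype.val h1
    · show g₀ * (x : G)⁻¹ * ((A.normalizerMonoidHom x ⟨a₀, ha₀⟩ : A) : G) * (g₀ * (x : G)⁻¹)⁻¹ = y
      rw [coe_nmh, ← hg₀]
      group
  · intro p hp
    rw [Finset.mem_filter] at hp
    have h2 := hp.2
    rw [← hg₀] at h2
    apply Prod.ext
    · show g₀ * (p.1⁻¹ * g₀)⁻¹ = p.1
      group
    · apply Subtype.ext
      show p.1⁻¹ * g₀ * a₀ * (p.1⁻¹ * g₀)⁻¹ = (p.2 : G)
      have h3 : p.1⁻¹ * g₀ * a₀ * (p.1⁻¹ * g₀)⁻¹ = p.1⁻¹ * (g₀ * a₀ * g₀⁻¹) * p.1 := by group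
      rw [h3, ← h2]
      group
  · intro x _
    apply Subtype.ext
    show (g₀ * (x : G)⁻¹)⁻¹ * g₀ = x
    group

end fiber

open scoped Classical in
/-- Summing a class function over the elements conjugate into `A#`. -/
theorem sum_inConj [Fintype G] (hA : IsCC A) [Fintype A] (f : G → ℝ)
    (hf : ∀ g h, f (h * g * h⁻¹) = f g) :
    (Nat.card (Subgroup.normalizer (A : Set G)) : ℝ) *
      ∑ y ∈ Finset.univ.filter (fun y : G => InConj A y), f y =
    Nat.card G * ∑ a ∈ Finset.univ.filter (fun a : A => a ≠ 1), f a := by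
  have h1 : ∑ p ∈ (Finset.univ : Finset G) ×ˢ (Finset.univ.filter (fun a : A => a ≠ 1)),
      f (p.1 * p.2 * p.1⁻¹) =
      Nat.card G * ∑ a ∈ Finset.univ.filter (fun a : A => a ≠ 1), f a := by
    rw [Finset.sum_product]
    simp only [hf]
    rw [Finset.sum_const, Finset.card_univ, nsmul_eq_mul, Nat.card_eq_fintype_card]
  rw [← h1, ← Finset.sum_fiberwise_of_maps_to
    (g := fun p : G × A => p.1 * (p.2 : G) * p.1⁻¹)
    (t := Finset.univ.filter (fun y : G => InConj A y)), Finset.mul_sum]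
  · refine Finset.sum_congr rfl (fun y hy => ?_)
    have hy' : InConj A y := (Finset.mem_filter.1 hy).2
    rw [Finset.sum_congr rfl (g := fun _ => f y)
      (fun p hp => by rw [(Finset.mem_filter.1 hp).2]), Finset.sum_const, nsmul_eq_mul,
      card_fiber hA hy']
  · intro p hp
    rw [Finset.mem_filter]
    rw [Finset.mem_product, Finset.mem_filter] at hp
    refine ⟨Finset.mem_univ _, p.2, p.2.2, fun h => hp.2.2 (Subtype.ext h), ?_⟩
    rw [isConj_iff]
    exact ⟨p.1, rfl⟩

open scoped Classical in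
theorem card_inConj [Fintype G] (hA : IsCC A) :
    (Nat.card (Subgroup.normalizer (A : Set G)) : ℝ) *
      (Finset.univ.filter (fun y : G => InConj A y)).card =
    Nat.card G * (Nat.card A - 1) := by
  have : Fintype A := Fintype.ofFinite _
  have h := sum_inConj hA (fun _ => (1 : ℝ)) (fun _ _ => rfl)
  rw [Finset.sum_const, Finset.sum_const, nsmul_eq_mul, nsmul_eq_mul, mul_one, mul_one] at h
  rw [h]
  congr 1
  rw [Finset.filter_ne', Finset.card_erase_of_mem (Finset.mem_univ _), Finset.card_univ,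
    Nat.card_eq_fintype_card, Nat.cast_sub Fintype.card_pos]
  simp

/-- If `A` and `B` share conjugate nonidentity elements, then they are conjugate. -/
theorem map_conj_eq (hA : IsCC A) (hB : IsCC B) {x : G} (hx : x ∈ A) (hx1 : x ≠ 1) {g : G}
    (h : g * x * g⁻¹ ∈ B) : A.map (MulAut.conj g).toMonoidHom = B := by
  have h1 : g * x * g⁻¹ ≠ 1 := by
    intro h
    apply hx1
    have := congrArg (fun y => g⁻¹ * y * g) h
    simpa [mul_assoc] using this
  rw [← hA.cent x hx hx1, ← hB.cent _ h h1]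
  ext y
  rw [Subgroup.mem_map_equiv, Subgroup.mem_centralizer_singleton_iff,
    Subgroup.mem_centralizer_singleton_iff]
  simp only [MulAut.conj_symm_apply]
  constructor
  · intro h2
    have h3 := congrArg (fun z => g * z * g⁻¹) h2
    simp only [mul_assoc, mul_inv_cancel_left, mul_inv_cancel, mul_one] at h3
    simp only [mul_assoc]
    exact h3
  · intro h2
    have h3 := congrArg (fun z => g⁻¹ * z * g) h2
    simp only [mul_assoc, inv_mul_cancel_left, inv_mul_cancel, mul_one] at h3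
    simp only [mul_assoc]
    exact h3

theorem card_eq_of_conj (hA : IsCC A) (hB : IsCC B) {x y : G} (hx : x ∈ A) (hx1 : x ≠ 1)
    (hy : y ∈ B) (hxy : IsConj x y) :
    Nat.card A = Nat.card B ∧ Nat.card (Subgroup.normalizer (A : Set G)) =
      Nat.card (Subgroup.normalizer (B : Set G)) := by
  obtain ⟨g, rfl⟩ := isConj_iff.1 hxy
  have h := map_conj_eq hA hB hx hx1 hy
  constructor
  · rw [← h]
    exact Nat.card_congr (A.equivMapOfInjective _ (MulAut.conj g).injective).toEquiv
  · rw [← h, ← Subgroup.map_equiv_normalizer_eq]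
    exact Nat.card_congr ((Subgroup.normalizer (A : Set G)).equivMapOfInjective _
      (MulAut.conj g).injective).toEquiv

theorem inConj_of_conj (hA : IsCC A) (hB : IsCC B) {x y : G} (hx : x ∈ A) (hx1 : x ≠ 1)
    (hy : y ∈ B) (hxy : IsConj x y) {z : G} (hz : z ∈ B) (hz1 : z ≠ 1) : InConj A z := by
  obtain ⟨g, rfl⟩ := isConj_iff.1 hxy
  have h := map_conj_eq hA hB hx hx1 hy
  rw [← h] at hz
  obtain ⟨w, hw, rfl⟩ := hz
  refine ⟨w, hw, ?_, ?_⟩
  · rintro rfl
    apply hz1
    simp
  · rw [isConj_iff]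
    exact ⟨g, rfl⟩

variable [Fintype G]

theorem disjoint_exceptional (hodd : Odd (Nat.card G)) (hA : IsCC A) (hB : IsCC B) (X : Exc A)
    (Y : Exc B) (hAB : ∀ x ∈ A, x ≠ 1 → ∀ y ∈ B, ¬ IsConj x y) (l : NP A) (m : NP B) :
    X.E l ≠ Y.E m := by
  classical
  have : Fintype A := Fintype.ofFinite _
  intro h
  obtain ⟨l', hl'⟩ := exists_not_rel hodd hA l
  obtain ⟨m', hm'⟩ := exists_not_rel hodd hB m
  have hl : X.E l ≠ X.E l' := fun h => hl' ((X.E_iff l l').1 h)
  have hm : Y.E m ≠ Y.E m' := fun h => hm' ((Y.E_iff m m').1 h)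
  have hm1 : ((m.1 : B → ℂ) - (m'.1 : B → ℂ)) 1 = 0 := by
    rw [Pi.sub_apply, irr_apply_one_of_comm (comm_coe hB) m.1.2,
      irr_apply_one_of_comm (comm_coe hB) m'.1.2, sub_self]
  have h1 : classInner (indFun A ((l.1 : A → ℂ) - (l'.1 : A → ℂ)))
      (indFun B ((m.1 : B → ℂ) - (m'.1 : B → ℂ))) = 0 := by
    rw [classInner_indFun A _ _ (indFun_isClassFunction B _), Core.classInner_def]
    rw [Finset.sum_eq_zero, mul_zero]
    intro a _
    have h2 : indFun B ((m.1 : B → ℂ) - (m'.1 : B → ℂ)) (a : G) = 0 := by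
      by_cases ha : (a : G) = 1
      · rw [ha, indFun_one, hm1, mul_zero]
      · apply indFun_eq_zero_of_not_conj hm1
        intro x _ hxB hxa
        exact hAB a a.2 ha x hxB hxa.symm
    rw [h2]
    simp
  rw [indFun_sub, indFun_sub, X.ind, Y.ind, Core.classInner_smul_left,
    Core.classInner_smul_right, Core.classInner_sub_left, Core.classInner_sub_right,
    Core.classInner_sub_right, h, Core.classInner_irr_self (Y.E m).2,
    Core.classInner_irr_ne (Y.E m).2 (Y.E m').2 (fun h => hm (Subtype.ext h)),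
    Core.classInner_irr_ne (X.E l').2 (Y.E m).2
      (fun h' => hl (h.trans (Subtype.ext h').symm)), Core.classInner_irr (X.E l').2 (Y.E m').2,
    map_intCast] at h1
  have h3 : (X.ε : ℂ) ≠ 0 := by
    rcases X.hε with h | h <;> rw [h] <;> norm_num
  have h4 : (Y.ε : ℂ) ≠ 0 := by
    rcases Y.hε with h | h <;> rw [h] <;> norm_num
  have h5 := (mul_eq_zero.1 ((mul_eq_zero.1 h1).resolve_left h3)).resolve_left h4
  split_ifs at h5 <;> norm_num at h5

theorem apply_eq_of_not_inConj (hA : IsCC A) (X : Exc A) (l m : NP A) {y : G}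
    (hy : ¬ InConj A y) : (X.E l : G → ℂ) y = (X.E m : G → ℂ) y := by
  have hm1 : ((l.1 : A → ℂ) - (m.1 : A → ℂ)) 1 = 0 := by
    rw [Pi.sub_apply, irr_apply_one_of_comm (comm_coe hA) m.1.2,
      irr_apply_one_of_comm (comm_coe hA) l.1.2, sub_self]
  have h1 : indFun A ((l.1 : A → ℂ) - (m.1 : A → ℂ)) y = 0 := by
    apply indFun_eq_zero_of_not_conj hm1
    intro x hx1 hx hc
    exact hy ⟨x, hx, hx1, hc⟩
  rw [indFun_sub, X.ind, Pi.smul_apply, Pi.sub_apply, smul_eq_mul] at h1
  have h3 : (X.ε : ℂ) ≠ 0 := by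
    rcases X.hε with h | h <;> rw [h] <;> norm_num
  exact sub_eq_zero.1 ((mul_eq_zero.1 h1).resolve_left h3)

/-- The parity argument. -/
theorem parity (hodd : Odd (Nat.card G)) (hA : IsCC A) (hB : IsCC B) (X : Exc A)
    (Y : Exc B) (hAB : ∀ x ∈ A, x ≠ 1 → ∀ y ∈ B, ¬ IsConj x y) (l : NP A) (m : NP B)
    {x y : G} (hx : x ∈ A) (hx1 : x ≠ 1) (hy : y ∈ B) (hy1 : y ≠ 1)
    (h1 : (X.E l : G → ℂ) y = 0) (h2 : (Y.E m : G → ℂ) x = 0) : False := by
  classical
  have : Fintype A := Fintype.ofFinite _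
  have : Fintype B := Fintype.ofFinite _
  have : Finite (IrrCharacter G) := Core.finite_irr
  have : Fintype (IrrCharacter G) := Fintype.ofFinite _
  have hyA : ¬ InConj A y := by
    rintro ⟨z, hz, hz1, hc⟩
    exact hAB z hz hz1 y hy hc
  have hxB : ¬ InConj B x := by
    rintro ⟨z, hz, hz1, hc⟩
    exact hAB x hx hx1 z hz hc.symm
  have hint : ∀ φ : IrrCharacter G, ∃ k : ℤ, (φ : G → ℂ) x * conj ((φ : G → ℂ) y) = k := by
    intro φ
    by_cases hφA : ∃ l', φ = X.E l'
    · obtain ⟨l', rfl⟩ := hφA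
      refine ⟨0, ?_⟩
      rw [apply_eq_of_not_inConj hA X l' l hyA, h1]
      simp
    · by_cases hφB : ∃ m', φ = Y.E m'
      · obtain ⟨m', rfl⟩ := hφB
        refine ⟨0, ?_⟩
        rw [apply_eq_of_not_inConj hB Y m' m hxB, h2]
        simp
      · push Not at hφA hφB
        obtain ⟨c, hc⟩ := apply_eq_of_not_exceptional hA X hφA
        obtain ⟨d, hd⟩ := apply_eq_of_not_exceptional hB Y hφB
        refine ⟨c * d, ?_⟩
        have h3 : (φ : G → ℂ) x = c := hc ⟨x, hx⟩ (fun h => hx1 (congrArg Subtype.val h))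
        have h4 : (φ : G → ℂ) y = d := hd ⟨y, hy⟩ (fun h => hy1 (congrArg Subtype.val h))
        rw [h3, h4, map_intCast]
        push_cast
        rfl
  choose k hk using hint
  have hsum : ∑ φ : IrrCharacter G, k φ = 0 := by
    have h := (Cfsg.Agent.S0145.result x y).2 (hAB x hx hx1 y hy)
    rw [finsum_eq_sum_of_fintype, Finset.sum_congr rfl (fun φ _ => hk φ)] at h
    exact_mod_cast h
  have hone : k (one G) = 1 := by
    have h := hk (one G)
    rw [coe_one] at h
    simp only [Pi.one_apply, map_one, mul_one] at h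
    exact_mod_cast h.symm
  let cc : IrrCharacter G → IrrCharacter G :=
    fun φ => ⟨fun g => conj ((φ : G → ℂ) g), Core.isIrr_conj φ.2⟩
  have hcc : ∀ φ, cc (cc φ) = φ := by
    intro φ
    apply Subtype.ext
    funext g
    exact Complex.conj_conj _
  have hkc : ∀ φ, k (cc φ) = k φ := by
    intro φ
    have h := hk (cc φ)
    have h' := congrArg conj (hk φ)
    rw [map_mul, map_intCast] at h'
    have h3 : ((k (cc φ) : ℤ) : ℂ) = ((k φ : ℤ) : ℂ) := by
      rw [← h, ← h']
    exact_mod_cast h3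
  have hone' : cc (one G) = one G := by
    apply Subtype.ext
    funext g
    show conj (1 : ℂ) = 1
    simp
  have hfix : ∀ φ, cc φ = φ → φ = one G := by
    intro φ h
    apply Subtype.ext
    have h3 := Cfsg.Agent.S0161.result hodd φ (by
      intro g
      have h4 : conj ((φ : G → ℂ) g) = (φ : G → ℂ) g :=
        congrFun (congrArg Subtype.val h) g
      exact Complex.conj_eq_iff_im.1 h4)
    rw [h3]
    rfl
  have hmod : ((∑ φ : IrrCharacter G, k φ : ℤ) : ZMod 2) = 1 := by
    rw [← Finset.add_sum_erase Finset.univ _ (Finset.mem_univ (one G)), hone]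
    push_cast
    rw [Finset.sum_involution (s := Finset.univ.erase (one G)) (f := fun φ => ((k φ : ℤ) : ZMod 2))
      (fun φ _ => cc φ)]
    · simp
    · intro φ _
      rw [hkc φ]
      exact CharTwo.add_self_eq_zero _
    · intro φ hφ _ h
      exact (Finset.mem_erase.1 hφ).1 (hfix φ h)
    · intro φ hφ
      rw [Finset.mem_erase] at hφ ⊢
      refine ⟨fun h => hφ.1 ?_, Finset.mem_univ _⟩
      rw [← hcc φ, h, hone']
    · intro φ _
      exact hcc φ
  rw [hsum] at hmod
  simp at hmod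

end Cfsg.Agent.Characters.CCCounting
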