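import Cfsg.Agent.Characters.CCBasic
set_option linter.all false

-- part: Characters/CCOrbit
section
/-!
# Orbits of the normalizer of a CC-subgroup on its linear characters
-/

set_option autoImplicit false

open scoped ComplexConjugate
open Cfsg

namespace Cfsg.Agent.Characters.CCOrbit

open CCBasic

universe u

variable {G : Type u} [Group G] {A : Subgroup G}

theorem comm_coe (hA : IsCC A) (a b : A) : a * b = b * a :=
  Subtype.ext (hA.comm a.2 b.2)

theorem cj_eq_self_iff [Finite G] (hA : IsCC A) {l : A → ℂ} (hl : IsIrrCharacter A l)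
    (hl1 : l ≠ 1) (x : Subgroup.normalizer (A : Set G)) : cj A x l = l ↔ (x : G) ∈ A := by
  obtain ⟨f, rfl⟩ := exists_hom_of_comm (comm_coe hA) hl
  constructor
  · intro h
    by_contra hx
    apply hl1
    let φ : A → A := fun a => a⁻¹ * A.normalizerMonoidHom x a
    have hinj : Function.Injective φ := by
      intro a b hab
      have h1 : (a : G)⁻¹ * ((x : G) * a * (x : G)⁻¹) = (b : G)⁻¹ * ((x : G) * b * (x : G)⁻¹) :=
        congrArg Subtype.val hab
      by_contra hne
      apply hx
      have hba : (b : G) * (a : G)⁻¹ ≠ 1 := by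
        intro h
        exact hne (Subtype.ext (mul_inv_eq_one.1 h).symm)
      apply hA.mem_of_comm (A.mul_mem b.2 (A.inv_mem a.2)) hba
      have h3 : (a : G)⁻¹ * x * a = (b : G)⁻¹ * x * b := by
        have := congrArg (· * (x : G)) h1
        simpa [mul_assoc] using this
      have h4 : (b : G) * ((a : G)⁻¹ * x * a) * (a : G)⁻¹ =
          (b : G) * ((b : G)⁻¹ * x * b) * (a : G)⁻¹ := by
        rw [h3]
      simpa [mul_assoc] using h4.symm
    have hsurj : Function.Surjective φ := Finite.injective_iff_surjective.1 hinj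
    funext a
    obtain ⟨b, rfl⟩ := hsurj a
    have hb : (f (A.normalizerMonoidHom x b) : ℂ) = f b := congrFun h b
    have hb' : f (A.normalizerMonoidHom x b) = f b := Units.ext hb
    simp [φ, hb']
  · intro hx
    funext a
    rw [cj_apply]
    have : A.normalizerMonoidHom x a = a := by
      apply Subtype.ext
      rw [coe_nmh, hA.comm hx a.2]
      simp
    rw [this]

/-- The number of elements of the normalizer moving `m` to `l`. -/
theorem card_cj_eq [Finite G] [Fintype (Subgroup.normalizer (A : Set G))] (hA : IsCC A)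
    {l m : A → ℂ} (hm : IsIrrCharacter A m) (hm1 : m ≠ 1)
    (x₀ : Subgroup.normalizer (A : Set G)) (hx₀ : cj A x₀ m = l) [DecidableEq (A → ℂ)] :
    (Finset.univ.filter (fun x : Subgroup.normalizer (A : Set G) => cj A x m = l)).card =
      Nat.card A := by
  classical
  have : Fintype A := Fintype.ofFinite A
  rw [Nat.card_eq_fintype_card, ← Finset.card_univ (α := A)]
  have hAN : ∀ a : A, (a : G) ∈ Subgroup.normalizer (A : Set G) := fun a =>
    Subgroup.le_normalizer a.2
  symm
  refine Finset.card_bij' (fun a _ => (⟨(a : G), hAN a⟩ : Subgroup.normalizer (A : Set G)) * x₀)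
    (fun x hx => ⟨((x * x₀⁻¹ : Subgroup.normalizer (A : Set G)) : G), ?_⟩) ?_ ?_ ?_ ?_
  · have h1 : cj A x m = l := (Finset.mem_filter.1 hx).2
    rw [← cj_eq_self_iff hA hm hm1, cj_mul, h1, ← hx₀, ← cj_mul, mul_inv_cancel, cj_one]
  · intro a _
    rw [Finset.mem_filter]
    refine ⟨Finset.mem_univ _, ?_⟩
    have h2 : cj A (⟨(a : G), hAN a⟩ : Subgroup.normalizer (A : Set G)) m = m :=
      (cj_eq_self_iff hA hm hm1 _).2 a.2
    rw [cj_mul, h2, hx₀]
  · intro x _
    exact Finset.mem_univ _
  · intro a _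
    apply Subtype.ext
    simp
  · intro x _
    apply Subtype.ext
    simp

/-- Conjugacy of functions on `A` under the normalizer. -/
def Rel (A : Subgroup G) (m l : A → ℂ) : Prop :=
  ∃ x : Subgroup.normalizer (A : Set G), cj A x m = l

theorem Rel.refl (m : A → ℂ) : Rel A m m := ⟨1, cj_one A m⟩

theorem Rel.symm {m l : A → ℂ} (h : Rel A m l) : Rel A l m := by
  obtain ⟨x, rfl⟩ := h
  exact ⟨x⁻¹, by rw [← cj_mul, mul_inv_cancel, cj_one]⟩

theorem Rel.trans {m l k : A → ℂ} (h : Rel A m l) (h' : Rel A l k) : Rel A m k := by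
  obtain ⟨x, rfl⟩ := h
  obtain ⟨y, rfl⟩ := h'
  exact ⟨x * y, by rw [cj_mul]⟩

/-- The size of an orbit times the order of `A` is the order of the normalizer. -/
theorem card_rel_mul_card [Finite G] [Fintype (IrrCharacter A)] [DecidableEq (A → ℂ)]
    (hA : IsCC A) {m : A → ℂ} (hm : IsIrrCharacter A m) (hm1 : m ≠ 1)
    [DecidablePred (fun l : IrrCharacter A => Rel A m (l : A → ℂ))] :
    (Finset.univ.filter (fun l : IrrCharacter A => Rel A m (l : A → ℂ))).card * Nat.card A =
      Nat.card (Subgroup.normalizer (A : Set G)) := by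
  classical
  have : Fintype (Subgroup.normalizer (A : Set G)) := Fintype.ofFinite _
  rw [Nat.card_eq_fintype_card (α := Subgroup.normalizer (A : Set G)), ← Finset.card_univ]
  let F : Subgroup.normalizer (A : Set G) → IrrCharacter A := fun x => ⟨cj A x m, isIrr_cj A x hm⟩
  rw [Finset.card_eq_sum_card_fiberwise (f := F)
    (t := Finset.univ.filter (fun l : IrrCharacter A => Rel A m (l : A → ℂ)))]
  · rw [Finset.sum_congr rfl (g := fun _ => Nat.card A)]
    · rw [Finset.sum_const, smul_eq_mul]
    · intro l hl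
      obtain ⟨x₀, hx₀⟩ := (Finset.mem_filter.1 hl).2
      rw [← card_cj_eq hA hm hm1 x₀ hx₀]
      congr 1
      ext x
      rw [Finset.mem_filter, Finset.mem_filter]
      constructor
      · rintro ⟨h1, h2⟩
        exact ⟨h1, congrArg Subtype.val h2⟩
      · rintro ⟨h1, h2⟩
        exact ⟨h1, Subtype.ext h2⟩
  · intro x _
    simp only [Finset.coe_filter, Set.mem_ofPred_eq, Finset.mem_univ, true_and]
    exact ⟨x, rfl⟩

/-- In odd order, a nonprincipal character of a CC-subgroup is not conjugate to its complex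
conjugate. -/
theorem not_rel_conj [Finite G] (hodd : Odd (Nat.card G)) (hA : IsCC A) {m : A → ℂ}
    (hm : IsIrrCharacter A m) (hm1 : m ≠ 1) : ¬ Rel A m (fun a => conj (m a)) := by
  rintro ⟨x, hx⟩
  have hx2 : cj A (x * x) m = m := by
    rw [cj_mul, hx]
    have : cj A x (fun a => conj (m a)) = fun a => conj (cj A x m a) := rfl
    rw [this, hx]
    funext a
    simp
  have hmem : ((x * x : Subgroup.normalizer (A : Set G)) : G) ∈ A :=
    (cj_eq_self_iff hA hm hm1 _).1 hx2
  have hxA : (x : G) ∈ A := by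
    obtain ⟨k, hk⟩ := hodd
    have h1 : (x : G) ^ Nat.card G = 1 := pow_card_eq_one'
    have h2 : (x : G) = (((x : G) * x) ^ (k + 1)) := by
      have : (((x : G) * x) ^ (k + 1)) = (x : G) ^ Nat.card G * x := by
        rw [hk, ← pow_two, ← pow_mul, ← pow_succ]
        congr 1
      rw [this, h1, one_mul]
    rw [h2]
    exact A.pow_mem hmem _
  have hreal : m = fun a => conj (m a) := by
    rw [← hx]
    exact ((cj_eq_self_iff hA hm hm1 x).2 hxA).symm
  apply hm1
  obtain ⟨f, rfl⟩ := exists_hom_of_comm (comm_coe hA) hm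
  funext a
  have h3 : conj ((f a : ℂ)) = f a := (congrFun hreal a).symm
  have h4 : ‖(f a : ℂ)‖ = 1 := Linear.norm_hom_apply f a
  have h5 : (f a : ℂ) * (f a : ℂ) = 1 := by
    have := Complex.mul_conj (f a : ℂ)
    rw [h3, Complex.normSq_eq_norm_sq, h4] at this
    simpa using this
  have h6 : (f a) * (f a) = 1 := Units.ext (by simpa using h5)
  have hoddA : Odd (Nat.card A) := by
    obtain ⟨c, hc⟩ := Subgroup.card_subgroup_dvd_card A
    rw [hc] at hodd
    exact (Nat.odd_mul.1 hodd).1
  obtain ⟨k, hk⟩ := hoddA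
  have h7 : (f a) ^ Nat.card A = 1 := by rw [← map_pow, pow_card_eq_one', map_one]
  have h8 : (f a) = 1 := by
    rw [hk, pow_succ, pow_mul, pow_two, h6, one_pow, one_mul] at h7
    exact h7
  simp [h8]

end Cfsg.Agent.Characters.CCOrbit
end

-- part: Characters/CCInduce
section
/-!
# Functions induced from a CC-subgroup
-/

set_option autoImplicit false

open scoped ComplexConjugate
open Cfsg

namespace Cfsg.Agent.Characters.CCInduce

open CCBasic CCOrbit CharactersDeep.NormalInd

universe u

variable {G : Type u} [Group G] [Fintype G] {A : Subgroup G}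

theorem indFun_apply_mem (hA : IsCC A) [Fintype (Subgroup.normalizer (A : Set G))]
    {θ : A → ℂ} (hθ : θ 1 = 0) (a : A) :
    indFun A θ (a : G) = (Nat.card A : ℂ)⁻¹ * ∑ x : Subgroup.normalizer (A : Set G), cj A x θ a := by
  classical
  by_cases ha : a = 1
  · subst ha
    rw [Subgroup.coe_one, indFun_one, hθ, mul_zero, Finset.sum_eq_zero, mul_zero]
    intro x _
    rw [cj_apply, map_one, hθ]
  · rw [indFun_apply]
    congr 1
    have ha' : (a : G) ≠ 1 := fun h => ha (Subtype.ext h)
    have h1 : ∑ x : G, extendByZero A θ (x⁻¹ * a * x) =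
        ∑ x ∈ Finset.univ.filter (fun x : G => x ∈ Subgroup.normalizer (A : Set G)),
          extendByZero A θ (x⁻¹ * a * x) := by
      symm
      apply Finset.sum_subset (Finset.filter_subset _ _)
      intro x _ hx
      apply extendByZero_of_not_mem
      intro h
      apply hx
      rw [Finset.mem_filter]
      refine ⟨Finset.mem_univ _, ?_⟩
      have h2 : x⁻¹ * a * x⁻¹⁻¹ ∈ A := by rwa [inv_inv]
      have h3 := hA.ti a.2 ha' h2
      exact (Subgroup.inv_mem_iff _).1 h3
    rw [h1, Finset.sum_subtype (Finset.univ.filter (fun x : G => x ∈ Subgroup.normalizer (A : Set G)))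
      (p := fun x => x ∈ Subgroup.normalizer (A : Set G)) (fun x => by simp)]
    refine Fintype.sum_equiv (Equiv.inv _) _ _ ?_
    intro x
    rw [cj_apply]
    have h4 : (x : G)⁻¹ * a * x = ((A.normalizerMonoidHom x⁻¹ a : A) : G) := by
      rw [coe_nmh]
      simp
    rw [h4, extendByZero_coe]
    rfl

theorem classInner_indFun_indFun (hA : IsCC A) [Fintype A]
    [Fintype (Subgroup.normalizer (A : Set G))]
    (θ : A → ℂ) {η : A → ℂ} (hη : η 1 = 0) :
    classInner (indFun A θ) (indFun A η) =
      (Nat.card A : ℂ)⁻¹ * ∑ x : Subgroup.normalizer (A : Set G), classInner θ (cj A x η) := by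
  rw [classInner_indFun A θ _ (indFun_isClassFunction A η)]
  have h : (fun a : A => indFun A η (a : G)) =
      (Nat.card A : ℂ)⁻¹ • ∑ x : Subgroup.normalizer (A : Set G), cj A x η := by
    funext a
    rw [indFun_apply_mem hA hη a, Pi.smul_apply, Finset.sum_apply, smul_eq_mul]
  rw [h, Core.classInner_smul_right, Core.classInner_sum_right]
  congr 1
  simp

open scoped Classical in
theorem avg_classInner_cj (hA : IsCC A) [Fintype A]
    [Fintype (Subgroup.normalizer (A : Set G))] {l m : A → ℂ} (hl : IsIrrCharacter A l)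
    (hm : IsIrrCharacter A m) (hm1 : m ≠ 1) :
    (Nat.card A : ℂ)⁻¹ * ∑ x : Subgroup.normalizer (A : Set G), classInner l (cj A x m) =
      if Rel A m l then 1 else 0 := by
  have hn : (Nat.card A : ℂ) ≠ 0 := Nat.cast_ne_zero.2 Nat.card_pos.ne'
  have h1 : ∀ x : Subgroup.normalizer (A : Set G), classInner l (cj A x m) =
      if cj A x m = l then 1 else 0 := by
    intro x
    rw [Core.classInner_irr hl (isIrr_cj A x hm)]
    by_cases h : l = cj A x m
    · rw [if_pos h, if_pos h.symm]
    · rw [if_neg h, if_neg (Ne.symm h)]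
  rw [Finset.sum_congr rfl (fun x _ => h1 x), ← Finset.sum_filter, Finset.sum_const,
    nsmul_eq_mul, mul_one]
  split_ifs with h
  · obtain ⟨x₀, hx₀⟩ := h
    rw [card_cj_eq hA hm hm1 x₀ hx₀, inv_mul_cancel₀ hn]
  · have : (Finset.univ.filter (fun x : Subgroup.normalizer (A : Set G) => cj A x m = l)) = ∅ := by
      rw [Finset.filter_eq_empty_iff]
      intro x _ hx
      exact h ⟨x, hx⟩
    rw [this]
    simp

open scoped Classical in
/-- Inner products of differences of induced nonprincipal linear characters. -/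
theorem classInner_indFun_sub (hA : IsCC A) {l l' m m' : A → ℂ}
    (hl : IsIrrCharacter A l) (hl' : IsIrrCharacter A l')
    (hm : IsIrrCharacter A m) (hm' : IsIrrCharacter A m') (hm1 : m ≠ 1) (hm1' : m' ≠ 1) :
    classInner (indFun A (l - l')) (indFun A (m - m')) =
      (if Rel A m l then 1 else 0) - (if Rel A m' l then 1 else 0) -
        ((if Rel A m l' then 1 else 0) - (if Rel A m' l' then 1 else 0)) := by
  have : Fintype A := Fintype.ofFinite A
  have : Fintype (Subgroup.normalizer (A : Set G)) := Fintype.ofFinite _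
  have hη : (m - m') 1 = 0 := by
    rw [Pi.sub_apply, irr_apply_one_of_comm (comm_coe hA) hm,
      irr_apply_one_of_comm (comm_coe hA) hm', sub_self]
  rw [classInner_indFun_indFun hA _ hη]
  rw [← avg_classInner_cj hA hl hm hm1, ← avg_classInner_cj hA hl hm' hm1',
    ← avg_classInner_cj hA hl' hm hm1, ← avg_classInner_cj hA hl' hm' hm1']
  rw [← mul_sub, ← mul_sub, ← mul_sub, ← Finset.sum_sub_distrib, ← Finset.sum_sub_distrib,
    ← Finset.sum_sub_distrib]
  congr 1
  refine Finset.sum_congr rfl (fun x _ => ?_)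
  rw [cj_sub, Core.classInner_sub_right, Core.classInner_sub_left, Core.classInner_sub_left]
  ring

theorem indFun_eq_zero_of_not_conj {η : A → ℂ} (hη : η 1 = 0) {y : G}
    (hy : ∀ x : G, x ≠ 1 → x ∈ A → ¬ IsConj x y) : indFun A η y = 0 := by
  rw [indFun_apply, Finset.sum_eq_zero, mul_zero]
  intro x _
  by_cases h : x⁻¹ * y * x ∈ A
  · by_cases h1 : x⁻¹ * y * x = 1
    · rw [h1]
      have := extendByZero_coe A η 1
      rw [Subgroup.coe_one] at this
      rw [this, hη]
    · exfalso
      apply hy _ h1 h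
      rw [isConj_iff]
      exact ⟨x, by group⟩
  · exact extendByZero_of_not_mem A η h

theorem indFun_sub (θ η : A → ℂ) : indFun A (θ - η) = indFun A θ - indFun A η := by
  funext g
  rw [Pi.sub_apply, indFun_apply, indFun_apply, indFun_apply, ← mul_sub, ← Finset.sum_sub_distrib]
  congr 1
  refine Finset.sum_congr rfl (fun x _ => ?_)
  by_cases h : x⁻¹ * g * x ∈ A
  · rw [extendByZero_of_mem A _ h, extendByZero_of_mem A _ h, extendByZero_of_mem A _ h]
    rfl
  · rw [extendByZero_of_not_mem A _ h, extendByZero_of_not_mem A _ h,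
      extendByZero_of_not_mem A _ h, sub_zero]

theorem indFun_cj (x : Subgroup.normalizer (A : Set G)) (θ : A → ℂ) :
    indFun A (cj A x θ) = indFun A θ := by
  funext g
  rw [indFun_apply, indFun_apply]
  congr 1
  refine Fintype.sum_equiv (Equiv.mulRight (x : G)⁻¹) _ _ ?_
  intro y
  simp only [Equiv.coe_mulRight]
  have h0 : (y * (x : G)⁻¹)⁻¹ * g * (y * (x : G)⁻¹) = (x : G) * (y⁻¹ * g * y) * (x : G)⁻¹ := by
    group
  rw [h0]
  by_cases h : y⁻¹ * g * y ∈ A
  · have h2 : (x : G) * (y⁻¹ * g * y) * (x : G)⁻¹ ∈ A :=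
      (Subgroup.mem_normalizer_iff.1 x.2 _).1 h
    rw [extendByZero_of_mem A _ h, extendByZero_of_mem A _ h2]
    rfl
  · have h2 : (x : G) * (y⁻¹ * g * y) * (x : G)⁻¹ ∉ A := fun h3 =>
      h ((Subgroup.mem_normalizer_iff.1 x.2 _).2 h3)
    rw [extendByZero_of_not_mem A _ h, extendByZero_of_not_mem A _ h2]

theorem indFun_eq_of_rel {m l : A → ℂ} (h : Rel A m l) : indFun A l = indFun A m := by
  obtain ⟨x, rfl⟩ := h
  exact indFun_cj x m

end Cfsg.Agent.Characters.CCInduce
end
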